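import Mathlib

set_option autoImplicit false

namespace Cfsg.Agent.Lib.Helper1

open scoped commutatorElement

/-- the commutator subgroup centralizes every cyclic normal subgroup -/
theorem comm_le_centralizer_zpowers {Q : Type*} [Group Q] (c : Q)
    (hn : (Subgroup.zpowers c).Normal) :
    commutator Q ≤ Subgroup.centralizer (Subgroup.zpowers c : Set Q) := by
  rw [commutator_def, Subgroup.commutator_le]
  intro x _ y _
  have hx := hn.conj_mem c (Subgroup.mem_zpowers c) x⁻¹
  have hy := hn.conj_mem c (Subgroup.mem_zpowers c) y⁻¹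
  rw [inv_inv] at hx hy
  obtain ⟨a, ha⟩ := Subgroup.mem_zpowers_iff.1 hx
  obtain ⟨b, hb⟩ := Subgroup.mem_zpowers_iff.1 hy
  have h1 : x⁻¹ * (y⁻¹ * c * y) * x = c ^ (a * b) := by
    rw [← hb]
    have h : x⁻¹ * c ^ b * x = (x⁻¹ * c * x) ^ b := by
      have h' := conj_zpow (a := x⁻¹) (b := c) (i := b)
      rw [inv_inv] at h'
      exact h'.symm
    rw [h, ← ha, ← zpow_mul]
  have h2 : y⁻¹ * (x⁻¹ * c * x) * y = c ^ (a * b) := by
    rw [← ha]
    have h : y⁻¹ * c ^ a * y = (y⁻¹ * c * y) ^ a := by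
      have h' := conj_zpow (a := y⁻¹) (b := c) (i := a)
      rw [inv_inv] at h'
      exact h'.symm
    rw [h, ← hb, ← zpow_mul, mul_comm]
  have h3 : ⁅x, y⁆ * c = c * ⁅x, y⁆ := by
    rw [commutatorElement_def]
    have e := h1.trans h2.symm
    calc x * y * x⁻¹ * y⁻¹ * c = x * y * (x⁻¹ * (y⁻¹ * c * y) * x) * x⁻¹ * y⁻¹ := by group
      _ = x * y * (y⁻¹ * (x⁻¹ * c * x) * y) * x⁻¹ * y⁻¹ := by rw [e]
      _ = c * (x * y * x⁻¹ * y⁻¹) := by group
  rw [Subgroup.mem_centralizer_iff]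
  intro h hh
  obtain ⟨k, rfl⟩ := Subgroup.mem_zpowers_iff.1 hh
  have hc : Commute c ⁅x, y⁆ := h3.symm
  exact (hc.zpow_left k).eq

theorem map_commutator_le {G H : Type*} [Group G] [Group H] (f : G →* H) :
    commutator G ≤ (commutator H).comap f := by
  rw [commutator_def, Subgroup.commutator_le]
  intro a _ b _
  show f ⁅a, b⁆ ∈ commutator H
  rw [map_commutatorElement, commutator_def]
  exact Subgroup.commutator_mem_commutator (Subgroup.mem_top _) (Subgroup.mem_top _)

end Cfsg.Agent.Lib.Helper1
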