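import Mathlib
import Cfsg.Prelude.Def_SolvableStructure
import Cfsg.Agent.Lib.Helper1.Cyc

set_option autoImplicit false

namespace Cfsg.Agent.Lib.Helper1

/-- subgroups reachable from `⊥` by a chain of normal subgroups with cyclic steps -/
inductive SSReach {G : Type*} [Group G] : Subgroup G → Prop
  | bot : SSReach ⊥
  | step (A : Subgroup G) (g : G) : SSReach A → A.Normal → (A ⊔ Subgroup.zpowers g).Normal →
      SSReach (A ⊔ Subgroup.zpowers g)

theorem SSReach.normal {G : Type*} [Group G] {A : Subgroup G} (h : SSReach A) : A.Normal := by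
  cases h with
  | bot => exact Subgroup.normal_bot
  | step A g _ _ hB => exact hB

theorem chain_of_reach {G : Type*} [Group G] {A : Subgroup G} (h : SSReach A) :
    ∃ (n : ℕ) (H : Fin (n + 1) → Subgroup G),
      H 0 = ⊥ ∧ H (Fin.last n) = A ∧ (∀ i, (H i).Normal) ∧
        ∀ i : Fin n, ∃ g : G, H i.succ = H i.castSucc ⊔ Subgroup.zpowers g := by
  induction h with
  | bot => exact ⟨0, fun _ => ⊥, rfl, rfl, fun _ => Subgroup.normal_bot, fun i => i.elim0⟩
  | step A g hA hAn hBn ih =>
    obtain ⟨n, H, h0, hl, hn, hs⟩ := ih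
    refine ⟨n + 1, Fin.snoc (α := fun _ => Subgroup G) H (A ⊔ Subgroup.zpowers g), ?_, ?_, ?_, ?_⟩
    · rw [← Fin.castSucc_zero, Fin.snoc_castSucc]
      exact h0
    · rw [Fin.snoc_last]
    · intro i
      refine Fin.lastCases ?_ (fun j => ?_) i
      · rw [Fin.snoc_last]; exact hBn
      · rw [Fin.snoc_castSucc]; exact hn j
    · intro i
      refine Fin.lastCases ?_ (fun j => ?_) i
      · refine ⟨g, ?_⟩
        rw [Fin.succ_last, Fin.snoc_last, Fin.snoc_castSucc, hl]
      · obtain ⟨g', hg'⟩ := hs j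
        refine ⟨g', ?_⟩
        rw [Fin.succ_castSucc, Fin.snoc_castSucc, Fin.snoc_castSucc]
        exact hg'

theorem ss_iff {G : Type*} [Group G] : Cfsg.IsSupersolvable G ↔ SSReach (⊤ : Subgroup G) := by
  constructor
  · rintro ⟨n, H, h0, hlast, hn, hstep⟩
    have key : ∀ i (hi : i < n + 1), SSReach (H ⟨i, hi⟩) := by
      intro i
      induction i with
      | zero =>
        intro _
        have : H ⟨0, by omega⟩ = ⊥ := h0
        rw [this]
        exact SSReach.bot
      | succ i ih =>
        intro hi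
        obtain ⟨g, hg⟩ := hstep ⟨i, by omega⟩
        have hg' : H ⟨i + 1, hi⟩ = H ⟨i, by omega⟩ ⊔ Subgroup.zpowers g := hg
        rw [hg']
        exact SSReach.step _ g (ih (by omega)) (hn _) (hg' ▸ hn _)
    have h1 := key n (by omega)
    have h2 : H ⟨n, by omega⟩ = ⊤ := hlast
    rw [h2] at h1
    exact h1
  · intro h
    obtain ⟨n, H, h0, hl, hn, hs⟩ := chain_of_reach h
    exact ⟨n, H, h0, hl, hn, hs⟩

theorem SSReach.map {G G' : Type*} [Group G] [Group G'] {f : G →* G'}
    (hf : Function.Surjective f) {A : Subgroup G} (h : SSReach A) : SSReach (A.map f) := by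
  induction h with
  | bot => rw [Subgroup.map_bot]; exact SSReach.bot
  | step A g hA hAn hBn ih =>
    rw [Subgroup.map_sup, MonoidHom.map_zpowers]
    refine SSReach.step _ _ ih (hAn.map f hf) ?_
    rw [← MonoidHom.map_zpowers, ← Subgroup.map_sup]
    exact hBn.map f hf

theorem ss_of_surjective {G G' : Type*} [Group G] [Group G'] (f : G →* G')
    (hf : Function.Surjective f) (h : Cfsg.IsSupersolvable G) : Cfsg.IsSupersolvable G' := by
  rw [ss_iff] at h ⊢
  have h1 := h.map hf
  rw [Subgroup.map_top_of_surjective f hf] at h1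
  exact h1

theorem comap_sup_zpowers {G Q : Type*} [Group G] [Group Q] (f : G →* Q) (B : Subgroup Q)
    [B.Normal] (g : G) :
    (B ⊔ Subgroup.zpowers (f g)).comap f = B.comap f ⊔ Subgroup.zpowers g := by
  apply le_antisymm
  · intro x hx
    have hx' : f x ∈ B ⊔ Subgroup.zpowers (f g) := hx
    rw [← SetLike.mem_coe, Subgroup.normal_mul] at hx'
    obtain ⟨b, hb, z, hz, e⟩ := hx'
    obtain ⟨k, rfl⟩ := Subgroup.mem_zpowers_iff.1 hz
    have e : b * f g ^ k = f x := e
    have h1 : x = (x * (g ^ k)⁻¹) * g ^ k := by group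
    rw [h1]
    refine mul_mem (Subgroup.mem_sup_left ?_)
      (Subgroup.mem_sup_right (Subgroup.zpow_mem_zpowers g k))
    show f (x * (g ^ k)⁻¹) ∈ B
    rw [map_mul, map_inv, map_zpow, ← e, mul_inv_cancel_right]
    exact hb
  · apply sup_le (Subgroup.comap_mono le_sup_left)
    rw [Subgroup.zpowers_le]
    exact Subgroup.mem_sup_right (Subgroup.mem_zpowers (f g))

theorem SSReach.comap {G Q : Type*} [Group G] [Group Q] {f : G →* Q}
    (hf : Function.Surjective f) (hker : SSReach f.ker) {B : Subgroup Q} (h : SSReach B) :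
    SSReach (B.comap f) := by
  induction h with
  | bot => rw [MonoidHom.comap_bot]; exact hker
  | step B q hB hBn hB'n ih =>
    obtain ⟨g, rfl⟩ := hf q
    haveI := hBn
    rw [comap_sup_zpowers]
    refine SSReach.step _ g ih (hBn.comap f) ?_
    rw [← comap_sup_zpowers]
    exact hB'n.comap f

theorem ss_of_subsingleton {G : Type*} [Group G] [Subsingleton G] : Cfsg.IsSupersolvable G := by
  rw [ss_iff]
  have : (⊤ : Subgroup G) = ⊥ := Subsingleton.elim _ _
  rw [this]
  exact SSReach.bot

/-- an extension of a cyclic normal subgroup by a supersolvable group is supersolvable -/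
theorem ss_of_cyclic_normal {G : Type*} [Group G] (N : Subgroup G) [N.Normal] [IsCyclic N]
    (h : Cfsg.IsSupersolvable (G ⧸ N)) : Cfsg.IsSupersolvable G := by
  rw [ss_iff] at h ⊢
  have hker : SSReach (QuotientGroup.mk' N).ker := by
    rw [QuotientGroup.ker_mk']
    obtain ⟨g, hg⟩ := (Subgroup.isCyclic_iff_exists_zpowers_eq_top N).1 inferInstance
    have h1 : N = ⊥ ⊔ Subgroup.zpowers g := by rw [bot_sup_eq, hg]
    have h2 : SSReach ((⊥ : Subgroup G) ⊔ Subgroup.zpowers g) :=
      SSReach.step ⊥ g SSReach.bot Subgroup.normal_bot (h1 ▸ inferInstance)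
    rw [← h1] at h2
    exact h2
  have h1 := SSReach.comap (QuotientGroup.mk'_surjective N) hker h
  rw [Subgroup.comap_top] at h1
  exact h1

/-- the preimage of a cyclic subgroup is generated by the kernel and one element -/
theorem comap_zpowers_eq {K Q : Type*} [Group K] [Group Q] (φ : K →* Q) (c : Q) :
    ∃ k0 : K, (Subgroup.zpowers c).comap φ = φ.ker ⊔ Subgroup.zpowers k0 := by
  have hle : ((Subgroup.zpowers c).comap φ).map φ ≤ Subgroup.zpowers c := Subgroup.map_comap_le _ _
  haveI : IsCyclic (((Subgroup.zpowers c).comap φ).map φ) := Subgroup.isCyclic_of_le hle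
  obtain ⟨d, hd⟩ := (Subgroup.isCyclic_iff_exists_zpowers_eq_top
    (((Subgroup.zpowers c).comap φ).map φ)).1 inferInstance
  have hdm : d ∈ ((Subgroup.zpowers c).comap φ).map φ := by
    rw [← hd]; exact Subgroup.mem_zpowers d
  obtain ⟨k0, hk0, rfl⟩ := hdm
  refine ⟨k0, ?_⟩
  apply le_antisymm
  · intro x hx
    have h1 : φ x ∈ Subgroup.zpowers (φ k0) := by
      rw [hd]; exact ⟨x, hx, rfl⟩
    obtain ⟨j, hj⟩ := Subgroup.mem_zpowers_iff.1 h1
    have h2 : x = (x * (k0 ^ j)⁻¹) * k0 ^ j := by group
    rw [h2]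
    refine mul_mem (Subgroup.mem_sup_left ?_)
      (Subgroup.mem_sup_right (Subgroup.zpow_mem_zpowers k0 j))
    rw [MonoidHom.mem_ker, map_mul, map_inv, map_zpow, hj, mul_inv_cancel]
  · apply sup_le
    · intro x hx
      show φ x ∈ Subgroup.zpowers c
      rw [MonoidHom.mem_ker.1 hx]
      exact one_mem _
    · rw [Subgroup.zpowers_le]
      exact hk0

theorem SSReach.subgroupOf {G : Type*} [Group G] (K : Subgroup G) {A : Subgroup G}
    (h : SSReach A) : SSReach (A.subgroupOf K) := by
  induction h with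
  | bot =>
    have : (⊥ : Subgroup G).subgroupOf K = ⊥ := by simp
    rw [this]
    exact SSReach.bot
  | step A g hA hAn hBn ih =>
    haveI := hAn
    obtain ⟨k0, hk0⟩ := comap_zpowers_eq ((QuotientGroup.mk' A).comp K.subtype)
      (QuotientGroup.mk' A g)
    have h1 : (A ⊔ Subgroup.zpowers g).subgroupOf K =
        (Subgroup.zpowers (QuotientGroup.mk' A g)).comap ((QuotientGroup.mk' A).comp K.subtype) := by
      ext x
      rw [Subgroup.mem_subgroupOf, Subgroup.mem_comap]
      constructor
      · intro hx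
        rw [← SetLike.mem_coe, Subgroup.normal_mul] at hx
        obtain ⟨a, ha, z, hz, e⟩ := hx
        obtain ⟨k, rfl⟩ := Subgroup.mem_zpowers_iff.1 hz
        have e : a * g ^ k = (x : G) := e
        refine Subgroup.mem_zpowers_iff.2 ⟨k, ?_⟩
        show (QuotientGroup.mk' A g) ^ k = QuotientGroup.mk' A (x : G)
        rw [← e, map_mul, map_zpow]
        have : QuotientGroup.mk' A a = 1 := (QuotientGroup.eq_one_iff a).2 ha
        rw [this, one_mul]
      · intro hx
        obtain ⟨k, hk⟩ := Subgroup.mem_zpowers_iff.1 hx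
        have hk' : QuotientGroup.mk' A (g ^ k) = QuotientGroup.mk' A (x : G) := by
          rw [map_zpow]; exact hk
        have h2 : (g ^ k)⁻¹ * (x : G) ∈ A := QuotientGroup.eq.1 hk'
        have h3 : (x : G) = g ^ k * ((g ^ k)⁻¹ * (x : G)) := by group
        rw [h3]
        exact mul_mem (Subgroup.mem_sup_right (Subgroup.zpow_mem_zpowers g k))
          (Subgroup.mem_sup_left h2)
    have h2 : ((QuotientGroup.mk' A).comp K.subtype).ker = A.subgroupOf K := by
      ext x
      rw [MonoidHom.mem_ker, Subgroup.mem_subgroupOf]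
      exact QuotientGroup.eq_one_iff (x : G)
    rw [h1, hk0, h2]
    refine SSReach.step _ k0 ih inferInstance ?_
    rw [← h2, ← hk0, ← h1]
    infer_instance

theorem ss_subgroup {G : Type*} [Group G] (h : Cfsg.IsSupersolvable G) (K : Subgroup G) :
    Cfsg.IsSupersolvable K := by
  rw [ss_iff] at h ⊢
  have h1 := h.subgroupOf K
  have h2 : (⊤ : Subgroup G).subgroupOf K = ⊤ := by simp
  rw [h2] at h1
  exact h1

theorem SSReach.mapInl {G H : Type*} [Group G] [Group H] {A : Subgroup G} (h : SSReach A) :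
    SSReach (A.map (MonoidHom.inl G H)) := by
  have hprod : ∀ B : Subgroup G, B.map (MonoidHom.inl G H) = B.prod ⊥ := by
    intro B
    ext ⟨x, y⟩
    constructor
    · rintro ⟨b, hb, e⟩
      have e1 : b = x := congrArg Prod.fst e
      have e2 : (1 : H) = y := congrArg Prod.snd e
      rw [Subgroup.mem_prod]
      exact ⟨e1 ▸ hb, by rw [Subgroup.mem_bot]; exact e2.symm⟩
    · intro hxy
      rw [Subgroup.mem_prod] at hxy
      have h2 : y = 1 := Subgroup.mem_bot.1 hxy.2
      subst h2
      exact ⟨x, hxy.1, rfl⟩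
  induction h with
  | bot => rw [Subgroup.map_bot]; exact SSReach.bot
  | step A g hA hAn hBn ih =>
    rw [Subgroup.map_sup, MonoidHom.map_zpowers]
    haveI := hAn
    haveI := hBn
    refine SSReach.step _ _ ih ?_ ?_
    · rw [hprod]; infer_instance
    · rw [← MonoidHom.map_zpowers, ← Subgroup.map_sup, hprod]; infer_instance

theorem ss_prod {G H : Type*} [Group G] [Group H] (hG : Cfsg.IsSupersolvable G)
    (hH : Cfsg.IsSupersolvable H) : Cfsg.IsSupersolvable (G × H) := by
  rw [ss_iff] at hG hH ⊢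
  have h1 := hG.mapInl (H := H)
  have hker : SSReach (MonoidHom.snd G H).ker := by
    have e : (MonoidHom.snd G H).ker = (⊤ : Subgroup G).map (MonoidHom.inl G H) := by
      ext ⟨x, y⟩
      rw [MonoidHom.mem_ker]
      constructor
      · intro hy
        have hy' : y = 1 := hy
        subst hy'
        exact ⟨x, Subgroup.mem_top x, rfl⟩
      · rintro ⟨b, _, e⟩
        have e2 : (1 : H) = y := congrArg Prod.snd e
        exact e2.symm
    rw [e]; exact h1
  have h2 := SSReach.comap (f := MonoidHom.snd G H) (fun y => ⟨(1, y), rfl⟩) hker hH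
  rw [Subgroup.comap_top] at h2
  exact h2


theorem exists_normal_prime_card_of_reach {G : Type*} [Group G] [Finite G] {A : Subgroup G}
    (h : SSReach A) (hA : A ≠ ⊥) :
    ∃ N : Subgroup G, N.Normal ∧ N ≤ A ∧ (Nat.card N).Prime := by
  induction h with
  | bot => exact absurd rfl hA
  | step A g hA' hAn hBn ih =>
    by_cases hAb : A = ⊥
    · subst hAb
      rw [bot_sup_eq] at hA hBn ⊢
      have hg1 : g ≠ 1 := by
        intro h1
        apply hA
        rw [h1]
        exact Subgroup.zpowers_one_eq_bot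
      have hord : orderOf g ≠ 1 := by rwa [Ne, orderOf_eq_one_iff]
      have hpos : 0 < orderOf g := orderOf_pos g
      have hpp : (orderOf g).minFac.Prime := Nat.minFac_prime hord
      have hpd : (orderOf g).minFac ∣ orderOf g := Nat.minFac_dvd _
      have hmd : orderOf g / (orderOf g).minFac ∣ orderOf g := Nat.div_dvd_of_dvd hpd
      have hm0 : orderOf g / (orderOf g).minFac ≠ 0 :=
        (Nat.div_pos (Nat.le_of_dvd hpos hpd) hpp.pos).ne'
      have hordm : orderOf (g ^ (orderOf g / (orderOf g).minFac)) = (orderOf g).minFac := by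
        rw [orderOf_pow_of_dvd hm0 hmd, Nat.div_div_self hpd hpos.ne']
      generalize orderOf g / (orderOf g).minFac = m at *
      refine ⟨Subgroup.zpowers (g ^ m), ?_, ?_, ?_⟩
      · refine ⟨fun y hy x => ?_⟩
        obtain ⟨k, rfl⟩ := Subgroup.mem_zpowers_iff.1 hy
        obtain ⟨a, ha⟩ := Subgroup.mem_zpowers_iff.1 (hBn.conj_mem g (Subgroup.mem_zpowers g) x)
        have e1 : x * g ^ m * x⁻¹ = (g ^ m) ^ a := by
          rw [← conj_pow, ← ha, ← zpow_natCast, ← zpow_mul, mul_comm, zpow_mul, zpow_natCast]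
        have e2 : x * (g ^ m) ^ k * x⁻¹ = ((g ^ m) ^ a) ^ k := by
          rw [← conj_zpow, e1]
        rw [e2]
        exact zpow_mem (Subgroup.zpow_mem_zpowers _ a) k
      · rw [Subgroup.zpowers_le]
        exact pow_mem (Subgroup.mem_zpowers g) m
      · rw [Nat.card_zpowers, hordm]
        exact hpp
    · obtain ⟨N, hN, hle, hc⟩ := ih hAb
      exact ⟨N, hN, hle.trans le_sup_left, hc⟩

theorem exists_normal_prime_card {G : Type*} [Group G] [Finite G] [Nontrivial G]
    (h : Cfsg.IsSupersolvable G) : ∃ N : Subgroup G, N.Normal ∧ (Nat.card N).Prime := by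
  rw [ss_iff] at h
  obtain ⟨N, hN, _, hc⟩ := exists_normal_prime_card_of_reach h top_ne_bot
  exact ⟨N, hN, hc⟩

theorem card_quotient_mul {G : Type*} [Group G] (N : Subgroup G) [N.Normal] :
    Nat.card (G ⧸ N) * Nat.card N = Nat.card G :=
  (Subgroup.card_eq_card_quotient_mul_card_subgroup N).symm

theorem card_quotient_lt {G : Type*} [Group G] [Finite G] (N : Subgroup G) [N.Normal]
    (h : (Nat.card N).Prime) : Nat.card (G ⧸ N) < Nat.card G := by
  have h1 := card_quotient_mul N
  have h2 := h.two_le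
  have h3 : 0 < Nat.card (G ⧸ N) := Nat.card_pos
  nlinarith

theorem ss_quotient {G : Type*} [Group G] (h : Cfsg.IsSupersolvable G) (N : Subgroup G)
    [N.Normal] : Cfsg.IsSupersolvable (G ⧸ N) :=
  ss_of_surjective (QuotientGroup.mk' N) (QuotientGroup.mk'_surjective N) h

end Cfsg.Agent.Lib.Helper1
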