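import Mathlib
import Cfsg.Prelude.Def_SolvableStructure
import Cfsg.Agent.Lib.Helper1.SS
import Cfsg.Agent.Lib.Helper1.Basic

set_option autoImplicit false

namespace Cfsg.Agent.Lib.Helper1

universe u

theorem card_comap_mk' {G : Type*} [Group G] [Finite G] (N : Subgroup G) [N.Normal]
    (K' : Subgroup (G ⧸ N)) :
    Nat.card (K'.comap (QuotientGroup.mk' N)) = Nat.card K' * Nat.card N := by
  have hsurj := QuotientGroup.mk'_surjective N
  have hcard := card_quotient_mul N
  have h1 := Subgroup.index_comap_of_surjective K' hsurj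
  have h2 := Subgroup.card_mul_index (K'.comap (QuotientGroup.mk' N))
  have h3 := Subgroup.card_mul_index K'
  have hpos : 0 < K'.index := Nat.pos_of_ne_zero Subgroup.index_ne_zero_of_finite
  rw [h1] at h2
  have h4 : Nat.card (K'.comap (QuotientGroup.mk' N)) * K'.index =
      (Nat.card K' * Nat.card N) * K'.index := by
    rw [h2, ← hcard, ← h3]; ring
  exact Nat.eq_of_mul_eq_mul_right hpos h4

theorem clt_of_mulEquiv {G H : Type*} [Group G] [Group H] (e : G ≃* H)
    (h : Cfsg.HasSubgroupOfEveryOrder G) : Cfsg.HasSubgroupOfEveryOrder H := by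
  intro d hd
  rw [← Nat.card_congr e.toEquiv] at hd
  obtain ⟨K, hK⟩ := h d hd
  refine ⟨K.map e.toMonoidHom, ?_⟩
  rw [Subgroup.card_map_of_injective (f := e.toMonoidHom) e.injective]
  exact hK

theorem sylow_map_normal {G : Type*} [Group G] [Finite G] (M : Subgroup G) [M.Normal] {p : ℕ}
    [Fact p.Prime] (Q : Sylow p M) (hQ : (Q : Subgroup M).Normal) :
    ((Q : Subgroup M).map M.subtype).Normal := by
  haveI := Sylow.characteristic_of_normal Q hQ
  exact ConjAct.normal_of_characteristic_of_normal

/-- If every subgroup satisfies the converse of Lagrange's theorem, Sylow subgroups for the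
largest prime are normal. -/
theorem clt_sylow_normal : ∀ n : ℕ, ∀ (G : Type u) [Group G] [Finite G], Nat.card G = n →
    (∀ H : Subgroup G, Cfsg.HasSubgroupOfEveryOrder H) → ∀ (p : ℕ) [Fact p.Prime],
    p ∣ Nat.card G → (∀ q : ℕ, q.Prime → q ∣ Nat.card G → q ≤ p) →
    ∀ P : Sylow p G, (P : Subgroup G).Normal := by
  intro n
  induction n using Nat.strong_induction_on with
  | _ n ih =>
    intro G _ _ hn h p _ hdvd hmax P
    have hp := Fact.out (p := p.Prime)
    have hne1 : Nat.card G ≠ 1 := by
      intro h1
      rw [h1] at hdvd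
      exact hp.one_lt.ne' (Nat.dvd_one.1 hdvd)
    have hq := Nat.minFac_prime hne1
    have hqd := Nat.minFac_dvd (Nat.card G)
    have hqp := hmax _ hq hqd
    obtain ⟨d, hd⟩ := hqd
    have hclt : Cfsg.HasSubgroupOfEveryOrder G := clt_of_mulEquiv Subgroup.topEquiv (h ⊤)
    obtain ⟨K, hK⟩ := hclt d ⟨(Nat.card G).minFac, by rw [mul_comm]; exact hd⟩
    have hKidx : K.index = (Nat.card G).minFac := by
      have h1 := Subgroup.card_mul_index K
      rw [hK] at h1
      have hdpos : 0 < d := by
        rcases Nat.eq_zero_or_pos d with h0 | h0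
        · rw [h0, mul_zero] at hd
          exact absurd hd Nat.card_pos.ne'
        · exact h0
      have h2 : d * K.index = d * (Nat.card G).minFac := by rw [h1, mul_comm]; exact hd
      exact Nat.eq_of_mul_eq_mul_left hdpos h2
    haveI hKn : K.Normal := Subgroup.normal_of_index_eq_minFac_card hKidx
    rcases hqp.lt_or_eq with hlt | heq
    · have hcK : Nat.card K * (Nat.card G).minFac = Nat.card G := by
        rw [← hKidx]; exact Subgroup.card_mul_index K
      have hpK : p ∣ Nat.card K := by
        rw [← hcK] at hdvd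
        rcases (Nat.Prime.dvd_mul hp).1 hdvd with h1 | h1
        · exact h1
        · have := (Nat.prime_dvd_prime_iff_eq hp hq).1 h1
          omega
      have hKlt : Nat.card K < n := by
        rw [← hn, ← hcK]
        have h2 := hq.two_le
        have h3 : 0 < Nat.card K := Nat.card_pos
        nlinarith
      have hKclt : ∀ L : Subgroup K, Cfsg.HasSubgroupOfEveryOrder L := fun L =>
        clt_of_mulEquiv (L.equivMapOfInjective K.subtype K.subtype_injective).symm
          (h (L.map K.subtype))
      have hKmax : ∀ r : ℕ, r.Prime → r ∣ Nat.card K → r ≤ p := fun r hr hrd =>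
        hmax r hr (hrd.trans (Subgroup.card_subgroup_dvd_card K))
      obtain Q : Sylow p K := default
      have hQn := ih _ hKlt K rfl hKclt p hpK hKmax Q
      have hQG := sylow_map_normal K Q hQn
      have hQp : IsPGroup p ((Q : Subgroup K).map K.subtype) := Q.isPGroup'.map K.subtype
      have hQi : ¬ p ∣ ((Q : Subgroup K).map K.subtype).index := by
        rw [Subgroup.index_map_subtype, hKidx]
        intro hd
        rcases (Nat.Prime.dvd_mul hp).1 hd with h1 | h1
        · exact Q.not_dvd_index h1
        · have := (Nat.prime_dvd_prime_iff_eq hp hq).1 h1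
          omega
      have hu := Sylow.unique_of_normal (hQp.toSylow hQi)
        (by rw [IsPGroup.toSylow_coe]; exact hQG)
      have hPQ : P = hQp.toSylow hQi := Subsingleton.elim _ _
      rw [hPQ, IsPGroup.toSylow_coe]
      exact hQG
    · have hall : ∀ {r : ℕ}, r.Prime → r ∣ Nat.card G → r = p := by
        intro r hr hrd
        have h1 := Nat.minFac_le_of_dvd hr.two_le hrd
        have h2 := hmax r hr hrd
        omega
      have hpow := Nat.eq_prime_pow_of_unique_prime_dvd Nat.card_pos.ne' hall
      have hidx : (P : Subgroup G).index ∣ p ^ (Nat.card G).primeFactorsList.length := by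
        rw [← hpow]; exact Subgroup.index_dvd_card _
      obtain ⟨j, -, hj⟩ := (Nat.dvd_prime_pow hp).1 hidx
      have hj0 : j = 0 := by
        by_contra hj0
        exact P.not_dvd_index (by rw [hj]; exact dvd_pow_self p hj0)
      rw [hj0, pow_zero, Subgroup.index_eq_one] at hj
      rw [hj]
      exact Subgroup.normal_top

/-- a nontrivial normal subgroup inside a `p`-subgroup `P` contains a nontrivial element
centralizing `P` -/
theorem exists_central_of_normal_pgroup {G : Type*} [Group G] [Finite G] {p : ℕ} [Fact p.Prime]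
    (P Q : Subgroup G) (hP : IsPGroup p P) [Q.Normal] (hQP : Q ≤ P) (hQ : Q ≠ ⊥) :
    ∃ b ∈ Q, b ≠ 1 ∧ ∀ x ∈ P, x * b = b * x := by
  letI : MulAction P Q := MulAction.compHom Q ((MulAut.conjNormal (H := Q)).comp P.subtype)
  have hQp : IsPGroup p Q := hP.to_le hQP
  have hdvd : p ∣ Nat.card Q := by
    rcases hQp.card_eq_or_dvd with h | h
    · exact absurd (Subgroup.card_eq_one.1 h) hQ
    · exact h
  have h1 : (1 : Q) ∈ MulAction.fixedPoints P Q := by
    intro x
    apply Subtype.ext
    show ((MulAut.conjNormal (x : G) (1 : Q) : Q) : G) = 1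
    rw [MulAut.conjNormal_apply]
    simp
  obtain ⟨b, hb, hne⟩ := hP.exists_fixed_point_of_prime_dvd_card_of_fixed_point Q hdvd h1
  refine ⟨b, b.2, fun h => hne (Subtype.ext h.symm), fun x hx => ?_⟩
  have h3 := hb ⟨x, hx⟩
  have h2 : ((MulAut.conjNormal (x : G) b : Q) : G) = b := congrArg Subtype.val h3
  rw [MulAut.conjNormal_apply] at h2
  calc x * b = x * b * x⁻¹ * x := by group
    _ = b * x := by rw [h2]

theorem card_map_of_disjoint_ker {G G' : Type*} [Group G] [Group G'] (f : G →* G')
    (K : Subgroup G) (h : K ⊓ f.ker = ⊥) : Nat.card (K.map f) = Nat.card K := by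
  have hinj : Function.Injective (f.comp K.subtype) := by
    rw [← MonoidHom.ker_eq_bot_iff, eq_bot_iff]
    intro x hx
    have h1 : (x : G) ∈ K ⊓ f.ker := ⟨x.2, hx⟩
    rw [h, Subgroup.mem_bot] at h1
    exact Subtype.ext h1
  have e : K.map f = (f.comp K.subtype).range := by
    rw [MonoidHom.range_comp, Subgroup.range_subtype]
  rw [e]
  exact (Nat.card_congr (MonoidHom.ofInjective hinj).toEquiv).symm

/-- in a finite supersolvable group every nontrivial normal subgroup contains a normal subgroup
of prime order -/
theorem exists_normal_prime_card_le : ∀ n : ℕ, ∀ (H : Type u) [Group H] [Finite H],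
    Nat.card H = n → Cfsg.IsSupersolvable H → ∀ Z : Subgroup H, Z.Normal → Z ≠ ⊥ →
    ∃ N : Subgroup H, N.Normal ∧ N ≤ Z ∧ (Nat.card N).Prime := by
  intro n
  induction n using Nat.strong_induction_on with
  | _ n ih =>
    intro H _ _ hn hH Z hZ hZne
    haveI : Nontrivial H := by
      by_contra hnt
      rw [not_nontrivial_iff_subsingleton] at hnt
      exact hZne (Subsingleton.elim _ _)
    obtain ⟨N1, hN1, hq⟩ := exists_normal_prime_card hH
    by_cases hle : N1 ≤ Z
    · exact ⟨N1, hN1, hle, hq⟩
    · have hdisj : Z ⊓ N1 = ⊥ := by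
        have h1 : Nat.card (Z ⊓ N1 : Subgroup H) ∣ Nat.card N1 :=
          Subgroup.card_dvd_of_le inf_le_right
        rcases (Nat.dvd_prime hq).1 h1 with h | h
        · exact Subgroup.card_eq_one.1 h
        · exfalso
          apply hle
          have h2 : Z ⊓ N1 = N1 :=
            Subgroup.eq_of_le_of_card_ge inf_le_right (le_of_eq h.symm)
          rw [← h2]
          exact inf_le_left
      haveI := hN1
      haveI := hZ
      have hf := QuotientGroup.mk'_surjective N1
      have hlt : Nat.card (H ⧸ N1) < n := hn ▸ card_quotient_lt N1 hq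
      have hZ' : (Z.map (QuotientGroup.mk' N1)).Normal := hZ.map _ hf
      have hZ'ne : Z.map (QuotientGroup.mk' N1) ≠ ⊥ := by
        intro h
        rw [Subgroup.map_eq_bot_iff, QuotientGroup.ker_mk'] at h
        exact hZne (le_bot_iff.1 (hdisj ▸ le_inf le_rfl h))
      obtain ⟨M', hM'n, hM'le, hM'c⟩ :=
        ih _ hlt (H ⧸ N1) rfl (ss_quotient hH N1) (Z.map (QuotientGroup.mk' N1)) hZ' hZ'ne
      haveI := hM'n.comap (QuotientGroup.mk' N1)
      refine ⟨M'.comap (QuotientGroup.mk' N1) ⊓ Z, inferInstance, inf_le_right, ?_⟩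
      have hmap : (M'.comap (QuotientGroup.mk' N1) ⊓ Z).map (QuotientGroup.mk' N1) = M' := by
        apply le_antisymm
        · rw [Subgroup.map_le_iff_le_comap]
          exact inf_le_left
        · intro y hy
          obtain ⟨z, hz, rfl⟩ := hM'le hy
          exact ⟨z, ⟨hy, hz⟩, rfl⟩
      have hc := card_map_of_disjoint_ker (QuotientGroup.mk' N1)
        (M'.comap (QuotientGroup.mk' N1) ⊓ Z) (by
          rw [QuotientGroup.ker_mk', eq_bot_iff, ← hdisj]
          exact inf_le_inf_right _ inf_le_right)
      rw [hmap] at hc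
      rw [← hc]
      exact hM'c

/-- key step: all proper subgroups supersolvable, a normal `p`-subgroup `P` and a subgroup of
index `p` not containing `P` force supersolvability -/
theorem ss_of_star : ∀ n : ℕ, ∀ (G : Type u) [Group G] [Finite G], Nat.card G = n →
    (∀ K : Subgroup G, K ≠ ⊤ → Cfsg.IsSupersolvable K) → ∀ (p : ℕ) [Fact p.Prime]
    (P H : Subgroup G), P.Normal → IsPGroup p P → H.index = p → ¬ P ≤ H →
    Cfsg.IsSupersolvable G := by
  intro n
  induction n using Nat.strong_induction_on with
  | _ n ih =>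
    intro G _ _ hn hprop p _ P H hPn hP hHidx hPH
    have hp := Fact.out (p := p.Prime)
    haveI := hPn
    have hHne : H ≠ ⊤ := by
      intro h
      rw [h, Subgroup.index_top] at hHidx
      exact hp.one_lt.ne hHidx
    have hHss := hprop H hHne
    have hsup : H ⊔ P = ⊤ := by
      have h1 := Subgroup.relIndex_mul_index (le_sup_left : H ≤ H ⊔ P)
      rw [hHidx] at h1
      have h2 : H.relIndex (H ⊔ P) ≠ 1 := by
        intro h
        exact hPH (le_sup_right.trans (Subgroup.relIndex_eq_one.1 h))
      have h3 : (H ⊔ P).index = 1 := by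
        rcases (Nat.dvd_prime hp).1 (Dvd.intro_left _ h1) with h | h
        · exact h
        · rw [h] at h1
          exfalso
          apply h2
          exact Nat.eq_of_mul_eq_mul_right hp.pos (by rw [h1, one_mul])
      exact Subgroup.index_eq_one.1 h3
    have hrel : (H ⊓ P).relIndex P = p := by
      have e1 : Nat.card (H ⊓ P : Subgroup G) * (H ⊓ P).relIndex P = Nat.card P := by
        rw [← Subgroup.relIndex_bot_left, ← Subgroup.relIndex_bot_left]
        exact Subgroup.relIndex_mul_relIndex _ _ _ bot_le inf_le_right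
      have e2 : Nat.card (H ⊓ P : Subgroup G) * (H ⊓ P).relIndex H = Nat.card H := by
        rw [← Subgroup.relIndex_bot_left, ← Subgroup.relIndex_bot_left]
        exact Subgroup.relIndex_mul_relIndex _ _ _ bot_le inf_le_left
      have e3 : (H ⊓ P).relIndex H = P.index := by
        rw [Subgroup.inf_relIndex_left, ← Subgroup.relIndex_sup_right, hsup,
          Subgroup.relIndex_top_right]
      have e4 := Subgroup.card_mul_index H
      have e5 := Subgroup.card_mul_index P
      rw [e3] at e2
      rw [hHidx, ← e2] at e4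
      rw [← e1, ← e4] at e5
      have hpos1 : 0 < Nat.card (H ⊓ P : Subgroup G) := Nat.card_pos
      have hpos2 : 0 < P.index := Nat.pos_of_ne_zero Subgroup.index_ne_zero_of_finite
      have e6 : (Nat.card (H ⊓ P : Subgroup G) * P.index) * (H ⊓ P).relIndex P =
          (Nat.card (H ⊓ P : Subgroup G) * P.index) * p := by
        rw [← e5]; ring
      exact Nat.eq_of_mul_eq_mul_left (Nat.mul_pos hpos1 hpos2) e6
    have hP1n : (H ⊓ P).Normal := by
      apply normal_of_sup_eq_top hsup
      · intro x hx d hd
        exact ⟨H.mul_mem (H.mul_mem hx hd.1) (H.inv_mem hx), hPn.conj_mem d hd.2 x⟩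
      · have hnorm : ((H ⊓ P).subgroupOf P).Normal := by
          apply Subgroup.normal_of_index_eq_minFac_card
          show (H ⊓ P).relIndex P = _
          rw [hrel]
          obtain ⟨a, ha⟩ := IsPGroup.iff_card.1 hP
          rw [ha]
          have ha0 : a ≠ 0 := by
            rintro rfl
            have h5 := Subgroup.relIndex_dvd_card (H ⊓ P) P
            rw [hrel, ha, pow_zero] at h5
            exact hp.one_lt.ne' (Nat.dvd_one.1 h5)
          exact (hp.pow_minFac ha0).symm
        intro y hy d hd
        have h6 := hnorm.conj_mem ⟨d, hd.2⟩ (Subgroup.mem_subgroupOf.2 hd) ⟨y, hy⟩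
        exact Subgroup.mem_subgroupOf.1 h6
    by_cases hP1 : H ⊓ P = ⊥
    · have hcP : Nat.card P = p := by rw [← hrel, hP1, Subgroup.relIndex_bot_left]
      haveI : IsCyclic P := isCyclic_of_prime_card hcP
      apply ss_of_cyclic_normal P
      refine ss_of_surjective ((QuotientGroup.mk' P).comp H.subtype) ?_ hHss
      intro y
      obtain ⟨g, rfl⟩ := QuotientGroup.mk'_surjective P y
      obtain ⟨x, hx, h, hh, rfl⟩ :=
        exists_mul_of_normal_sup_eq_top (N := P) (M := H) (by rw [sup_comm]; exact hsup) g
      refine ⟨⟨h, hh⟩, ?_⟩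
      show QuotientGroup.mk' P h = QuotientGroup.mk' P (x * h)
      have hx1 : QuotientGroup.mk' P x = 1 := (QuotientGroup.eq_one_iff x).2 hx
      rw [map_mul, hx1, one_mul]
    · haveI := hP1n
      obtain ⟨b, hb, hb1, hbc⟩ :=
        exists_central_of_normal_pgroup P (H ⊓ P) hP inf_le_right hP1
      have hZn : ((H ⊓ P) ⊓ Subgroup.centralizer (P : Set G)).Normal := inferInstance
      have hZne : (H ⊓ P) ⊓ Subgroup.centralizer (P : Set G) ≠ ⊥ := by
        intro h
        have h7 : b ∈ (H ⊓ P) ⊓ Subgroup.centralizer (P : Set G) :=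
          ⟨hb, fun x hx => hbc x hx⟩
        rw [h, Subgroup.mem_bot] at h7
        exact hb1 h7
      have hZH : (H ⊓ P) ⊓ Subgroup.centralizer (P : Set G) ≤ H := inf_le_left.trans inf_le_left
      have hZ'n : (((H ⊓ P) ⊓ Subgroup.centralizer (P : Set G)).subgroupOf H).Normal :=
        hZn.subgroupOf H
      have hZ'ne : ((H ⊓ P) ⊓ Subgroup.centralizer (P : Set G)).subgroupOf H ≠ ⊥ := by
        intro h
        rw [Subgroup.subgroupOf_eq_bot, disjoint_iff, inf_eq_left.2 hZH] at h
        exact hZne h
      obtain ⟨N', hN'n, hN'le, hN'c⟩ := exists_normal_prime_card_le _ H rfl hHss _ hZ'n hZ'ne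
      have hNZ : N'.map H.subtype ≤ (H ⊓ P) ⊓ Subgroup.centralizer (P : Set G) := by
        rw [Subgroup.map_le_iff_le_comap]
        exact hN'le
      have hNn : (N'.map H.subtype).Normal := by
        apply normal_of_sup_eq_top hsup
        · intro x hx d hd
          obtain ⟨d', hd', rfl⟩ := hd
          exact ⟨⟨x, hx⟩ * d' * ⟨x, hx⟩⁻¹, hN'n.conj_mem d' hd' ⟨x, hx⟩, rfl⟩
        · intro y hy d hd
          have hdZ := hNZ hd
          have hc : y * d = d * y := (Subgroup.mem_centralizer_iff.1 hdZ.2) y hy
          rw [hc, mul_inv_cancel_right]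
          exact hd
      have hNc : (Nat.card (N'.map H.subtype)).Prime := by
        rw [Subgroup.card_map_of_injective H.subtype_injective]
        exact hN'c
      have hNH : N'.map H.subtype ≤ H := hNZ.trans hZH
      obtain ⟨N, hNdef⟩ : ∃ N : Subgroup G, N = N'.map H.subtype := ⟨_, rfl⟩
      rw [← hNdef] at hNn hNc hNH
      haveI := hNn
      haveI : Fact (Nat.card N).Prime := ⟨hNc⟩
      haveI : IsCyclic N := isCyclic_of_prime_card rfl
      apply ss_of_cyclic_normal N
      have hf := QuotientGroup.mk'_surjective N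
      refine ih _ (hn ▸ card_quotient_lt N hNc) (G ⧸ N) rfl ?_ p (P.map (QuotientGroup.mk' N))
        (H.map (QuotientGroup.mk' N)) (hPn.map _ hf) (hP.map _) ?_ ?_
      · intro K hK
        have hK' : K.comap (QuotientGroup.mk' N) ≠ ⊤ := by
          intro h
          apply hK
          rw [← Subgroup.map_comap_eq_self_of_surjective hf K, h, ← MonoidHom.range_eq_map,
            MonoidHom.range_eq_top.2 hf]
        exact ss_of_surjective ((QuotientGroup.mk' N).subgroupComap K)
          ((QuotientGroup.mk' N).subgroupComap_surjective_of_surjective K hf) (hprop _ hK')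
      · rw [Subgroup.index_map_eq H hf (by rw [QuotientGroup.ker_mk']; exact hNH)]
        exact hHidx
      · intro hle
        apply hPH
        have h8 : P ≤ (H.map (QuotientGroup.mk' N)).comap (QuotientGroup.mk' N) :=
          Subgroup.map_le_iff_le_comap.1 hle
        rw [Subgroup.comap_map_eq, QuotientGroup.ker_mk', sup_eq_left.2 hNH] at h8
        exact h8

/-- If every subgroup satisfies the converse of Lagrange's theorem, the group is supersolvable. -/
theorem clt_ss : ∀ n : ℕ, ∀ (G : Type u) [Group G] [Finite G], Nat.card G = n →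
    (∀ H : Subgroup G, Cfsg.HasSubgroupOfEveryOrder H) → Cfsg.IsSupersolvable G := by
  intro n
  induction n using Nat.strong_induction_on with
  | _ n ih =>
    intro G _ _ hn h
    by_cases hnt : Nontrivial G
    · haveI := hnt
      have hne : (Nat.card G).primeFactors.Nonempty :=
        Nat.nonempty_primeFactors.2 Finite.one_lt_card
      obtain ⟨p, hp, hpd, hmax⟩ : ∃ p : ℕ, p.Prime ∧ p ∣ Nat.card G ∧
          ∀ q : ℕ, q.Prime → q ∣ Nat.card G → q ≤ p := by
        have hmem := Finset.max'_mem _ hne
        rw [Nat.mem_primeFactors] at hmem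
        refine ⟨_, hmem.1, hmem.2.1, fun q hq hqd => ?_⟩
        exact Finset.le_max' _ q (Nat.mem_primeFactors.2 ⟨hq, hqd, hmem.2.2⟩)
      haveI : Fact p.Prime := ⟨hp⟩
      obtain P : Sylow p G := default
      have hPn := clt_sylow_normal _ G rfl h p hpd hmax P
      have hclt : Cfsg.HasSubgroupOfEveryOrder G := clt_of_mulEquiv Subgroup.topEquiv (h ⊤)
      obtain ⟨d, hd⟩ := hpd
      obtain ⟨H, hH⟩ := hclt d ⟨p, by rw [mul_comm]; exact hd⟩
      have hHidx : H.index = p := by
        have h1 := Subgroup.card_mul_index H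
        rw [hH] at h1
        have hdpos : 0 < d := by
          rcases Nat.eq_zero_or_pos d with h0 | h0
          · rw [h0, mul_zero] at hd
            exact absurd hd Nat.card_pos.ne'
          · exact h0
        have h2 : d * H.index = d * p := by rw [h1, mul_comm]; exact hd
        exact Nat.eq_of_mul_eq_mul_left hdpos h2
      have hprop : ∀ K : Subgroup G, K ≠ ⊤ → Cfsg.IsSupersolvable K := by
        intro K hK
        have hlt : Nat.card K < n := by
          have h1 := Subgroup.card_mul_index K
          have h2 : K.index ≠ 1 := fun h => hK (Subgroup.index_eq_one.1 h)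
          have h3 : K.index ≠ 0 := Subgroup.index_ne_zero_of_finite
          have h4 : 0 < Nat.card K := Nat.card_pos
          have h5 : 2 ≤ K.index := by omega
          rw [← hn, ← h1]
          nlinarith
        exact ih _ hlt K rfl (fun L =>
          clt_of_mulEquiv (L.equivMapOfInjective K.subtype K.subtype_injective).symm
            (h (L.map K.subtype)))
      exact ss_of_star _ G rfl hprop p P H hPn P.isPGroup' hHidx
        (fun hle => P.not_dvd_index (by
          have := Subgroup.index_dvd_of_le hle
          rw [hHidx] at this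
          exact this))
    · rw [not_nontrivial_iff_subsingleton] at hnt
      haveI := hnt
      exact ss_of_subsingleton

end Cfsg.Agent.Lib.Helper1
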