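import Mathlib
import Cfsg.Agent.Lib.Helper9.M24Stab
import Cfsg.Agent.Lib.Helper9.M24Syl
import Cfsg.Agent.Lib.Helper9.M24Dod

/-!
Data for the stabiliser of a dodecad, one of its points and a point outside it, which is a
projective special linear group of degree two over the field with eleven elements (helper1).
-/

set_option autoImplicit false

namespace Cfsg.Agent.Lib.Helper1.Dod11

open Cfsg Cfsg.Agent.Lib.Helper9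

set_option maxRecDepth 100000 in
/-- A transversal: elements of the dodecad stabiliser moving the base flag to each flag. -/
def transT : List (List ℕ) :=
  [[0, 1, 23, 2, 5, 18, 19, 3, 10, 6, 14, 7, 17, 13, 12, 15, 9, 8, 22, 20, 16, 4, 21, 11],
   [4, 1, 17, 23, 19, 21, 16, 2, 14, 18, 8, 11, 10, 12, 7, 22, 15, 13, 6, 20, 0, 9, 5, 3],
   [5, 1, 7, 2, 19, 18, 0, 8, 3, 16, 14, 11, 12, 17, 13, 21, 9, 10, 6, 15, 22, 4, 20, 23],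
   [6, 1, 17, 8, 18, 21, 9, 23, 13, 20, 14, 10, 7, 11, 3, 16, 15, 2, 19, 4, 5, 0, 22, 12],
   [9, 1, 8, 3, 15, 18, 19, 11, 13, 6, 23, 7, 17, 12, 10, 16, 22, 14, 0, 21, 5, 20, 4, 2],
   [15, 1, 14, 13, 21, 5, 22, 23, 10, 19, 2, 12, 8, 3, 11, 6, 18, 7, 0, 20, 9, 4, 16, 17],
   [16, 1, 23, 8, 19, 4, 20, 11, 2, 21, 13, 17, 7, 10, 14, 6, 5, 3, 15, 9, 18, 22, 0, 12],
   [18, 1, 17, 12, 20, 4, 16, 3, 7, 19, 10, 8, 23, 11, 13, 5, 0, 2, 6, 21, 22, 15, 9, 14],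
   [19, 1, 7, 23, 16, 15, 21, 13, 12, 6, 11, 2, 8, 17, 3, 22, 4, 10, 5, 18, 20, 9, 0, 14],
   [20, 1, 7, 8, 4, 22, 19, 12, 13, 0, 17, 10, 11, 14, 2, 6, 5, 23, 9, 21, 15, 16, 18, 3],
   [21, 1, 13, 7, 22, 4, 0, 2, 14, 15, 11, 10, 12, 8, 17, 19, 9, 23, 5, 18, 6, 20, 16, 3],
   [22, 1, 12, 13, 21, 5, 18, 7, 14, 9, 11, 10, 2, 3, 8, 16, 15, 17, 6, 19, 20, 4, 0, 23],
   [0, 2, 8, 17, 20, 9, 5, 10, 23, 16, 3, 12, 11, 14, 13, 15, 6, 7, 18, 22, 19, 21, 4, 1],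
   [4, 2, 23, 10, 20, 19, 16, 14, 11, 9, 13, 12, 3, 7, 8, 5, 0, 1, 22, 6, 15, 21, 18, 17],
   [5, 2, 14, 23, 16, 0, 21, 12, 8, 19, 11, 10, 13, 7, 3, 4, 18, 1, 6, 22, 20, 15, 9, 17],
   [6, 2, 3, 13, 18, 16, 4, 11, 23, 19, 12, 17, 10, 8, 1, 22, 5, 14, 9, 21, 15, 20, 0, 7],
   [9, 2, 13, 23, 19, 22, 6, 1, 7, 0, 3, 14, 12, 17, 11, 16, 20, 8, 15, 21, 5, 4, 18, 10],
   [15, 2, 13, 23, 21, 0, 16, 8, 12, 19, 1, 10, 14, 17, 3, 20, 18, 11, 9, 22, 4, 5, 6, 7],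
   [16, 2, 10, 3, 19, 21, 9, 14, 7, 0, 12, 13, 17, 8, 1, 15, 18, 23, 4, 20, 22, 6, 5, 11],
   [18, 2, 13, 3, 6, 16, 9, 12, 14, 4, 10, 7, 11, 1, 23, 15, 19, 17, 20, 5, 0, 21, 22, 8],
   [19, 2, 8, 23, 6, 4, 9, 11, 12, 15, 3, 7, 14, 13, 10, 16, 22, 17, 5, 21, 0, 20, 18, 1],
   [20, 2, 7, 12, 5, 19, 15, 17, 14, 21, 3, 8, 13, 1, 23, 4, 16, 10, 18, 22, 6, 9, 0, 11],
   [21, 2, 12, 14, 18, 4, 15, 7, 1, 22, 23, 17, 3, 13, 10, 16, 9, 11, 6, 0, 19, 20, 5, 8],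
   [22, 2, 11, 8, 9, 16, 18, 13, 12, 21, 10, 3, 23, 7, 14, 6, 20, 1, 4, 5, 19, 0, 15, 17],
   [0, 3, 23, 13, 15, 6, 22, 11, 12, 9, 2, 17, 7, 14, 1, 4, 18, 10, 19, 5, 21, 16, 20, 8],
   [4, 3, 11, 17, 6, 22, 21, 14, 7, 19, 1, 8, 10, 13, 2, 0, 9, 12, 18, 5, 20, 15, 16, 23],
   [5, 3, 2, 1, 0, 4, 21, 23, 12, 15, 14, 7, 17, 10, 11, 18, 16, 8, 20, 22, 19, 6, 9, 13],
   [6, 3, 1, 17, 4, 21, 22, 14, 13, 16, 11, 23, 10, 7, 12, 18, 9, 2, 0, 5, 20, 15, 19, 8],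
   [9, 3, 8, 12, 4, 16, 0, 13, 23, 5, 10, 1, 17, 14, 2, 6, 22, 7, 15, 18, 21, 19, 20, 11],
   [15, 3, 8, 7, 18, 4, 19, 12, 10, 5, 1, 11, 13, 23, 17, 22, 0, 2, 16, 9, 6, 21, 20, 14],
   [16, 3, 13, 12, 22, 0, 4, 10, 14, 15, 23, 2, 7, 8, 17, 20, 9, 11, 6, 18, 5, 19, 21, 1],
   [18, 3, 12, 11, 5, 6, 4, 14, 23, 21, 8, 1, 17, 7, 13, 16, 19, 2, 20, 15, 0, 22, 9, 10],
   [19, 3, 11, 23, 5, 6, 15, 17, 7, 18, 10, 12, 13, 1, 8, 21, 9, 2, 4, 22, 20, 0, 16, 14],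
   [20, 3, 12, 8, 21, 6, 0, 13, 17, 5, 11, 1, 23, 2, 14, 16, 22, 7, 18, 15, 4, 19, 9, 10],
   [21, 3, 8, 17, 6, 22, 4, 2, 13, 19, 1, 11, 12, 7, 14, 5, 15, 10, 20, 0, 18, 9, 16, 23],
   [22, 3, 1, 10, 19, 15, 21, 11, 14, 18, 8, 7, 12, 23, 2, 0, 16, 13, 9, 20, 4, 5, 6, 17],
   [0, 7, 3, 14, 18, 21, 20, 17, 12, 19, 13, 2, 10, 23, 11, 5, 16, 8, 4, 15, 22, 6, 9, 1],
   [4, 7, 2, 13, 16, 6, 21, 10, 1, 0, 17, 14, 11, 3, 8, 20, 19, 12, 9, 15, 18, 22, 5, 23],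
   [5, 7, 11, 1, 6, 15, 16, 12, 8, 0, 3, 2, 23, 10, 14, 9, 18, 13, 21, 22, 4, 19, 20, 17],
   [6, 7, 12, 11, 5, 0, 15, 3, 8, 20, 1, 13, 23, 10, 17, 18, 21, 14, 4, 19, 9, 22, 16, 2],
   [9, 7, 1, 17, 0, 22, 6, 8, 10, 21, 2, 11, 13, 23, 14, 15, 18, 12, 20, 4, 5, 19, 16, 3],
   [15, 7, 23, 8, 22, 20, 6, 12, 1, 16, 11, 3, 14, 2, 13, 5, 4, 17, 19, 0, 9, 18, 21, 10],
   [16, 7, 8, 2, 0, 9, 15, 10, 17, 5, 23, 13, 14, 1, 11, 20, 6, 3, 21, 19, 18, 4, 22, 12],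
   [18, 7, 12, 13, 15, 9, 5, 8, 2, 22, 1, 14, 3, 10, 11, 19, 0, 17, 21, 16, 4, 20, 6, 23],
   [19, 7, 2, 1, 18, 5, 6, 3, 10, 21, 17, 23, 11, 13, 14, 9, 16, 8, 20, 22, 4, 15, 0, 12],
   [20, 7, 3, 2, 5, 22, 18, 17, 14, 16, 13, 10, 12, 11, 1, 0, 19, 23, 6, 9, 4, 21, 15, 8],
   [21, 7, 3, 23, 18, 4, 6, 12, 10, 15, 14, 8, 2, 11, 1, 20, 5, 17, 19, 0, 22, 9, 16, 13],
   [22, 7, 14, 11, 5, 15, 6, 2, 13, 19, 3, 1, 10, 17, 12, 16, 0, 23, 4, 9, 18, 21, 20, 8],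
   [0, 8, 17, 13, 4, 9, 22, 23, 3, 19, 14, 10, 11, 12, 1, 21, 5, 7, 20, 15, 18, 6, 16, 2],
   [4, 8, 1, 2, 19, 5, 15, 10, 14, 22, 17, 12, 23, 7, 11, 0, 6, 13, 16, 20, 18, 21, 9, 3],
   [5, 8, 13, 23, 22, 9, 15, 17, 2, 6, 12, 11, 1, 10, 7, 19, 20, 14, 4, 0, 16, 21, 18, 3],
   [6, 8, 13, 7, 4, 22, 18, 12, 14, 9, 23, 10, 2, 1, 3, 19, 15, 11, 5, 0, 21, 20, 16, 17],
   [9, 8, 2, 3, 16, 18, 4, 7, 13, 0, 12, 23, 11, 17, 14, 6, 15, 1, 22, 20, 19, 5, 21, 10],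
   [15, 8, 13, 17, 19, 20, 0, 2, 14, 21, 12, 3, 11, 1, 7, 22, 9, 23, 16, 18, 6, 4, 5, 10],
   [16, 8, 11, 1, 22, 19, 5, 14, 3, 15, 17, 12, 2, 10, 23, 18, 20, 13, 9, 6, 0, 4, 21, 7],
   [18, 8, 10, 11, 21, 4, 20, 1, 2, 9, 13, 12, 17, 14, 23, 16, 5, 3, 22, 19, 6, 0, 15, 7],
   [19, 8, 2, 12, 15, 5, 18, 17, 23, 4, 13, 3, 11, 10, 7, 16, 22, 1, 6, 21, 9, 0, 20, 14],
   [20, 8, 23, 10, 15, 5, 6, 13, 12, 21, 7, 2, 17, 3, 1, 4, 0, 11, 9, 22, 19, 16, 18, 14],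
   [21, 8, 7, 14, 16, 0, 15, 17, 23, 5, 13, 10, 12, 2, 3, 20, 4, 11, 9, 19, 6, 22, 18, 1],
   [22, 8, 13, 14, 0, 4, 15, 2, 11, 9, 12, 17, 3, 23, 1, 19, 21, 10, 6, 5, 20, 16, 18, 7],
   [0, 10, 17, 1, 15, 22, 6, 14, 13, 18, 8, 2, 12, 3, 11, 5, 4, 7, 21, 20, 9, 19, 16, 23],
   [4, 10, 23, 2, 20, 19, 16, 3, 7, 18, 13, 12, 14, 11, 1, 22, 21, 8, 5, 15, 6, 0, 9, 17],
   [5, 10, 13, 12, 21, 0, 4, 3, 23, 19, 14, 2, 1, 17, 8, 20, 9, 11, 18, 6, 16, 15, 22, 7],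
   [6, 10, 12, 3, 18, 20, 0, 2, 23, 22, 13, 17, 11, 1, 7, 21, 4, 14, 16, 19, 15, 9, 5, 8],
   [9, 10, 3, 23, 0, 6, 16, 11, 13, 20, 14, 8, 12, 1, 2, 15, 21, 7, 4, 18, 5, 22, 19, 17],
   [15, 10, 3, 11, 21, 16, 4, 7, 1, 19, 12, 2, 17, 23, 8, 0, 18, 14, 22, 5, 20, 6, 9, 13],
   [16, 10, 12, 1, 18, 20, 21, 7, 3, 22, 11, 17, 14, 23, 8, 15, 9, 13, 19, 6, 0, 5, 4, 2],
   [18, 10, 17, 1, 20, 21, 16, 3, 14, 0, 12, 2, 23, 7, 8, 19, 5, 13, 15, 22, 4, 9, 6, 11],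
   [19, 10, 23, 13, 18, 5, 21, 12, 7, 20, 8, 1, 14, 2, 17, 9, 0, 11, 15, 4, 16, 6, 22, 3],
   [20, 10, 13, 14, 22, 4, 5, 12, 8, 16, 11, 7, 17, 1, 3, 0, 21, 2, 15, 9, 18, 6, 19, 23],
   [21, 10, 2, 17, 0, 20, 18, 12, 11, 4, 13, 3, 23, 8, 7, 6, 22, 14, 16, 19, 9, 15, 5, 1],
   [22, 10, 11, 1, 19, 0, 6, 3, 2, 5, 12, 13, 8, 14, 17, 18, 4, 7, 9, 20, 21, 15, 16, 23],
   [0, 11, 14, 1, 21, 19, 16, 7, 17, 6, 3, 23, 8, 12, 10, 20, 18, 2, 4, 9, 5, 22, 15, 13],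
   [4, 11, 1, 8, 5, 20, 0, 2, 14, 9, 13, 10, 3, 23, 12, 19, 18, 7, 6, 15, 22, 21, 16, 17],
   [5, 11, 10, 7, 0, 22, 6, 8, 23, 20, 12, 17, 13, 1, 2, 16, 15, 14, 19, 9, 4, 21, 18, 3],
   [6, 11, 7, 3, 5, 22, 19, 12, 2, 0, 23, 10, 1, 14, 13, 20, 4, 17, 15, 21, 9, 18, 16, 8],
   [9, 11, 12, 17, 5, 18, 15, 2, 3, 16, 1, 14, 10, 8, 13, 20, 19, 7, 0, 6, 22, 21, 4, 23],
   [15, 11, 10, 23, 4, 18, 0, 12, 7, 21, 13, 8, 1, 3, 14, 5, 9, 17, 6, 16, 20, 22, 19, 2],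
   [16, 11, 12, 1, 18, 0, 22, 7, 8, 9, 14, 23, 10, 2, 13, 15, 21, 3, 6, 5, 4, 19, 20, 17],
   [18, 11, 10, 2, 15, 6, 20, 23, 8, 4, 14, 1, 17, 7, 12, 5, 19, 3, 21, 16, 9, 0, 22, 13],
   [19, 11, 3, 8, 6, 22, 16, 14, 7, 4, 23, 17, 2, 13, 10, 20, 15, 12, 18, 5, 0, 9, 21, 1],
   [20, 11, 14, 2, 15, 18, 19, 1, 23, 5, 12, 17, 3, 10, 13, 21, 0, 8, 16, 22, 9, 6, 4, 7],
   [21, 11, 13, 8, 20, 18, 0, 23, 7, 6, 3, 2, 12, 14, 17, 15, 4, 10, 22, 9, 19, 5, 16, 1],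
   [22, 11, 12, 8, 15, 19, 16, 23, 2, 4, 14, 13, 7, 17, 10, 5, 6, 3, 21, 20, 0, 9, 18, 1],
   [0, 12, 11, 3, 9, 16, 4, 14, 2, 6, 10, 8, 23, 7, 13, 21, 19, 17, 18, 5, 20, 22, 15, 1],
   [4, 12, 13, 23, 6, 15, 22, 8, 3, 9, 2, 14, 7, 17, 1, 0, 5, 10, 19, 18, 20, 16, 21, 11],
   [5, 12, 17, 2, 9, 20, 19, 11, 14, 18, 1, 23, 10, 8, 13, 21, 15, 3, 4, 22, 0, 16, 6, 7],
   [6, 12, 7, 10, 19, 20, 16, 1, 23, 5, 17, 2, 13, 11, 14, 15, 18, 3, 4, 0, 9, 22, 21, 8],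
   [9, 12, 7, 8, 16, 21, 4, 11, 13, 18, 3, 14, 2, 17, 1, 19, 20, 23, 15, 22, 5, 6, 0, 10],
   [15, 12, 8, 3, 5, 18, 6, 10, 17, 0, 23, 11, 2, 14, 7, 16, 20, 1, 19, 22, 9, 21, 4, 13],
   [16, 12, 23, 13, 22, 5, 21, 10, 8, 6, 7, 1, 3, 17, 2, 9, 0, 11, 4, 15, 19, 20, 18, 14],
   [18, 12, 7, 14, 21, 16, 4, 23, 13, 9, 2, 8, 3, 17, 10, 6, 5, 11, 15, 22, 20, 19, 0, 1],
   [19, 12, 1, 14, 21, 5, 4, 23, 13, 9, 11, 10, 17, 3, 8, 15, 16, 2, 6, 22, 0, 18, 20, 7],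
   [20, 12, 17, 2, 5, 9, 19, 13, 10, 22, 7, 1, 3, 11, 8, 6, 15, 14, 18, 4, 21, 16, 0, 23],
   [21, 12, 2, 3, 18, 6, 5, 23, 13, 0, 14, 11, 7, 10, 8, 16, 15, 17, 22, 4, 9, 20, 19, 1],
   [22, 12, 2, 13, 0, 21, 20, 8, 17, 18, 14, 23, 3, 10, 1, 9, 16, 7, 4, 6, 19, 5, 15, 11],
   [0, 13, 14, 12, 20, 22, 5, 1, 11, 19, 7, 17, 23, 10, 3, 15, 21, 2, 4, 18, 6, 16, 9, 8],
   [4, 13, 1, 2, 18, 5, 20, 12, 23, 15, 14, 7, 17, 10, 8, 0, 16, 11, 21, 22, 9, 6, 19, 3],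
   [5, 13, 12, 10, 21, 0, 19, 1, 23, 22, 3, 2, 14, 17, 7, 9, 6, 8, 16, 20, 15, 18, 4, 11],
   [6, 13, 3, 12, 15, 18, 19, 14, 1, 16, 17, 8, 23, 7, 11, 20, 4, 2, 0, 22, 21, 9, 5, 10],
   [9, 13, 2, 12, 15, 19, 18, 14, 11, 21, 7, 8, 10, 17, 1, 20, 4, 3, 22, 0, 16, 6, 5, 23],
   [15, 13, 17, 2, 22, 19, 9, 1, 14, 5, 10, 23, 3, 7, 8, 16, 0, 11, 6, 20, 18, 21, 4, 12],
   [16, 13, 14, 8, 21, 15, 20, 7, 1, 6, 12, 23, 17, 2, 11, 0, 18, 3, 9, 5, 4, 19, 22, 10],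
   [18, 13, 17, 8, 16, 21, 15, 23, 12, 9, 3, 14, 2, 7, 10, 6, 20, 11, 4, 0, 5, 19, 22, 1],
   [19, 13, 12, 11, 15, 4, 5, 8, 23, 18, 17, 1, 2, 10, 7, 22, 0, 14, 9, 6, 21, 16, 20, 3],
   [20, 13, 1, 12, 0, 16, 21, 7, 3, 9, 23, 17, 14, 11, 2, 4, 22, 10, 19, 6, 18, 5, 15, 8],
   [21, 13, 17, 3, 4, 9, 20, 7, 8, 16, 23, 10, 1, 12, 2, 15, 5, 14, 18, 0, 22, 19, 6, 11],
   [22, 13, 14, 1, 4, 18, 21, 8, 12, 0, 7, 17, 10, 2, 23, 16, 15, 3, 20, 19, 9, 5, 6, 11],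
   [0, 14, 11, 13, 4, 19, 18, 8, 3, 21, 17, 12, 23, 7, 2, 5, 20, 1, 9, 6, 16, 22, 15, 10],
   [4, 14, 12, 1, 16, 18, 6, 8, 10, 21, 3, 7, 23, 11, 13, 20, 9, 2, 5, 19, 0, 22, 15, 17],
   [5, 14, 11, 23, 20, 16, 0, 8, 3, 18, 1, 7, 10, 17, 13, 21, 4, 12, 22, 15, 6, 9, 19, 2],
   [6, 14, 11, 3, 19, 4, 20, 2, 7, 0, 8, 13, 23, 12, 1, 18, 15, 17, 21, 9, 22, 16, 5, 10],
   [9, 14, 3, 13, 5, 21, 15, 23, 10, 0, 7, 1, 8, 12, 17, 19, 6, 11, 18, 22, 20, 16, 4, 2],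
   [15, 14, 10, 3, 16, 19, 6, 8, 17, 0, 13, 2, 11, 12, 7, 5, 20, 1, 18, 9, 22, 4, 21, 23],
   [16, 14, 12, 8, 4, 21, 0, 3, 10, 19, 23, 11, 1, 2, 13, 9, 22, 17, 18, 5, 6, 15, 20, 7],
   [18, 14, 13, 12, 19, 4, 5, 23, 3, 22, 8, 7, 10, 11, 2, 9, 16, 1, 0, 20, 15, 21, 6, 17],
   [19, 14, 3, 7, 4, 15, 22, 12, 2, 16, 13, 8, 11, 17, 1, 0, 9, 10, 6, 20, 21, 5, 18, 23],
   [20, 14, 1, 12, 15, 0, 9, 3, 8, 19, 2, 10, 11, 17, 7, 18, 22, 13, 5, 21, 16, 6, 4, 23],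
   [21, 14, 12, 3, 18, 5, 9, 23, 17, 19, 2, 8, 7, 11, 10, 20, 0, 1, 16, 4, 6, 22, 15, 13],
   [22, 14, 11, 3, 5, 18, 9, 10, 17, 20, 7, 8, 2, 12, 23, 19, 0, 13, 16, 15, 6, 21, 4, 1],
   [0, 17, 12, 1, 16, 15, 22, 3, 23, 19, 11, 2, 13, 7, 14, 4, 9, 8, 21, 6, 18, 5, 20, 10],
   [4, 17, 12, 8, 20, 9, 15, 1, 2, 18, 7, 23, 11, 14, 10, 16, 0, 13, 22, 5, 6, 19, 21, 3],
   [5, 17, 23, 8, 21, 22, 6, 7, 10, 4, 2, 3, 11, 14, 1, 9, 18, 12, 19, 0, 15, 16, 20, 13],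
   [6, 17, 2, 10, 9, 5, 4, 23, 11, 20, 3, 12, 7, 1, 8, 22, 19, 13, 0, 21, 18, 16, 15, 14],
   [9, 17, 3, 12, 22, 4, 5, 14, 2, 21, 1, 23, 7, 11, 8, 0, 18, 13, 6, 15, 19, 20, 16, 10],
   [15, 17, 10, 8, 0, 20, 19, 14, 2, 18, 12, 3, 1, 11, 7, 16, 9, 23, 22, 21, 5, 4, 6, 13],
   [16, 17, 13, 11, 0, 4, 6, 3, 23, 18, 12, 14, 1, 8, 7, 15, 22, 2, 9, 21, 5, 20, 19, 10],
   [18, 17, 10, 8, 22, 21, 16, 12, 3, 20, 2, 14, 7, 23, 11, 19, 6, 1, 0, 15, 9, 5, 4, 13],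
   [19, 17, 12, 13, 6, 15, 22, 1, 14, 21, 7, 3, 10, 23, 8, 9, 5, 11, 16, 0, 4, 20, 18, 2],
   [20, 17, 1, 23, 6, 18, 15, 11, 7, 4, 13, 14, 2, 8, 3, 5, 9, 12, 21, 19, 0, 16, 22, 10],
   [21, 17, 12, 2, 0, 6, 20, 13, 14, 16, 10, 11, 23, 7, 3, 22, 5, 8, 19, 15, 4, 9, 18, 1],
   [22, 17, 2, 23, 19, 4, 0, 13, 1, 15, 7, 8, 14, 10, 12, 9, 21, 3, 16, 18, 20, 5, 6, 11],
   [0, 23, 13, 10, 21, 6, 16, 12, 14, 20, 2, 11, 17, 7, 3, 5, 22, 1, 4, 15, 19, 9, 18, 8],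
   [4, 23, 12, 3, 16, 22, 18, 14, 10, 5, 8, 13, 1, 7, 2, 19, 21, 17, 15, 6, 9, 20, 0, 11],
   [5, 23, 12, 13, 22, 16, 19, 8, 3, 15, 17, 7, 1, 10, 14, 0, 18, 2, 6, 4, 20, 9, 21, 11],
   [6, 23, 3, 1, 5, 0, 18, 12, 14, 15, 7, 2, 11, 17, 10, 21, 20, 13, 19, 9, 16, 22, 4, 8],
   [9, 23, 10, 2, 22, 6, 20, 11, 14, 0, 8, 1, 13, 12, 7, 5, 19, 3, 16, 21, 18, 4, 15, 17],
   [15, 23, 1, 12, 16, 4, 22, 2, 8, 21, 7, 3, 17, 14, 10, 20, 6, 13, 9, 19, 18, 5, 0, 11],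
   [16, 23, 10, 8, 0, 6, 18, 7, 13, 22, 2, 1, 14, 3, 11, 5, 4, 12, 9, 21, 20, 19, 15, 17],
   [18, 23, 11, 14, 15, 22, 21, 17, 7, 9, 2, 8, 10, 12, 1, 5, 19, 13, 4, 0, 20, 6, 16, 3],
   [19, 23, 7, 10, 20, 15, 18, 11, 13, 16, 12, 17, 2, 8, 3, 9, 4, 1, 22, 0, 6, 5, 21, 14],
   [20, 23, 2, 8, 9, 22, 21, 17, 13, 6, 12, 10, 14, 11, 7, 0, 5, 1, 4, 19, 16, 15, 18, 3],
   [21, 23, 10, 14, 22, 6, 15, 3, 2, 16, 8, 12, 17, 1, 7, 5, 19, 11, 0, 9, 4, 18, 20, 13],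
   [22, 23, 14, 13, 19, 18, 5, 7, 12, 15, 17, 10, 2, 8, 3, 4, 9, 11, 6, 21, 20, 16, 0, 1]]

set_option maxRecDepth 100000 in
/-- The images of the base flag under the transversal. -/
def keysT : List (ℕ × ℕ) :=
  [(2, 1),
   (2, 16),
   (2, 32),
   (2, 64),
   (2, 512),
   (2, 32768),
   (2, 65536),
   (2, 262144),
   (2, 524288),
   (2, 1048576),
   (2, 2097152),
   (2, 4194304),
   (4, 1),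
   (4, 16),
   (4, 32),
   (4, 64),
   (4, 512),
   (4, 32768),
   (4, 65536),
   (4, 262144),
   (4, 524288),
   (4, 1048576),
   (4, 2097152),
   (4, 4194304),
   (8, 1),
   (8, 16),
   (8, 32),
   (8, 64),
   (8, 512),
   (8, 32768),
   (8, 65536),
   (8, 262144),
   (8, 524288),
   (8, 1048576),
   (8, 2097152),
   (8, 4194304),
   (128, 1),
   (128, 16),
   (128, 32),
   (128, 64),
   (128, 512),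
   (128, 32768),
   (128, 65536),
   (128, 262144),
   (128, 524288),
   (128, 1048576),
   (128, 2097152),
   (128, 4194304),
   (256, 1),
   (256, 16),
   (256, 32),
   (256, 64),
   (256, 512),
   (256, 32768),
   (256, 65536),
   (256, 262144),
   (256, 524288),
   (256, 1048576),
   (256, 2097152),
   (256, 4194304),
   (1024, 1),
   (1024, 16),
   (1024, 32),
   (1024, 64),
   (1024, 512),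
   (1024, 32768),
   (1024, 65536),
   (1024, 262144),
   (1024, 524288),
   (1024, 1048576),
   (1024, 2097152),
   (1024, 4194304),
   (2048, 1),
   (2048, 16),
   (2048, 32),
   (2048, 64),
   (2048, 512),
   (2048, 32768),
   (2048, 65536),
   (2048, 262144),
   (2048, 524288),
   (2048, 1048576),
   (2048, 2097152),
   (2048, 4194304),
   (4096, 1),
   (4096, 16),
   (4096, 32),
   (4096, 64),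
   (4096, 512),
   (4096, 32768),
   (4096, 65536),
   (4096, 262144),
   (4096, 524288),
   (4096, 1048576),
   (4096, 2097152),
   (4096, 4194304),
   (8192, 1),
   (8192, 16),
   (8192, 32),
   (8192, 64),
   (8192, 512),
   (8192, 32768),
   (8192, 65536),
   (8192, 262144),
   (8192, 524288),
   (8192, 1048576),
   (8192, 2097152),
   (8192, 4194304),
   (16384, 1),
   (16384, 16),
   (16384, 32),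
   (16384, 64),
   (16384, 512),
   (16384, 32768),
   (16384, 65536),
   (16384, 262144),
   (16384, 524288),
   (16384, 1048576),
   (16384, 2097152),
   (16384, 4194304),
   (131072, 1),
   (131072, 16),
   (131072, 32),
   (131072, 64),
   (131072, 512),
   (131072, 32768),
   (131072, 65536),
   (131072, 262144),
   (131072, 524288),
   (131072, 1048576),
   (131072, 2097152),
   (131072, 4194304),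
   (8388608, 1),
   (8388608, 16),
   (8388608, 32),
   (8388608, 64),
   (8388608, 512),
   (8388608, 32768),
   (8388608, 65536),
   (8388608, 262144),
   (8388608, 524288),
   (8388608, 1048576),
   (8388608, 2097152),
   (8388608, 4194304)]

set_option maxRecDepth 100000 in
set_option maxHeartbeats 40000000 in
/-- The representatives of the matrices, by first row and then second row. -/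
def tabN : List (List (List ℕ)) :=
  [[],
   [[], [], [], [], [], [], [], [], [], [], [], [], [], [], [], [], [], [], [], [], [], [], [], [], [], [], [], [], [], [], [], [], [], [], [], [], [], [], [], [], [], [], [], [], [], [], [], [], [], [], [], [], [], [], [], [], [], [], [], [], [], [], [], [], [], [], [], [], [], [], [], [], [], [], [], [], [], [], [], [], [], [], [], [], [], [], [], [], [], [], [], [], [], [], [], [], [], [], [], [], [], [], [], [], [], [], [], [], [], [], [0, 1, 10, 3, 4, 6, 5, 12, 17, 15, 2, 11, 7, 14, 13, 9, 21, 8, 22, 19, 20, 16, 18, 23], [0, 1, 7, 13, 20, 9, 19, 23, 10, 22, 14, 3, 12, 11, 8, 15, 16, 17, 4, 21, 18, 6, 5, 2], [0, 1, 12, 8, 18, 15, 21, 2, 7, 4, 11, 13, 23, 3, 17, 22, 6, 10, 20, 16, 5, 9, 19, 14], [0, 1, 23, 17, 5, 22, 16, 14, 12, 20,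 3, 8, 2, 13, 10, 4, 9, 7, 18, 6, 19, 15, 21, 11], [0, 1, 2, 10, 19, 4, 6, 11, 23, 18, 13, 17, 14, 8, 7, 20, 15, 12, 5, 9, 21, 22, 16, 3], [0, 1, 14, 7, 21, 20, 9, 3, 2, 5, 8, 10, 11, 17, 12, 18, 22, 23, 19, 15, 16, 4, 6, 13], [0, 1, 11, 12, 16, 18, 15, 13, 14, 19, 17, 7, 3, 10, 23, 5, 4, 2, 21, 22, 6, 20, 9, 8], [0, 1, 3, 23, 6, 5, 22, 8, 11, 21, 10, 12, 13, 7, 2, 19, 20, 14, 16, 4, 9, 18, 15, 17], [0, 1, 13, 2, 9, 19, 4, 17, 3, 16, 7, 23, 8, 12, 14, 21, 18, 11, 6, 20, 15, 5, 22, 10], [0, 1, 8, 14, 15, 21, 20, 10, 13, 6, 12, 2, 17, 23, 11, 16, 5, 3, 9, 18, 22, 19, 4, 7], [0, 1, 17, 11, 22, 16, 18, 7, 8, 9, 23, 14, 10, 2, 3, 6, 19, 13, 15, 5, 4, 21, 20, 12]],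
   [[], [], [], [], [], [], [], [], [], [], [], [], [], [], [], [], [], [], [], [], [], [], [], [], [], [], [], [], [], [], [], [], [], [], [], [], [], [], [], [], [], [], [], [], [], [], [], [], [], [], [], [], [], [], [], [0, 1, 17, 8, 15, 9, 6, 14, 3, 5, 10, 11, 12, 23, 7, 4, 18, 2, 16, 22, 20, 21, 19, 13], [0, 1, 14, 2, 19, 5, 18, 10, 12, 15, 11, 7, 13, 8, 3, 16, 9, 17, 20, 21, 6, 4, 22, 23], [0, 1, 10, 17, 22, 15, 9, 11, 13, 19, 7, 3, 23, 2, 12, 20, 5, 14, 6, 4, 18, 16, 21, 8], [0, 1, 11, 14, 21, 19, 5, 7, 23, 22, 3, 12, 8, 17, 13, 6, 15, 10, 18, 16, 9, 20, 4, 2], [0, 1, 7, 10, 4, 22, 15, 3, 8, 21, 12, 13, 2, 14, 23, 18, 19, 11, 9, 20, 5, 6, 16, 17], [0, 1, 3, 11, 16, 21, 19, 12, 2, 4, 13, 23, 17, 10, 8, 9, 22, 7, 5, 6, 15, 18, 20, 14], [0, 1, 12, 7, 20, 4, 22, 13, 17, 16,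 23, 8, 14, 11, 2, 5, 21, 3, 15, 18, 19, 9, 6, 10], [0, 1, 13, 3, 6, 16, 21, 23, 14, 20, 8, 2, 10, 7, 17, 15, 4, 12, 19, 9, 22, 5, 18, 11], [0, 1, 23, 12, 18, 20, 4, 8, 10, 6, 2, 17, 11, 3, 14, 19, 16, 13, 22, 5, 21, 15, 9, 7], [0, 1, 8, 13, 9, 6, 16, 2, 11, 18, 17, 14, 7, 12, 10, 22, 20, 23, 21, 15, 4, 19, 5, 3], [0, 1, 2, 23, 5, 18, 20, 17, 7, 9, 14, 10, 3, 13, 11, 21, 6, 8, 4, 19, 16, 22, 15, 12]],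
   [[], [], [], [], [], [], [], [], [], [], [], [], [], [], [], [], [], [], [], [], [], [], [], [], [], [], [], [], [], [], [], [], [], [], [], [], [], [], [], [], [], [], [], [], [], [], [], [], [], [], [], [], [], [], [], [], [], [], [], [], [], [], [], [], [], [], [], [], [], [], [], [], [], [], [], [], [], [0, 1, 8, 10, 6, 15, 4, 13, 2, 9, 3, 11, 23, 7, 14, 5, 22, 17, 18, 21, 20, 19, 16, 12], [0, 1, 12, 2, 4, 18, 19, 7, 13, 20, 10, 17, 3, 14, 8, 6, 5, 23, 16, 15, 21, 9, 22, 11], [0, 1, 11, 13, 19, 16, 9, 14, 7, 21, 2, 23, 10, 8, 12, 4, 6, 3, 22, 18, 15, 20, 5, 17], [0, 1, 17, 7, 9, 22, 20, 8, 14, 15, 13, 3, 2, 12, 11, 19, 4, 10, 5, 16, 18, 21, 6, 23], [0, 1, 23, 14, 20, 5, 21, 12, 8, 18, 7, 10, 13, 11, 17, 9, 19, 2, 6, 22, 16, 15, 4, 3], [0, 1, 3, 8, 21, 6, 15, 11, 12, 16,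 14, 2, 7, 17, 23, 20, 9, 13, 4, 5, 22, 18, 19, 10], [0, 1, 10, 12, 15, 4, 18, 17, 11, 22, 8, 13, 14, 23, 3, 21, 20, 7, 19, 6, 5, 16, 9, 2], [0, 1, 2, 11, 18, 19, 16, 23, 17, 5, 12, 7, 8, 3, 10, 15, 21, 14, 9, 4, 6, 22, 20, 13], [0, 1, 13, 17, 16, 9, 22, 3, 23, 6, 11, 14, 12, 10, 2, 18, 15, 8, 20, 19, 4, 5, 21, 7], [0, 1, 7, 23, 22, 20, 5, 10, 3, 4, 17, 8, 11, 2, 13, 16, 18, 12, 21, 9, 19, 6, 15, 14], [0, 1, 14, 3, 5, 21, 6, 2, 10, 19, 23, 12, 17, 13, 7, 22, 16, 11, 15, 20, 9, 4, 18, 8]],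
   [[], [], [], [], [], [], [], [], [], [], [], [], [], [], [], [], [], [], [], [], [], [], [], [], [], [], [], [], [], [], [], [], [], [], [], [], [], [], [], [], [], [], [], [], [], [], [], [], [], [], [], [], [], [], [], [], [], [], [], [], [], [], [], [], [], [], [], [], [], [], [], [], [], [], [], [], [], [], [], [], [], [], [], [], [], [], [], [], [0, 1, 3, 2, 5, 4, 9, 23, 8, 6, 17, 11, 14, 13, 12, 15, 19, 10, 21, 16, 20, 18, 22, 7], [0, 1, 17, 3, 16, 5, 4, 11, 7, 22, 12, 8, 13, 10, 14, 20, 6, 23, 9, 15, 19, 21, 18, 2], [0, 1, 12, 17, 15, 16, 5, 8, 2, 18, 14, 7, 10, 23, 13, 19, 22, 11, 4, 20, 6, 9, 21, 3], [0, 1, 14, 12, 20, 15, 16, 7, 3, 21, 13, 2, 23, 11, 10, 6, 18, 8, 5, 19, 22, 4, 9, 17], [0, 1, 13, 14, 19, 20, 15, 2, 17, 9, 10, 3, 11, 8, 23, 22, 21, 7, 16, 6, 18, 5,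 4, 12], [0, 1, 10, 13, 6, 19, 20, 3, 12, 4, 23, 17, 8, 7, 11, 18, 9, 2, 15, 22, 21, 16, 5, 14], [0, 1, 23, 10, 22, 6, 19, 17, 14, 5, 11, 12, 7, 2, 8, 21, 4, 3, 20, 18, 9, 15, 16, 13], [0, 1, 11, 23, 18, 22, 6, 12, 13, 16, 8, 14, 2, 3, 7, 9, 5, 17, 19, 21, 4, 20, 15, 10], [0, 1, 8, 11, 21, 18, 22, 14, 10, 15, 7, 13, 3, 17, 2, 4, 16, 12, 6, 9, 5, 19, 20, 23], [0, 1, 7, 8, 9, 21, 18, 13, 23, 20, 2, 10, 17, 12, 3, 5, 15, 14, 22, 4, 16, 6, 19, 11], [0, 1, 2, 7, 4, 9, 21, 10, 11, 19, 3, 23, 12, 14, 17, 16, 20, 13, 18, 5, 15, 22, 6, 8]],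
   [[], [], [], [], [], [], [], [], [], [], [], [], [], [], [], [], [], [], [], [], [], [], [0, 1, 2, 17, 9, 5, 15, 7, 10, 4, 8, 11, 13, 12, 23, 6, 16, 3, 19, 18, 20, 22, 21, 14], [0, 1, 12, 13, 16, 20, 6, 17, 8, 15, 3, 2, 11, 10, 7, 21, 19, 14, 18, 4, 22, 9, 5, 23], [0, 1, 10, 11, 19, 22, 21, 13, 3, 6, 14, 12, 2, 8, 17, 5, 18, 23, 4, 15, 9, 16, 20, 7], [0, 1, 8, 2, 18, 9, 5, 11, 14, 21, 23, 10, 12, 3, 13, 20, 4, 7, 15, 6, 16, 19, 22, 17], [0, 1, 3, 12, 4, 16, 20, 2, 23, 5, 7, 8, 10, 14, 11, 22, 15, 17, 6, 21, 19, 18, 9, 13], [0, 1, 14, 10, 15, 19, 22, 12, 7, 20, 17, 3, 8, 23, 2, 9, 6, 13, 21, 5, 18, 4, 16, 11], [0, 1, 23, 8, 6, 18, 9, 10, 17, 22, 13, 14, 3, 7, 12, 16, 21, 11, 5, 20, 4, 15, 19, 2], [0, 1, 7, 3, 21, 4, 16, 8, 13, 9, 11, 23, 14, 17, 10, 19, 5, 2, 20, 22, 15, 6,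 18, 12], [0, 1, 17, 14, 5, 15, 19, 3, 11, 16, 2, 7, 23, 13, 8, 18, 20, 12, 22, 9, 6, 21, 4, 10], [0, 1, 13, 23, 20, 6, 18, 14, 2, 19, 12, 17, 7, 11, 3, 4, 22, 10, 9, 16, 21, 5, 15, 8], [0, 1, 11, 7, 22, 21, 4, 23, 12, 18, 10, 13, 17, 2, 14, 15, 9, 8, 16, 19, 5, 20, 6, 3]],
   [[], [], [], [], [], [], [], [], [], [], [], [], [], [], [], [], [], [], [], [], [], [], [], [], [], [], [], [], [], [], [], [], [], [], [], [], [], [], [], [], [], [], [], [], [], [], [], [], [], [], [], [], [], [], [], [], [], [], [], [], [], [], [], [], [], [], [], [], [], [], [], [], [], [], [], [], [], [], [], [], [], [], [], [], [], [], [], [], [], [], [], [], [], [], [], [], [], [], [], [0, 1, 2, 17, 9, 5, 15, 7, 10, 4, 8, 11, 13, 12, 23, 6, 16, 3, 19, 18, 20, 22, 21, 14], [0, 1, 11, 7, 22, 21, 4,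 23, 12, 18, 10, 13, 17, 2, 14, 15, 9, 8, 16, 19, 5, 20, 6, 3], [0, 1, 13, 23, 20, 6, 18, 14, 2, 19, 12, 17, 7, 11, 3, 4, 22, 10, 9, 16, 21, 5, 15, 8], [0, 1, 17, 14, 5, 15, 19, 3, 11, 16, 2, 7, 23, 13, 8, 18, 20, 12, 22, 9, 6, 21, 4, 10], [0, 1, 7, 3, 21, 4, 16, 8, 13, 9, 11, 23, 14, 17, 10, 19, 5, 2, 20, 22, 15, 6, 18, 12], [0, 1, 23, 8, 6, 18, 9, 10, 17, 22, 13, 14, 3, 7, 12, 16, 21, 11, 5, 20, 4, 15, 19, 2], [0, 1, 14, 10, 15, 19, 22, 12, 7, 20, 17, 3, 8, 23, 2, 9, 6, 13, 21, 5, 18, 4, 16, 11], [0, 1, 3, 12, 4, 16, 20, 2, 23, 5, 7, 8, 10, 14, 11, 22, 15, 17, 6, 21, 19, 18, 9, 13], [0, 1, 8, 2, 18, 9, 5, 11, 14, 21, 23, 10, 12, 3, 13, 20, 4, 7, 15, 6, 16, 19, 22, 17], [0, 1, 10, 11, 19, 22, 21, 13, 3, 6, 14, 12, 2, 8, 17, 5, 18, 23, 4, 15, 9, 16, 20, 7], [0, 1, 12, 13, 16, 20,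 6, 17, 8, 15, 3, 2, 11, 10, 7, 21, 19, 14, 18, 4, 22, 9, 5, 23]],
   [[], [], [], [], [], [], [], [], [], [], [], [], [], [], [], [], [], [], [], [], [], [], [], [], [], [], [], [], [], [], [], [], [], [0, 1, 3, 2, 5, 4, 9, 23, 8, 6, 17, 11, 14, 13, 12, 15, 19, 10, 21, 16, 20, 18, 22, 7], [0, 1, 2, 7, 4, 9, 21, 10, 11, 19, 3, 23, 12, 14, 17, 16, 20, 13, 18, 5, 15, 22, 6, 8], [0, 1, 7, 8, 9, 21, 18, 13, 23, 20, 2, 10, 17, 12, 3, 5, 15, 14, 22, 4, 16, 6, 19, 11], [0, 1, 8, 11, 21, 18, 22, 14, 10, 15, 7, 13, 3, 17, 2, 4, 16, 12, 6, 9, 5, 19, 20, 23], [0, 1, 11, 23, 18, 22, 6, 12, 13, 16, 8, 14, 2, 3, 7, 9, 5, 17, 19, 21, 4, 20, 15, 10], [0, 1, 23, 10, 22, 6, 19, 17, 14, 5, 11, 12, 7, 2, 8, 21, 4, 3, 20, 18, 9, 15, 16, 13], [0, 1, 10, 13, 6, 19, 20, 3, 12, 4, 23, 17, 8, 7, 11, 18,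 9, 2, 15, 22, 21, 16, 5, 14], [0, 1, 13, 14, 19, 20, 15, 2, 17, 9, 10, 3, 11, 8, 23, 22, 21, 7, 16, 6, 18, 5, 4, 12], [0, 1, 14, 12, 20, 15, 16, 7, 3, 21, 13, 2, 23, 11, 10, 6, 18, 8, 5, 19, 22, 4, 9, 17], [0, 1, 12, 17, 15, 16, 5, 8, 2, 18, 14, 7, 10, 23, 13, 19, 22, 11, 4, 20, 6, 9, 21, 3], [0, 1, 17, 3, 16, 5, 4, 11, 7, 22, 12, 8, 13, 10, 14, 20, 6, 23, 9, 15, 19, 21, 18, 2]],
   [[], [], [], [], [], [], [], [], [], [], [], [], [], [], [], [], [], [], [], [], [], [], [], [], [], [], [], [], [], [], [], [], [], [], [], [], [], [], [], [], [], [], [], [], [0, 1, 8, 10, 6, 15, 4, 13, 2, 9, 3, 11, 23, 7, 14, 5, 22, 17, 18, 21, 20, 19, 16, 12], [0, 1, 14, 3, 5, 21, 6, 2, 10, 19, 23, 12, 17, 13, 7, 22, 16, 11, 15, 20, 9, 4, 18, 8], [0, 1, 7, 23, 22, 20, 5, 10, 3, 4, 17, 8, 11, 2,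 13, 16, 18, 12, 21, 9, 19, 6, 15, 14], [0, 1, 13, 17, 16, 9, 22, 3, 23, 6, 11, 14, 12, 10, 2, 18, 15, 8, 20, 19, 4, 5, 21, 7], [0, 1, 2, 11, 18, 19, 16, 23, 17, 5, 12, 7, 8, 3, 10, 15, 21, 14, 9, 4, 6, 22, 20, 13], [0, 1, 10, 12, 15, 4, 18, 17, 11, 22, 8, 13, 14, 23, 3, 21, 20, 7, 19, 6, 5, 16, 9, 2], [0, 1, 3, 8, 21, 6, 15, 11, 12, 16, 14, 2, 7, 17, 23, 20, 9, 13, 4, 5, 22, 18, 19, 10], [0, 1, 23, 14, 20, 5, 21, 12, 8, 18, 7, 10, 13, 11, 17, 9, 19, 2, 6, 22, 16, 15, 4, 3], [0, 1, 17, 7, 9, 22, 20, 8, 14, 15, 13, 3, 2, 12, 11, 19, 4, 10, 5, 16, 18, 21, 6, 23], [0, 1, 11, 13, 19, 16, 9, 14, 7, 21, 2, 23, 10, 8, 12, 4, 6, 3, 22, 18, 15, 20, 5, 17], [0, 1, 12, 2, 4, 18, 19, 7, 13, 20, 10, 17, 3, 14, 8, 6, 5, 23, 16, 15, 21, 9, 22, 11]],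
   [[], [], [], [], [], [], [], [], [], [], [], [], [], [], [], [], [], [], [], [], [], [], [], [], [], [], [], [], [], [], [], [], [], [], [], [], [], [], [], [], [], [], [], [], [], [], [], [], [], [], [], [], [], [], [], [], [], [], [], [], [], [], [], [], [], [], [0, 1, 17, 8, 15, 9, 6, 14, 3, 5, 10, 11, 12, 23, 7, 4, 18, 2, 16, 22, 20, 21, 19, 13], [0, 1, 2, 23, 5, 18, 20, 17, 7, 9, 14, 10, 3, 13, 11, 21, 6, 8, 4, 19, 16, 22, 15, 12], [0, 1, 8, 13, 9, 6, 16, 2, 11, 18, 17, 14, 7, 12, 10, 22, 20, 23, 21, 15, 4, 19, 5, 3], [0, 1, 23, 12, 18, 20, 4, 8, 10, 6, 2, 17, 11, 3, 14, 19, 16, 13, 22, 5, 21, 15, 9, 7], [0, 1, 13, 3, 6, 16, 21, 23, 14, 20, 8, 2, 10, 7, 17, 15, 4, 12, 19, 9, 22, 5, 18, 11], [0, 1, 12, 7, 20, 4, 22, 13, 17, 16, 23, 8, 14, 11, 2, 5, 21, 3, 15, 18, 19, 9,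 6, 10], [0, 1, 3, 11, 16, 21, 19, 12, 2, 4, 13, 23, 17, 10, 8, 9, 22, 7, 5, 6, 15, 18, 20, 14], [0, 1, 7, 10, 4, 22, 15, 3, 8, 21, 12, 13, 2, 14, 23, 18, 19, 11, 9, 20, 5, 6, 16, 17], [0, 1, 11, 14, 21, 19, 5, 7, 23, 22, 3, 12, 8, 17, 13, 6, 15, 10, 18, 16, 9, 20, 4, 2], [0, 1, 10, 17, 22, 15, 9, 11, 13, 19, 7, 3, 23, 2, 12, 20, 5, 14, 6, 4, 18, 16, 21, 8], [0, 1, 14, 2, 19, 5, 18, 10, 12, 15, 11, 7, 13, 8, 3, 16, 9, 17, 20, 21, 6, 4, 22, 23]],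
   [[], [], [], [], [], [], [], [], [], [], [], [0, 1, 10, 3, 4, 6, 5, 12, 17, 15, 2, 11, 7, 14, 13, 9, 21, 8, 22, 19, 20, 16, 18, 23], [0, 1, 17, 11, 22, 16, 18, 7, 8, 9, 23, 14, 10, 2, 3, 6, 19, 13, 15, 5, 4, 21, 20, 12], [0, 1, 8, 14, 15, 21, 20, 10, 13, 6, 12, 2, 17, 23, 11, 16, 5, 3, 9, 18, 22, 19, 4, 7], [0, 1, 13, 2, 9, 19, 4, 17, 3, 16, 7, 23, 8, 12, 14, 21, 18, 11, 6, 20, 15, 5, 22, 10], [0, 1, 3, 23, 6, 5, 22, 8, 11, 21, 10, 12, 13, 7, 2, 19, 20, 14, 16, 4, 9, 18, 15, 17], [0, 1, 11, 12, 16, 18, 15, 13, 14, 19, 17, 7, 3, 10, 23, 5, 4, 2, 21, 22, 6, 20, 9, 8], [0, 1, 14, 7, 21, 20, 9, 3, 2, 5, 8, 10, 11, 17, 12, 18, 22, 23, 19, 15, 16, 4, 6, 13], [0, 1, 2, 10, 19, 4, 6, 11, 23, 18, 13, 17, 14, 8, 7, 20, 15, 12, 5, 9, 21, 22, 16, 3], [0, 1, 23, 17, 5, 22, 16, 14, 12, 20,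 3, 8, 2, 13, 10, 4, 9, 7, 18, 6, 19, 15, 21, 11], [0, 1, 12, 8, 18, 15, 21, 2, 7, 4, 11, 13, 23, 3, 17, 22, 6, 10, 20, 16, 5, 9, 19, 14], [0, 1, 7, 13, 20, 9, 19, 23, 10, 22, 14, 3, 12, 11, 8, 15, 16, 17, 4, 21, 18, 6, 5, 2]],
   [[], [0, 1, 2, 3, 4, 5, 6, 7, 8, 9, 10, 11, 12, 13, 14, 15, 16, 17, 18, 19, 20, 21, 22, 23], [], [], [], [], [], [], [], [], [], [], [0, 1, 14, 13, 20, 19, 9, 12, 17, 15, 7, 3, 23, 8, 11, 22, 6, 10, 5, 21, 18, 16, 4, 2], [], [], [], [], [], [], [], [], [], [], [0, 1, 11, 8, 18, 21, 15, 23, 10, 22, 12, 13, 2, 17, 3, 4, 9, 7, 19, 16, 5, 6, 20, 14], [], [], [], [], [], [], [], [], [], [], [0, 1, 3, 17, 5, 16, 22, 2, 7, 4, 23, 8, 14, 10, 13, 20, 15, 12, 21, 6, 19, 9, 18, 11], [], [], [], [], [], [], [], [], [], [], [0, 1, 13, 10, 19, 6, 4, 14, 12, 20, 2,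 17, 11, 7, 8, 18, 22, 23, 16, 9, 21, 15, 5, 3], [], [], [], [], [], [], [], [], [], [], [0, 1, 8, 7, 21, 9, 20, 11, 23, 18, 14, 10, 3, 12, 17, 5, 4, 2, 6, 15, 16, 22, 19, 13], [], [], [], [], [], [], [], [], [], [], [0, 1, 17, 12, 16, 15, 18, 3, 2, 5, 11, 7, 13, 23, 10, 19, 20, 14, 9, 22, 6, 4, 21, 8], [], [], [], [], [], [], [], [], [], [], [0, 1, 10, 23, 6, 22, 5, 13, 14, 19, 3, 12, 8, 2, 7, 21, 18, 11, 15, 4, 9, 20, 16, 17], [], [], [], [], [], [], [], [], [], [], [0, 1, 7, 2, 9, 4, 19, 8, 11, 21, 13, 23, 17, 14, 12, 16, 5, 3, 22, 20, 15, 18, 6, 10], [], [], [], [], [], [], [], [], [], [], [0, 1, 12, 14, 15, 20, 21, 17, 3, 16, 8, 2, 10, 11, 23, 6, 19, 13, 4, 18, 22, 5, 9, 7], [], [], [], [], [], [], [], [], [], [], [0, 1, 23, 11, 22, 18, 16, 10, 13, 6, 17, 14, 7, 3, 2, 9, 21,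 8, 20, 5, 4, 19, 15, 12]],
   [[], [0, 1, 8, 11, 18, 21, 22, 12, 17, 15, 23, 13, 2, 10, 3, 5, 19, 14, 9, 6, 4, 16, 20, 7], [], [], [], [], [], [], [], [], [], [], [], [0, 1, 17, 3, 5, 16, 4, 23, 10, 22, 2, 8, 14, 7, 13, 19, 21, 11, 15, 9, 20, 6, 18, 12], [], [], [], [], [], [], [], [], [], [], [], [0, 1, 10, 13, 19, 6, 20, 2, 7, 4, 14, 17, 11, 12, 8, 21, 16, 3, 22, 15, 18, 9, 5, 23], [], [], [], [], [], [], [], [], [], [], [], [0, 1, 7, 8, 21, 9, 18, 14, 12, 20, 11, 10, 3, 23, 17, 16, 6, 13, 4, 22, 5, 15, 19, 2], [], [], [], [], [], [], [], [], [], [], [], [0, 1, 12, 17, 16, 15, 5, 11, 23, 18, 3, 7, 13, 2, 10, 6, 9, 8, 20, 4, 19, 22, 21, 14], [], [], [], [], [], [], [], [], [], [], [], [0, 1, 23, 10, 6, 22, 19, 3, 2, 5, 13, 12, 8, 14, 7, 9, 15, 17, 18, 20, 21, 4, 16, 11], [],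 [], [], [], [], [], [], [], [], [], [], [0, 1, 2, 7, 9, 4, 21, 13, 14, 19, 8, 23, 17, 11, 12, 15, 22, 10, 5, 18, 16, 20, 6, 3], [], [], [], [], [], [], [], [], [], [], [], [0, 1, 14, 12, 15, 20, 16, 8, 11, 21, 17, 2, 10, 3, 23, 22, 4, 7, 19, 5, 6, 18, 9, 13], [], [], [], [], [], [], [], [], [], [], [], [0, 1, 11, 23, 22, 18, 6, 17, 3, 16, 10, 14, 7, 13, 2, 4, 20, 12, 21, 19, 9, 5, 15, 8], [], [], [], [], [], [], [], [], [], [], [], [0, 1, 3, 2, 4, 5, 9, 10, 13, 6, 7, 11, 12, 8, 14, 20, 18, 23, 16, 21, 15, 19, 22, 17], [0, 1, 13, 14, 20, 19, 15, 7, 8, 9, 12, 3, 23, 17, 11, 18, 5, 2, 6, 16, 22, 21, 4, 10]],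
   [[], [0, 1, 17, 13, 9, 16, 20, 2, 14, 5, 7, 10, 8, 23, 11, 21, 6, 3, 15, 22, 18, 19, 4, 12], [], [], [], [], [], [], [], [], [], [], [], [], [0, 1, 10, 8, 15, 6, 18, 14, 11, 19, 12, 7, 17, 2, 3, 16, 9, 13, 22, 4, 5, 21, 20, 23], [], [], [], [], [], [], [], [], [], [], [], [], [0, 1, 7, 17, 22, 9, 5, 11, 3, 21, 23, 12, 10, 14, 13, 6, 15, 8, 4, 20, 19, 16, 18, 2], [], [], [], [], [], [], [], [], [], [], [], [], [0, 1, 12, 10, 4, 15, 19, 3, 13, 16, 2, 23, 7, 11, 8, 9, 22, 17, 20, 18, 21, 6, 5, 14], [], [], [], [], [], [], [], [], [], [], [], [], [0, 1, 23, 7, 20, 22, 21, 13, 8, 6, 14, 2, 12, 3, 17, 15, 4, 10, 18, 5, 16, 9, 19, 11], [], [0, 1, 2, 12, 18, 4, 16, 8, 17, 9, 11, 14, 23, 13, 10, 22, 20, 7, 5, 19, 6, 15, 21, 3], [], [], [], [], [], [], [], [], [], [], [], [], [0, 1,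 14, 23, 5, 20, 6, 17, 10, 15, 3, 11, 2, 8, 7, 4, 18, 12, 19, 21, 9, 22, 16, 13], [], [], [], [], [], [], [], [], [], [], [], [], [0, 1, 11, 2, 19, 18, 9, 10, 7, 22, 13, 3, 14, 17, 12, 20, 5, 23, 21, 16, 15, 4, 6, 8], [], [], [], [], [], [], [], [], [], [], [], [], [0, 1, 3, 14, 21, 5, 15, 7, 12, 4, 8, 13, 11, 10, 23, 18, 19, 2, 16, 6, 22, 20, 9, 17], [], [], [], [], [], [], [], [], [], [], [], [], [0, 1, 13, 11, 16, 19, 22, 12, 23, 20, 17, 8, 3, 7, 2, 5, 21, 14, 6, 9, 4, 18, 15, 10], [], [], [], [], [], [], [], [], [], [], [], [], [0, 1, 8, 3, 6, 21, 4, 23, 2, 18, 10, 17, 13, 12, 14, 19, 16, 11, 9, 15, 20, 5, 22, 7]],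
   [[], [0, 1, 14, 10, 15, 19, 4, 8, 3, 21, 12, 23, 17, 7, 13, 16, 22, 11, 5, 20, 9, 6, 18, 2], [], [], [], [], [], [], [], [], [], [], [], [], [], [0, 1, 11, 7, 22, 21, 20, 17, 13, 16, 23, 2, 10, 12, 8, 6, 4, 3, 19, 18, 15, 9, 5, 14], [], [], [], [], [], [], [], [], [], [], [], [], [], [0, 1, 3, 12, 4, 16, 18, 10, 8, 6, 2, 14, 7, 23, 17, 9, 20, 13, 21, 5, 22, 15, 19, 11], [], [], [], [], [], [], [], [], [], [], [], [], [], [0, 1, 13, 23, 20, 6, 5, 7, 17, 9, 14, 11, 12, 2, 10, 15, 18, 8, 16, 19, 4, 22, 21, 3], [], [], [0, 1, 8, 2, 18, 9, 19, 12, 10, 15, 11, 3, 23, 14, 7, 22, 5, 17, 6, 21, 20, 4, 16, 13], [], [], [], [], [], [], [], [], [], [], [], [], [], [0, 1, 17, 14, 5, 15, 21, 23, 7, 22, 3, 13, 2, 11, 12, 4, 19, 10, 9, 16, 18, 20, 6, 8], [], [], [], [], [], [], [], [], [],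 [], [], [], [], [0, 1, 10, 11, 19, 22, 16, 2, 12, 4, 13, 8, 14, 3, 23, 20, 21, 7, 15, 6, 5, 18, 9, 17], [], [], [0, 1, 7, 3, 21, 4, 6, 14, 23, 20, 8, 17, 11, 13, 2, 18, 16, 12, 22, 9, 19, 5, 15, 10], [], [], [], [], [], [], [], [], [], [], [], [], [], [0, 1, 12, 13, 16, 20, 9, 11, 2, 18, 17, 10, 3, 8, 14, 5, 6, 23, 4, 15, 21, 19, 22, 7], [], [], [], [], [], [], [], [], [], [], [], [], [], [0, 1, 23, 8, 6, 18, 15, 3, 14, 5, 10, 7, 13, 17, 11, 19, 9, 2, 20, 22, 16, 21, 4, 12], [], [], [], [], [], [], [], [], [], [], [], [], [], [0, 1, 2, 17, 9, 5, 22, 13, 11, 19, 7, 12, 8, 10, 3, 21, 15, 14, 18, 4, 6, 16, 20, 23]],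
   [[], [0, 1, 3, 23, 5, 6, 18, 17, 11, 16, 2, 7, 14, 12, 10, 19, 20, 13, 21, 4, 15, 22, 9, 8], [], [], [], [], [], [], [], [], [], [], [], [], [], [], [0, 1, 13, 2, 19, 9, 5, 10, 3, 6, 14, 12, 11, 23, 7, 21, 18, 8, 16, 20, 22, 4, 15, 17], [], [], [], [], [], [], [], [], [], [], [], [], [], [], [0, 1, 8, 14, 21, 15, 19, 7, 13, 9, 11, 23, 3, 2, 12, 16, 5, 17, 6, 18, 4, 20, 22, 10], [], [], [], [0, 1, 17, 11, 16, 22, 21, 12, 8, 15, 3, 2, 13, 14, 23, 6, 19, 10, 9, 5, 20, 18, 4, 7], [], [], [], [], [], [], [], [], [], [], [], [], [], [], [0, 1, 10, 3, 6, 4, 16, 23, 17, 22, 13, 14, 8, 11, 2, 9, 21, 7, 15, 19, 18, 5, 20, 12], [], [], [], [], [], [], [], [], [], [], [], [], [], [], [0, 1, 7, 13, 9, 20, 6, 2, 10, 4, 8, 11, 17, 3, 14, 15, 16, 12, 22, 21, 5, 19, 18, 23], [], [], [], [0,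 1, 12, 8, 15, 18, 9, 14, 7, 20, 17, 3, 10, 13, 11, 22, 6, 23, 4, 16, 19, 21, 5, 2], [], [], [], [], [], [], [], [], [], [], [], [], [], [], [0, 1, 23, 17, 22, 5, 15, 11, 12, 18, 10, 13, 7, 8, 3, 4, 9, 2, 20, 6, 21, 16, 19, 14], [], [], [], [0, 1, 2, 10, 4, 19, 22, 3, 23, 5, 7, 8, 12, 17, 13, 20, 15, 14, 18, 9, 16, 6, 21, 11], [], [], [], [], [], [], [], [], [], [], [], [], [], [], [0, 1, 14, 7, 20, 21, 4, 13, 2, 19, 12, 17, 23, 10, 8, 18, 22, 11, 5, 15, 6, 9, 16, 3], [], [], [], [], [], [], [], [], [], [], [], [], [], [], [0, 1, 11, 12, 18, 16, 20, 8, 14, 21, 23, 10, 2, 7, 17, 5, 4, 3, 19, 22, 9, 15, 6, 13]],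
   [[], [0, 1, 11, 7, 21, 22, 9, 14, 13, 19, 8, 12, 3, 2, 23, 6, 4, 10, 16, 18, 5, 20, 15, 17], [], [], [], [], [], [], [], [], [], [], [], [], [], [], [], [0, 1, 3, 12, 16, 4, 15, 11, 8, 21, 17, 23, 13, 14, 2, 9, 20, 7, 6, 5, 19, 18, 22, 10], [], [], [], [], [0, 1, 13, 23, 6, 20, 22, 3, 17, 16, 10, 2, 8, 11, 14, 15, 18, 12, 9, 19, 21, 5, 4, 7], [], [], [], [], [], [], [], [], [], [], [], [], [], [], [], [0, 1, 8, 2, 9, 18, 4, 13, 10, 6, 7, 14, 17, 3, 11, 22, 5, 23, 15, 21, 16, 19, 20, 12], [], [], [], [], [], [], [], [], [], [], [], [], [], [], [], [0, 1, 17, 14, 15, 5, 20, 8, 7, 9, 12, 11, 10, 13, 3, 4, 19, 2, 22, 16, 6, 21, 18, 23], [], [], [], [], [0, 1, 10, 11, 22, 19, 18, 17, 12, 15, 23, 3, 7, 8, 13, 20, 21, 14, 4, 6, 9, 16, 5, 2], [], [], [], [], [], [], [], [], [], [],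 [], [], [], [], [], [0, 1, 7, 3, 4, 21, 5, 10, 23, 22, 2, 13, 12, 17, 8, 18, 16, 11, 20, 9, 15, 6, 19, 14], [], [], [], [], [0, 1, 12, 13, 20, 16, 19, 7, 2, 4, 14, 8, 23, 10, 17, 5, 6, 3, 18, 15, 22, 9, 21, 11], [], [], [], [], [], [], [], [], [], [], [], [], [], [], [], [0, 1, 23, 8, 18, 6, 21, 12, 14, 20, 11, 17, 2, 7, 10, 19, 9, 13, 5, 22, 4, 15, 16, 3], [], [], [], [], [0, 1, 2, 17, 5, 9, 16, 23, 11, 18, 3, 10, 14, 12, 7, 21, 15, 8, 19, 4, 20, 22, 6, 13], [], [], [], [], [], [], [], [], [], [], [], [], [], [], [], [0, 1, 14, 10, 19, 15, 6, 2, 3, 5, 13, 7, 11, 23, 12, 16, 22, 17, 21, 20, 18, 4, 9, 8]],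
   [[], [0, 1, 13, 12, 16, 20, 15, 3, 10, 6, 17, 2, 11, 8, 7, 22, 18, 23, 19, 9, 21, 4, 5, 14], [], [], [], [], [], [], [], [], [], [], [], [], [], [], [], [], [0, 1, 8, 23, 6, 18, 22, 13, 7, 9, 10, 14, 3, 17, 12, 4, 5, 2, 21, 15, 16, 20, 19, 11], [], [], [], [], [], [0, 1, 17, 2, 9, 5, 4, 8, 12, 15, 7, 11, 13, 10, 23, 20, 19, 14, 16, 22, 6, 18, 21, 3], [], [], [], [], [], [], [], [], [], [], [], [], [], [], [], [], [0, 1, 10, 14, 15, 19, 20, 17, 23, 22, 12, 3, 8, 7, 2, 18, 21, 11, 6, 4, 9, 5, 16, 13], [], [], [], [], [], [0, 1, 7, 11, 22, 21, 18, 10, 2, 4, 23, 13, 17, 12, 14, 5, 16, 3, 9, 20, 15, 19, 6, 8], [], [], [], [], [], [], [], [], [], [], [], [], [], [], [], [], [0, 1, 12, 3, 4, 16, 5, 7, 14, 20, 2, 8, 10, 23, 11, 19, 6, 13, 15, 18, 22, 21, 9, 17], [], [], [], [], [],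 [0, 1, 23, 13, 20, 6, 19, 12, 11, 18, 14, 17, 7, 2, 3, 21, 9, 8, 22, 5, 4, 16, 15, 10], [], [], [], [], [], [], [], [], [], [], [], [], [], [], [], [], [0, 1, 2, 8, 18, 9, 21, 23, 3, 5, 11, 10, 12, 14, 13, 16, 15, 17, 4, 19, 20, 6, 22, 7], [], [], [], [], [], [0, 1, 14, 17, 5, 15, 16, 2, 13, 19, 3, 7, 23, 11, 8, 6, 22, 10, 20, 21, 18, 9, 4, 12], [], [], [], [], [], [0, 1, 11, 10, 19, 22, 6, 14, 8, 21, 13, 12, 2, 3, 17, 9, 4, 7, 18, 16, 5, 15, 20, 23], [], [], [], [], [], [], [], [], [], [], [], [], [], [], [], [], [0, 1, 3, 7, 21, 4, 9, 11, 17, 16, 8, 23, 14, 13, 10, 15, 20, 12, 5, 6, 19, 22, 18, 2]],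
   [[], [0, 1, 10, 2, 19, 4, 5, 11, 23, 22, 14, 8, 13, 17, 12, 20, 9, 7, 6, 15, 16, 18, 21, 3], [], [], [], [], [], [], [], [], [], [], [], [], [], [], [], [], [], [0, 1, 7, 14, 21, 20, 19, 3, 2, 4, 11, 17, 8, 10, 23, 18, 15, 12, 9, 22, 6, 5, 16, 13], [], [], [], [], [], [], [0, 1, 12, 11, 16, 18, 21, 13, 14, 20, 3, 10, 17, 7, 2, 5, 22, 23, 15, 4, 9, 19, 6, 8], [], [], [], [], [], [], [0, 1, 23, 3, 6, 5, 16, 8, 11, 18, 13, 7, 10, 12, 14, 19, 4, 2, 22, 20, 15, 21, 9, 17], [], [], [], [], [], [], [], [], [], [], [], [], [], [], [], [], [], [0, 1, 2, 13, 9, 19, 6, 17, 3, 5, 8, 12, 7, 23, 11, 21, 20, 14, 4, 18, 22, 16, 15, 10], [], [], [], [], [], [], [0, 1, 14, 8, 15, 21, 9, 10, 13, 19, 17, 23, 12, 2, 3, 16, 18, 11, 20, 5, 4, 6, 22, 7], [], [], [], [], [], [], [], [], [], [], [],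 [], [], [], [], [], [], [0, 1, 11, 17, 22, 16, 15, 7, 8, 21, 10, 2, 23, 14, 13, 6, 5, 3, 18, 19, 20, 9, 4, 12], [], [], [], [], [], [], [0, 1, 3, 10, 4, 6, 22, 12, 17, 16, 7, 14, 2, 11, 8, 9, 19, 13, 5, 21, 18, 15, 20, 23], [], [], [], [], [], [], [0, 1, 13, 7, 20, 9, 4, 23, 10, 6, 12, 11, 14, 3, 17, 15, 21, 8, 19, 16, 5, 22, 18, 2], [], [], [], [], [], [], [], [], [], [], [], [], [], [], [], [], [], [0, 1, 8, 12, 18, 15, 20, 2, 7, 9, 23, 3, 11, 13, 10, 22, 16, 17, 21, 6, 19, 4, 5, 14], [], [], [], [], [], [], [0, 1, 17, 23, 5, 22, 18, 14, 12, 15, 2, 13, 3, 8, 7, 4, 6, 10, 16, 9, 21, 20, 19, 11]],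
   [[], [0, 1, 23, 8, 6, 18, 21, 13, 7, 20, 3, 17, 10, 14, 2, 4, 15, 12, 22, 5, 19, 9, 16, 11], [], [], [], [], [], [], [], [], [], [], [], [], [], [], [], [], [], [], [0, 1, 2, 17, 9, 5, 16, 8, 12, 18, 13, 10, 7, 11, 14, 20, 22, 23, 4, 19, 21, 15, 6, 3], [], [], [], [], [], [], [], [0, 1, 14, 10, 15, 19, 6, 17, 23, 5, 8, 7, 12, 3, 11, 18, 4, 2, 20, 21, 16, 22, 9, 13], [], [], [], [], [], [], [], [0, 1, 11, 7, 22, 21, 9, 10, 2, 19, 17, 12, 23, 13, 3, 5, 20, 14, 18, 16, 6, 4, 15, 8], [], [], [], [], [], [], [], [0, 1, 3, 12, 4, 16, 15, 7, 14, 21, 10, 23, 2, 8, 13, 19, 18, 11, 5, 6, 9, 20, 22, 17], [], [], [], [], [], [], [], [], [], [], [], [], [], [], [], [], [], [], [0, 1, 13, 23, 20, 6, 22, 12, 11, 16, 7, 2, 14, 17, 8, 21, 5, 3, 19, 9, 15, 18, 4, 10], [], [], [], [], [], [],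 [], [0, 1, 8, 2, 18, 9, 4, 23, 3, 6, 12, 14, 11, 10, 17, 16, 19, 13, 21, 15, 22, 5, 20, 7], [], [], [], [], [], [], [], [0, 1, 17, 14, 5, 15, 20, 2, 13, 9, 23, 11, 3, 7, 10, 6, 21, 8, 16, 22, 4, 19, 18, 12], [], [], [], [], [], [], [], [], [], [], [], [], [], [], [], [], [], [], [0, 1, 10, 11, 19, 22, 18, 14, 8, 15, 2, 3, 13, 12, 7, 9, 16, 17, 6, 4, 20, 21, 5, 23], [], [], [], [], [], [], [], [0, 1, 7, 3, 21, 4, 5, 11, 17, 22, 14, 13, 8, 23, 12, 15, 6, 10, 9, 20, 18, 16, 19, 2], [], [], [], [], [], [], [], [0, 1, 12, 13, 16, 20, 19, 3, 10, 4, 11, 8, 17, 2, 23, 22, 9, 7, 15, 18, 5, 6, 21, 14]],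
   [[], [0, 1, 7, 17, 22, 9, 16, 10, 12, 4, 11, 14, 23, 3, 8, 18, 5, 2, 20, 21, 6, 15, 19, 13], [], [], [], [], [], [], [], [], [], [], [], [], [], [], [], [], [], [], [], [0, 1, 12, 10, 4, 15, 6, 7, 23, 20, 3, 11, 2, 13, 17, 5, 19, 14, 18, 16, 9, 22, 21, 8], [], [], [], [], [], [], [], [], [0, 1, 23, 7, 20, 22, 9, 12, 2, 18, 13, 3, 14, 8, 10, 19, 21, 11, 5, 6, 15, 4, 16, 17], [], [], [], [], [], [], [], [], [0, 1, 2, 12, 18, 4, 15, 23, 14, 5, 8, 13, 11, 17, 7, 21, 16, 3, 19, 9, 22, 20, 6, 10], [], [], [], [], [], [], [], [], [0, 1, 14, 23, 5, 20, 22, 2, 11, 19, 17, 8, 3, 10, 12, 16, 6, 13, 21, 15, 4, 18, 9, 7], [], [], [], [], [], [], [], [], [0, 1, 11, 2, 19, 18, 4, 14, 3, 21, 10, 17, 13, 7, 23, 6, 9, 8, 16, 22, 20, 5, 15, 12], [], [], [], [], [], [], [], [], [0, 1, 3, 14, 21,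 5, 20, 11, 13, 16, 7, 10, 8, 12, 2, 9, 15, 17, 6, 4, 18, 19, 22, 23], [], [], [], [], [], [], [], [], [], [], [], [], [], [], [], [], [], [], [], [0, 1, 13, 11, 16, 19, 18, 3, 8, 6, 12, 7, 17, 23, 14, 15, 22, 10, 9, 20, 5, 21, 4, 2], [], [], [], [], [], [], [], [], [0, 1, 8, 3, 6, 21, 5, 13, 17, 9, 23, 12, 10, 2, 11, 22, 4, 7, 15, 18, 19, 16, 20, 14], [], [], [], [], [], [], [], [], [0, 1, 17, 13, 9, 16, 19, 8, 10, 15, 2, 23, 7, 14, 3, 4, 20, 12, 22, 5, 21, 6, 18, 11], [], [], [], [], [], [], [], [], [0, 1, 10, 8, 15, 6, 21, 17, 7, 22, 14, 2, 12, 11, 13, 20, 18, 23, 4, 19, 16, 9, 5, 3]],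
   [[], [0, 1, 12, 14, 20, 15, 19, 23, 2, 18, 13, 3, 7, 11, 17, 9, 21, 8, 4, 16, 22, 5, 6, 10], [], [], [], [], [], [], [], [], [], [0, 1, 23, 11, 18, 22, 21, 2, 14, 5, 8, 13, 12, 3, 10, 15, 16, 17, 20, 6, 4, 19, 9, 7], [], [], [], [], [], [], [], [], [], [], [], [], [], [], [], [], [], [], [], [], [0, 1, 2, 3, 5, 4, 16, 14, 11, 19, 17, 8, 23, 13, 7, 22, 6, 10, 18, 9, 20, 21, 15, 12], [], [], [], [], [], [], [], [], [], [0, 1, 14, 13, 19, 20, 6, 11, 3, 21, 10, 17, 2, 8, 12, 4, 9, 7, 5, 15, 18, 16, 22, 23], [], [], [], [], [], [], [], [], [], [0, 1, 11, 8, 21, 18, 9, 3, 13, 16, 7, 10, 14, 17, 23, 20, 15, 12, 19, 22, 5, 6, 4, 2], [], [], [], [], [], [], [], [], [], [0, 1, 3, 17, 16, 5, 15, 13, 8, 6, 12, 7, 11, 10, 2, 18, 22, 23, 21, 4, 19, 9, 20, 14], [], [], [], [], [], [], [],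 [], [], [0, 1, 13, 10, 6, 19, 22, 8, 17, 9, 23, 12, 3, 7, 14, 5, 4, 2, 16, 20, 21, 15, 18, 11], [], [], [], [], [], [], [], [], [], [0, 1, 8, 7, 9, 21, 4, 17, 10, 15, 2, 23, 13, 12, 11, 19, 20, 14, 6, 18, 16, 22, 5, 3], [], [], [], [], [], [], [], [], [], [0, 1, 17, 12, 15, 16, 20, 10, 7, 22, 14, 2, 8, 23, 3, 21, 18, 11, 9, 5, 6, 4, 19, 13], [], [], [], [], [], [], [], [], [], [0, 1, 10, 23, 22, 6, 18, 7, 12, 4, 11, 14, 17, 2, 13, 16, 5, 3, 15, 19, 9, 20, 21, 8], [], [], [], [], [], [], [], [], [], [0, 1, 7, 2, 4, 9, 5, 12, 23, 20, 3, 11, 10, 14, 8, 6, 19, 13, 22, 21, 15, 18, 16, 17]],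
   [[], [], [], [], [], [], [0, 1, 10, 8, 15, 6, 9, 12, 2, 4, 17, 11, 14, 7, 23, 5, 21, 3, 19, 22, 20, 18, 16, 13], [], [], [], [], [], [], [], [], [], [], [0, 1, 11, 2, 19, 18, 5, 13, 17, 16, 14, 7, 10, 3, 8, 15, 4, 12, 22, 21, 6, 9, 20, 23], [], [], [], [], [], [], [], [], [], [], [0, 1, 7, 17, 22, 9, 15, 23, 14, 20, 10, 3, 11, 12, 2, 19, 16, 13, 21, 4, 18, 5, 6, 8], [], [], [], [], [], [], [], [], [], [], [0, 1, 3, 14, 21, 5, 19, 8, 10, 6, 11, 12, 7, 13, 17, 22, 20, 23, 4, 16, 9, 15, 18, 2], [], [], [], [], [], [], [], [], [], [], [0, 1, 12, 10, 4, 15, 22, 2, 11, 18, 7, 13, 3, 23, 14, 21, 6, 8, 16, 20, 5, 19, 9, 17], [], [], [], [], [], [], [], [], [], [], [0, 1, 13, 11, 16, 19, 21, 17, 7, 9, 3, 23, 12, 8, 10, 4, 18, 2, 20, 6, 15, 22, 5, 14], [], [], [], [], [], [], [], [],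 [], [], [0, 1, 23, 7, 20, 22, 4, 14, 3, 5, 12, 8, 13, 2, 11, 16, 9, 17, 6, 18, 19, 21, 15, 10], [], [], [], [], [], [], [], [], [], [], [0, 1, 8, 3, 6, 21, 16, 10, 12, 15, 13, 2, 23, 17, 7, 20, 5, 14, 18, 9, 22, 4, 19, 11], [], [], [], [], [], [], [], [], [], [], [0, 1, 2, 12, 18, 4, 20, 11, 13, 19, 23, 17, 8, 14, 3, 6, 15, 10, 9, 5, 21, 16, 22, 7], [], [], [], [], [], [], [], [], [], [], [0, 1, 17, 13, 9, 16, 6, 7, 23, 22, 8, 14, 2, 10, 12, 18, 19, 11, 5, 15, 4, 20, 21, 3], [], [], [], [], [], [], [], [], [], [], [0, 1, 14, 23, 5, 20, 18, 3, 8, 21, 2, 10, 17, 11, 13, 9, 22, 7, 15, 19, 16, 6, 4, 12]],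
   [[], [], [], [], [], [], [0, 1, 7, 14, 21, 20, 5, 8, 17, 9, 3, 10, 11, 2, 12, 16, 19, 13, 22, 4, 18, 15, 6, 23], [], [], [], [], [], [0, 1, 3, 10, 4, 6, 15, 2, 14, 5, 12, 11, 7, 17, 13, 20, 22, 23, 21, 16, 9, 19, 18, 8], [], [], [], [], [], [], [], [], [], [], [], [], [], [], [], [], [0, 1, 12, 11, 16, 18, 19, 17, 10, 15, 13, 7, 3, 14, 23, 6, 21, 8, 4, 20, 5, 22, 9, 2], [], [], [], [], [], [0, 1, 13, 7, 20, 9, 22, 14, 11, 19, 23, 3, 12, 10, 8, 18, 4, 2, 16, 6, 15, 21, 5, 17], [], [], [], [], [], [], [], [], [], [], [], [], [], [], [], [], [0, 1, 23, 3, 6, 5, 21, 10, 7, 22, 8, 12, 13, 11, 2, 9, 16, 17, 20, 18, 19, 4, 15, 14], [], [], [], [], [], [0, 1, 8, 12, 18, 15, 4, 11, 3, 21, 2, 13, 23, 7, 17, 5, 20, 14, 6, 9, 22, 16, 19, 10], [], [], [], [], [], [], [], [], [], [], [],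 [], [], [], [], [], [0, 1, 2, 13, 9, 19, 16, 7, 12, 4, 17, 23, 8, 3, 14, 15, 6, 10, 18, 5, 21, 20, 22, 11], [], [], [], [], [], [0, 1, 17, 23, 5, 22, 20, 3, 13, 16, 14, 8, 2, 12, 10, 19, 18, 11, 9, 15, 4, 6, 21, 7], [], [], [], [], [], [], [], [], [], [], [], [], [], [], [], [], [0, 1, 14, 8, 15, 21, 6, 12, 23, 20, 10, 2, 17, 13, 11, 22, 9, 7, 5, 19, 16, 18, 4, 3], [], [], [], [], [], [0, 1, 10, 2, 19, 4, 18, 13, 8, 6, 11, 17, 14, 23, 7, 21, 5, 3, 15, 22, 20, 9, 16, 12], [], [], [], [], [], [0, 1, 11, 17, 22, 16, 9, 23, 2, 18, 7, 14, 10, 8, 3, 4, 15, 12, 19, 21, 6, 5, 20, 13]],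
   [[], [], [], [], [], [], [0, 1, 2, 11, 19, 18, 16, 14, 3, 5, 13, 7, 10, 17, 8, 6, 22, 23, 4, 9, 15, 21, 20, 12], [], [], [], [], [], [], [], [], [], [], [], [0, 1, 17, 7, 22, 9, 20, 10, 12, 15, 23, 3, 11, 14, 2, 18, 21, 8, 16, 5, 19, 4, 6, 13], [], [], [], [], [], [], [], [], [], [], [], [0, 1, 14, 3, 21, 5, 6, 11, 13, 19, 8, 12, 7, 10, 17, 9, 4, 2, 20, 15, 22, 16, 18, 23], [], [], [], [], [], [], [], [], [], [], [], [0, 1, 10, 12, 4, 15, 18, 7, 23, 22, 2, 13, 3, 11, 14, 5, 16, 17, 6, 19, 21, 20, 9, 8], [], [], [], [], [], [], [], [], [], [], [], [0, 1, 11, 13, 16, 19, 9, 3, 8, 21, 17, 23, 12, 7, 10, 15, 20, 14, 18, 22, 4, 6, 5, 2], [0, 1, 7, 23, 20, 22, 5, 12, 2, 4, 14, 8, 13, 3, 11, 19, 6, 10, 9, 21, 16, 18, 15, 17], [], [], [], [], [], [], [], [], [], [], [], [0, 1, 3, 8,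 6, 21, 15, 13, 17, 16, 10, 2, 23, 12, 7, 22, 18, 11, 5, 4, 20, 9, 19, 14], [], [], [], [], [], [], [], [], [], [], [], [0, 1, 12, 2, 18, 4, 19, 23, 14, 20, 11, 17, 8, 13, 3, 21, 9, 7, 15, 16, 6, 5, 22, 10], [], [], [], [], [], [], [], [], [], [], [], [0, 1, 13, 17, 9, 16, 22, 8, 10, 6, 7, 14, 2, 23, 12, 4, 5, 3, 19, 20, 18, 15, 21, 11], [], [], [], [], [], [], [], [], [], [], [], [0, 1, 23, 14, 5, 20, 21, 2, 11, 18, 3, 10, 17, 8, 13, 16, 15, 12, 22, 6, 9, 19, 4, 7], [], [], [], [], [], [], [], [], [], [], [], [0, 1, 8, 10, 15, 6, 4, 17, 7, 9, 12, 11, 14, 2, 23, 20, 19, 13, 21, 18, 5, 22, 16, 3]],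
   [[], [], [], [], [], [], [0, 1, 17, 10, 22, 15, 6, 11, 13, 16, 23, 2, 7, 3, 14, 20, 4, 12, 9, 5, 21, 19, 18, 8], [], [], [], [], [], [], [0, 1, 14, 11, 21, 19, 18, 7, 23, 20, 8, 17, 3, 12, 10, 6, 16, 13, 5, 15, 4, 22, 9, 2], [], [], [], [], [], [], [], [], [], [], [], [], [], [], [], [], [], [0, 1, 10, 7, 4, 22, 9, 3, 8, 6, 2, 14, 12, 13, 11, 18, 20, 23, 15, 19, 16, 21, 5, 17], [], [], [], [], [], [], [0, 1, 11, 3, 16, 21, 5, 12, 2, 18, 17, 10, 13, 23, 7, 9, 6, 8, 19, 22, 20, 4, 15, 14], [], [], [], [], [], [], [0, 1, 7, 12, 20, 4, 15, 13, 17, 9, 14, 11, 23, 8, 3, 5, 18, 2, 22, 21, 6, 16, 19, 10], [], [], [], [], [], [], [], [], [], [], [], [], [], [], [], [], [], [0, 1, 3, 13, 6, 16, 19, 23, 14, 5, 10, 7, 8, 2, 12, 15, 9, 17, 21, 4, 18, 20, 22, 11], [], [], [], [], [], [],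 [0, 1, 12, 23, 18, 20, 22, 8, 10, 15, 11, 3, 2, 17, 13, 19, 5, 14, 4, 16, 9, 6, 21, 7], [], [], [], [], [], [], [0, 1, 13, 8, 9, 6, 21, 2, 11, 19, 7, 12, 17, 14, 23, 22, 15, 10, 16, 20, 5, 18, 4, 3], [], [], [], [], [], [], [], [], [], [], [], [], [], [], [], [], [], [0, 1, 23, 2, 5, 18, 4, 17, 7, 22, 3, 13, 14, 10, 8, 21, 19, 11, 20, 6, 15, 9, 16, 12], [], [], [], [], [], [], [0, 1, 8, 17, 15, 9, 16, 14, 3, 21, 12, 23, 10, 11, 2, 4, 22, 7, 6, 18, 19, 5, 20, 13], [], [], [], [], [], [], [], [], [], [], [], [], [], [], [], [], [], [0, 1, 2, 14, 19, 5, 20, 10, 12, 4, 13, 8, 11, 7, 17, 16, 21, 3, 18, 9, 22, 15, 6, 23]],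
   [[], [], [], [], [], [], [0, 1, 3, 7, 4, 21, 20, 10, 23, 6, 12, 17, 2, 13, 11, 18, 9, 8, 5, 16, 19, 22, 15, 14], [], [], [], [], [], [], [], [], [], [], [], [], [0, 1, 12, 3, 16, 4, 6, 11, 8, 18, 13, 14, 17, 23, 7, 9, 5, 2, 15, 20, 22, 21, 19, 10], [], [], [], [], [], [], [], [], [], [], [], [], [0, 1, 13, 12, 20, 16, 18, 7, 2, 9, 23, 10, 14, 8, 3, 5, 15, 17, 19, 6, 21, 4, 22, 11], [], [0, 1, 23, 13, 6, 20, 9, 3, 17, 5, 8, 11, 10, 2, 12, 15, 19, 14, 22, 18, 4, 16, 21, 7], [], [], [], [], [], [], [], [], [], [], [], [], [0, 1, 8, 23, 18, 6, 5, 12, 14, 15, 2, 7, 11, 17, 13, 19, 22, 10, 21, 9, 16, 20, 4, 3], [], [], [], [], [], [], [], [], [], [], [], [], [0, 1, 2, 8, 9, 18, 15, 13, 10, 19, 17, 3, 7, 14, 23, 22, 21, 11, 4, 5, 20, 6, 16, 12], [], [], [], [], [], [], [], [], [],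 [], [], [], [0, 1, 17, 2, 5, 9, 19, 23, 11, 22, 14, 12, 3, 10, 8, 21, 4, 7, 16, 15, 6, 18, 20, 13], [], [], [], [], [], [], [], [], [], [], [], [], [0, 1, 14, 17, 15, 5, 22, 8, 7, 21, 10, 13, 12, 11, 2, 4, 16, 3, 20, 19, 18, 9, 6, 23], [], [0, 1, 10, 14, 19, 15, 21, 2, 3, 4, 11, 23, 13, 7, 17, 16, 20, 12, 6, 22, 9, 5, 18, 8], [], [], [], [], [], [], [], [], [], [], [], [], [0, 1, 11, 10, 22, 19, 4, 17, 12, 16, 7, 8, 23, 3, 14, 20, 6, 13, 18, 21, 5, 15, 9, 2], [], [], [], [], [], [], [], [], [], [], [], [], [0, 1, 7, 11, 21, 22, 16, 14, 13, 20, 3, 2, 8, 12, 10, 6, 18, 23, 9, 4, 15, 19, 5, 17]],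
   [[], [], [], [], [], [], [0, 1, 13, 2, 9, 19, 18, 7, 12, 20, 8, 3, 17, 23, 10, 15, 5, 14, 16, 6, 22, 4, 21, 11], [], [], [], [], [], [], [], [0, 1, 23, 17, 5, 22, 9, 3, 13, 6, 2, 12, 14, 8, 11, 19, 15, 10, 20, 18, 21, 16, 4, 7], [], [], [], [], [], [], [], [0, 1, 8, 14, 15, 21, 5, 12, 23, 18, 17, 13, 10, 2, 7, 22, 19, 11, 6, 9, 4, 20, 16, 3], [], [], [], [], [], [], [], [], [], [], [], [], [], [], [], [], [], [], [0, 1, 2, 10, 19, 4, 15, 13, 8, 9, 14, 23, 11, 17, 3, 21, 22, 7, 18, 5, 16, 6, 20, 12], [], [], [], [], [], [], [], [0, 1, 17, 11, 22, 16, 19, 23, 2, 5, 10, 8, 7, 14, 12, 4, 21, 3, 9, 15, 20, 18, 6, 13], [], [], [], [], [], [], [], [0, 1, 14, 7, 21, 20, 22, 8, 17, 15, 11, 2, 3, 10, 13, 16, 4, 12, 5, 19, 6, 9, 18, 23], [], [], [], [], [], [], [], [], [], [], [], [],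 [], [], [], [], [], [], [0, 1, 10, 3, 4, 6, 21, 2, 14, 19, 7, 17, 12, 11, 23, 20, 16, 13, 15, 22, 18, 5, 9, 8], [], [], [], [], [], [], [], [0, 1, 11, 12, 16, 18, 4, 17, 10, 22, 3, 14, 13, 7, 8, 6, 20, 23, 19, 21, 9, 15, 5, 2], [], [], [], [], [], [], [], [0, 1, 7, 13, 20, 9, 16, 14, 11, 21, 12, 10, 23, 3, 2, 18, 6, 8, 22, 4, 5, 19, 15, 17], [], [], [], [], [], [], [], [0, 1, 3, 23, 6, 5, 20, 10, 7, 4, 13, 11, 8, 12, 17, 9, 18, 2, 21, 16, 15, 22, 19, 14], [], [], [], [], [], [], [], [], [], [], [], [], [], [], [], [], [], [], [0, 1, 12, 8, 18, 15, 6, 11, 3, 16, 23, 7, 2, 13, 14, 5, 9, 17, 4, 20, 19, 21, 22, 10]],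
   [[], [], [], [], [], [], [0, 1, 23, 17, 5, 22, 15, 2, 8, 18, 14, 13, 3, 12, 7, 21, 16, 11, 6, 20, 4, 9, 19, 10], [], [], [], [], [], [], [], [], [], [], [], [], [], [0, 1, 8, 14, 15, 21, 19, 17, 2, 9, 10, 23, 12, 13, 3, 4, 20, 7, 18, 6, 16, 5, 22, 11], [], [], [0, 1, 2, 10, 19, 4, 22, 14, 17, 5, 11, 8, 13, 23, 12, 16, 6, 3, 9, 18, 20, 15, 21, 7], [], [], [], [], [], [], [], [], [], [], [], [], [], [0, 1, 17, 11, 22, 16, 21, 10, 14, 15, 7, 2, 23, 8, 13, 20, 18, 12, 5, 9, 6, 19, 4, 3], [], [], [], [], [], [], [], [], [], [], [], [], [], [0, 1, 14, 7, 21, 20, 4, 11, 10, 19, 3, 17, 8, 2, 23, 6, 9, 13, 15, 5, 18, 22, 16, 12], [], [], [], [], [], [], [], [], [], [], [], [], [], [0, 1, 10, 3, 4, 6, 16, 7, 11, 22, 12, 14, 2, 17, 8, 18, 5, 23, 19, 15, 9, 21, 20, 13], [], [], [0, 1,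 11, 12, 16, 18, 20, 3, 7, 21, 13, 10, 17, 14, 2, 9, 15, 8, 22, 19, 5, 4, 6, 23], [], [], [], [], [], [], [], [], [], [], [], [], [], [0, 1, 7, 13, 20, 9, 6, 12, 3, 4, 23, 11, 14, 10, 17, 5, 19, 2, 21, 22, 15, 16, 18, 8], [], [], [], [], [], [], [], [], [], [], [], [], [], [0, 1, 3, 23, 6, 5, 18, 13, 12, 16, 8, 7, 10, 11, 14, 15, 22, 17, 4, 21, 19, 20, 9, 2], [], [], [0, 1, 12, 8, 18, 15, 9, 23, 13, 20, 2, 3, 11, 7, 10, 19, 21, 14, 16, 4, 22, 6, 5, 17], [], [], [], [], [], [], [], [], [], [], [], [], [], [0, 1, 13, 2, 9, 19, 5, 8, 23, 6, 17, 12, 7, 3, 11, 22, 4, 10, 20, 16, 21, 18, 15, 14]],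
   [[], [], [], [], [], [], [0, 1, 12, 3, 16, 4, 21, 17, 14, 15, 11, 23, 13, 8, 2, 19, 6, 10, 20, 18, 9, 5, 22, 7], [], [], [], [], [], [], [], [], [0, 1, 13, 12, 20, 16, 4, 14, 10, 19, 7, 8, 23, 2, 17, 22, 18, 11, 6, 9, 5, 15, 21, 3], [], [], [], [], [], [], [], [], [0, 1, 23, 13, 6, 20, 16, 10, 11, 22, 3, 2, 8, 17, 14, 21, 9, 7, 18, 5, 15, 19, 4, 12], [], [], [], [], [], [], [], [], [0, 1, 8, 23, 18, 6, 20, 11, 7, 21, 12, 17, 2, 14, 10, 4, 5, 3, 9, 15, 19, 22, 16, 13], [], [], [], [], [], [], [], [], [], [], [], [], [], [], [], [], [], [], [], [0, 1, 2, 8, 9, 18, 6, 7, 3, 4, 13, 14, 17, 10, 11, 16, 15, 12, 5, 19, 22, 21, 20, 23], [], [], [], [], [], [], [], [], [0, 1, 17, 2, 5, 9, 18, 3, 12, 16, 23, 10, 14, 11, 7, 20, 19, 13, 15, 22, 21, 4, 6, 8], [], [], [], [], [], [], [],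 [], [0, 1, 14, 17, 15, 5, 9, 12, 13, 20, 8, 11, 10, 7, 3, 6, 22, 23, 19, 21, 4, 16, 18, 2], [], [], [], [], [], [], [], [], [0, 1, 10, 14, 19, 15, 5, 13, 23, 6, 2, 7, 11, 3, 12, 18, 21, 8, 22, 4, 16, 20, 9, 17], [], [], [], [], [], [], [], [], [0, 1, 11, 10, 22, 19, 15, 23, 8, 18, 17, 3, 7, 12, 13, 9, 4, 2, 21, 16, 20, 6, 5, 14], [], [], [], [], [], [], [], [], [], [], [], [], [], [], [], [], [], [], [], [0, 1, 7, 11, 21, 22, 19, 8, 2, 9, 14, 12, 3, 13, 23, 5, 16, 17, 4, 20, 6, 18, 15, 10], [], [], [], [], [], [], [], [], [0, 1, 3, 7, 4, 21, 22, 2, 17, 5, 10, 13, 12, 23, 8, 15, 20, 14, 16, 6, 18, 9, 19, 11]],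
   [[], [], [], [], [], [], [0, 1, 8, 13, 6, 9, 19, 3, 11, 21, 10, 12, 23, 14, 17, 22, 20, 7, 18, 15, 5, 16, 4, 2], [], [], [], [], [], [], [], [], [], [], [], [], [], [], [0, 1, 2, 23, 18, 5, 22, 12, 7, 4, 11, 13, 8, 10, 14, 21, 6, 3, 9, 19, 15, 20, 16, 17], [], [], [], [0, 1, 17, 8, 9, 15, 21, 13, 3, 16, 7, 23, 2, 11, 10, 4, 18, 12, 5, 22, 19, 6, 20, 14], [], [], [], [], [], [], [], [], [], [], [], [], [], [], [0, 1, 14, 2, 5, 19, 4, 23, 12, 20, 3, 8, 17, 7, 11, 16, 9, 13, 15, 21, 22, 18, 6, 10], [], [], [], [0, 1, 10, 17, 15, 22, 16, 8, 13, 6, 12, 2, 14, 3, 7, 20, 5, 23, 19, 4, 21, 9, 18, 11], [], [], [], [], [], [], [], [], [], [], [], [], [], [], [0, 1, 11, 14, 19, 21, 20, 2, 23, 18, 13, 17, 10, 12, 3, 6, 15, 8, 22, 16, 4, 5, 9, 7], [], [], [], [], [], [], [], [], [], [],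 [], [], [], [], [0, 1, 7, 10, 22, 4, 6, 17, 8, 9, 23, 14, 11, 13, 12, 18, 19, 2, 21, 20, 16, 15, 5, 3], [], [], [], [0, 1, 3, 11, 21, 16, 18, 14, 2, 5, 8, 10, 7, 23, 13, 9, 22, 17, 4, 6, 20, 19, 15, 12], [], [], [], [], [], [], [], [], [], [], [], [], [], [], [0, 1, 12, 7, 4, 20, 9, 10, 17, 15, 2, 11, 3, 8, 23, 5, 21, 14, 16, 18, 6, 22, 19, 13], [], [], [], [], [], [], [], [], [], [], [], [], [], [], [0, 1, 13, 3, 16, 6, 5, 11, 14, 19, 17, 7, 12, 2, 8, 15, 4, 10, 20, 9, 18, 21, 22, 23], [], [], [], [0, 1, 23, 12, 20, 18, 15, 7, 10, 22, 14, 3, 13, 17, 2, 19, 16, 11, 6, 5, 9, 4, 21, 8]],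
   [[], [], [], [], [], [], [0, 1, 14, 23, 20, 5, 22, 13, 10, 19, 7, 8, 12, 11, 3, 4, 18, 2, 15, 21, 16, 6, 9, 17], [], [], [], [], [], [], [], [], [], [0, 1, 10, 8, 6, 15, 21, 23, 11, 22, 3, 2, 13, 7, 12, 16, 9, 17, 19, 4, 20, 18, 5, 14], [], [], [], [], [], [], [], [], [], [0, 1, 11, 2, 18, 19, 4, 8, 7, 21, 12, 17, 23, 3, 13, 20, 5, 14, 22, 16, 6, 9, 15, 10], [], [], [], [], [], [], [], [], [], [0, 1, 7, 17, 9, 22, 16, 2, 3, 4, 13, 14, 8, 12, 23, 6, 15, 10, 21, 20, 18, 5, 19, 11], [], [], [], [], [], [], [], [], [], [0, 1, 3, 14, 5, 21, 20, 17, 12, 16, 23, 10, 2, 13, 8, 18, 19, 11, 4, 6, 9, 15, 22, 7], [], [], [], [], [], [], [], [], [], [0, 1, 12, 10, 15, 4, 6, 14, 13, 20, 8, 11, 17, 23, 2, 9, 22, 7, 16, 18, 5, 19, 21, 3], [], [], [], [], [], [], [], [], [], [0, 1, 13, 11,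 19, 16, 18, 10, 23, 6, 2, 7, 14, 8, 17, 5, 21, 3, 20, 9, 15, 22, 4, 12], [], [], [], [], [], [], [], [], [], [], [], [], [], [], [], [], [], [], [], [], [0, 1, 23, 7, 22, 20, 9, 11, 8, 18, 17, 3, 10, 2, 14, 15, 4, 12, 6, 5, 19, 21, 16, 13], [], [], [], [], [], [], [], [], [], [0, 1, 8, 3, 21, 6, 5, 7, 2, 9, 14, 12, 11, 17, 10, 19, 16, 13, 18, 15, 22, 4, 20, 23], [], [], [], [], [], [], [], [], [], [0, 1, 2, 12, 4, 18, 15, 3, 17, 5, 10, 13, 7, 14, 11, 22, 20, 23, 9, 19, 21, 16, 6, 8], [], [], [], [], [], [], [], [], [], [0, 1, 17, 13, 16, 9, 19, 12, 14, 15, 11, 23, 3, 10, 7, 21, 6, 8, 5, 22, 4, 20, 18, 2]],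
   [[], [], [], [], [], [], [0, 1, 11, 12, 18, 16, 4, 23, 7, 22, 2, 14, 8, 10, 13, 9, 15, 17, 21, 19, 6, 20, 5, 3], [], [], [], [], [0, 1, 7, 13, 9, 20, 16, 8, 3, 21, 17, 10, 2, 11, 23, 5, 19, 14, 4, 22, 18, 6, 15, 12], [], [], [], [], [], [], [], [], [], [], [], [], [], [], [], [0, 1, 3, 23, 5, 6, 20, 2, 12, 4, 14, 11, 17, 7, 8, 15, 22, 10, 16, 21, 9, 18, 19, 13], [], [], [], [], [], [], [], [], [], [], [], [], [], [], [], [0, 1, 12, 8, 15, 18, 6, 17, 13, 16, 10, 7, 14, 3, 2, 19, 21, 11, 20, 4, 5, 9, 22, 23], [], [], [], [], [0, 1, 13, 2, 19, 9, 18, 14, 23, 20, 11, 3, 10, 12, 17, 22, 4, 7, 6, 16, 15, 5, 21, 8], [], [], [], [], [], [], [], [], [], [], [], [], [], [], [], [0, 1, 23, 17, 22, 5, 9, 10, 8, 6, 7, 12, 11, 13, 14, 21, 16, 3, 18, 20, 19, 15, 4, 2], [], [], [], [], [0,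 1, 8, 14, 21, 15, 5, 11, 2, 18, 3, 13, 7, 23, 10, 4, 20, 12, 9, 6, 22, 19, 16, 17], [], [], [], [], [], [], [], [], [], [], [], [], [], [], [], [0, 1, 2, 10, 4, 19, 15, 7, 17, 9, 12, 23, 3, 8, 11, 16, 6, 13, 5, 18, 21, 22, 20, 14], [], [], [], [], [0, 1, 17, 11, 16, 22, 19, 3, 14, 5, 13, 8, 12, 2, 7, 20, 18, 23, 15, 9, 4, 21, 6, 10], [], [], [], [], [], [], [], [], [], [], [], [], [], [], [], [0, 1, 14, 7, 20, 21, 22, 12, 10, 15, 23, 2, 13, 17, 3, 6, 9, 8, 19, 5, 16, 4, 18, 11], [], [], [], [], [0, 1, 10, 3, 6, 4, 21, 13, 11, 19, 8, 17, 23, 14, 12, 18, 5, 2, 22, 15, 20, 16, 9, 7]],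
   [[], [], [], [], [0, 1, 3, 10, 6, 4, 15, 23, 17, 5, 8, 11, 13, 14, 7, 9, 19, 2, 16, 21, 20, 22, 18, 12], [], [], [], [], [], [], [], [], [], [], [0, 1, 10, 2, 4, 19, 18, 3, 23, 6, 12, 17, 7, 8, 14, 20, 9, 13, 22, 15, 21, 5, 16, 11], [], [], [], [], [], [], [], [], [], [], [0, 1, 2, 13, 19, 9, 16, 10, 3, 4, 11, 23, 14, 12, 8, 21, 20, 7, 5, 18, 15, 6, 22, 17], [], [], [], [], [], [], [], [], [], [], [0, 1, 13, 7, 9, 20, 22, 2, 10, 19, 17, 3, 8, 11, 12, 15, 21, 14, 6, 16, 18, 4, 5, 23], [], [], [], [], [], [], [], [], [], [], [0, 1, 7, 14, 20, 21, 5, 13, 2, 9, 23, 10, 12, 17, 11, 18, 15, 8, 4, 22, 16, 19, 6, 3], [], [], [], [], [], [], [], [], [], [], [0, 1, 14, 8, 21, 15, 6, 7, 13, 20, 3, 2, 11, 23, 17, 16, 18, 12, 19, 5, 22, 9, 4, 10], [], [], [], [], [], [], [], [], [], [],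 [0, 1, 8, 12, 15, 18, 4, 14, 7, 21, 10, 13, 17, 3, 23, 22, 16, 11, 9, 6, 5, 20, 19, 2], [], [], [], [], [], [], [], [], [], [], [0, 1, 12, 11, 18, 16, 19, 8, 14, 15, 2, 7, 23, 10, 3, 5, 22, 17, 20, 4, 6, 21, 9, 13], [], [], [], [], [], [], [], [], [], [], [0, 1, 11, 17, 16, 22, 9, 12, 8, 18, 13, 14, 3, 2, 10, 6, 5, 23, 21, 19, 4, 15, 20, 7], [], [], [], [], [], [], [], [], [], [], [0, 1, 17, 23, 22, 5, 20, 11, 12, 16, 7, 8, 10, 13, 2, 4, 6, 3, 15, 9, 19, 18, 21, 14], [], [], [], [], [], [], [], [], [], [], [0, 1, 23, 3, 5, 6, 21, 17, 11, 22, 14, 12, 2, 7, 13, 19, 4, 10, 18, 20, 9, 16, 15, 8]],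
   [[], [], [], [], [0, 1, 10, 12, 4, 15, 16, 2, 11, 19, 3, 23, 7, 13, 8, 21, 20, 14, 22, 6, 9, 18, 5, 17], [], [], [], [], [], [], [], [], [], [], [], [], [], [], [0, 1, 2, 11, 19, 18, 22, 13, 17, 9, 10, 3, 14, 7, 12, 15, 21, 8, 5, 4, 20, 16, 6, 23], [], [], [], [0, 1, 13, 17, 9, 16, 5, 7, 23, 20, 2, 10, 8, 14, 11, 18, 15, 12, 6, 19, 21, 22, 4, 3], [], [], [], [], [], [], [], [], [], [], [], [], [], [], [0, 1, 7, 23, 20, 22, 6, 14, 3, 21, 13, 2, 12, 8, 17, 16, 18, 11, 4, 9, 15, 5, 19, 10], [], [], [], [], [], [], [], [], [], [], [], [], [], [], [0, 1, 14, 3, 21, 5, 4, 8, 10, 15, 7, 13, 11, 12, 23, 22, 16, 17, 19, 20, 18, 6, 9, 2], [], [], [], [0, 1, 8, 10, 15, 6, 19, 12, 2, 18, 14, 7, 17, 11, 3, 5, 22, 23, 9, 21, 16, 4, 20, 13], [], [], [], [], [], [], [], [], [], [], [], [],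 [], [], [0, 1, 12, 2, 18, 4, 9, 11, 13, 16, 8, 14, 23, 17, 10, 6, 5, 3, 20, 15, 22, 19, 21, 7], [], [], [], [], [], [], [], [], [], [], [], [], [], [], [0, 1, 11, 13, 16, 19, 20, 17, 7, 22, 12, 8, 3, 23, 2, 4, 6, 10, 21, 18, 5, 9, 15, 14], [], [], [], [0, 1, 17, 7, 22, 9, 21, 23, 14, 5, 11, 12, 10, 3, 13, 19, 4, 2, 15, 16, 6, 20, 18, 8], [], [], [], [], [], [], [], [], [], [], [], [], [], [], [0, 1, 23, 14, 5, 20, 15, 3, 8, 6, 17, 11, 2, 10, 7, 9, 19, 13, 18, 22, 4, 21, 16, 12], [], [], [], [0, 1, 3, 8, 6, 21, 18, 10, 12, 4, 23, 17, 13, 2, 14, 20, 9, 7, 16, 5, 19, 15, 22, 11]],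
   [[], [], [], [], [0, 1, 12, 17, 15, 16, 22, 14, 23, 20, 10, 2, 8, 7, 3, 6, 9, 13, 18, 4, 21, 5, 19, 11], [], [], [], [], [], [], [], [0, 1, 11, 23, 18, 22, 5, 8, 3, 21, 2, 13, 12, 14, 10, 4, 20, 7, 16, 19, 15, 6, 9, 17], [], [], [], [], [], [], [], [], [], [], [], [], [], [], [], [], [], [], [0, 1, 17, 3, 16, 5, 6, 12, 10, 15, 13, 7, 11, 8, 2, 19, 21, 14, 22, 9, 18, 4, 20, 23], [], [], [], [], [], [], [], [0, 1, 23, 10, 22, 6, 4, 11, 2, 18, 7, 14, 17, 12, 13, 9, 15, 8, 5, 20, 16, 19, 21, 3], [], [], [], [], [], [], [], [0, 1, 3, 2, 5, 4, 19, 17, 13, 16, 14, 8, 23, 11, 7, 20, 18, 12, 6, 21, 22, 9, 15, 10], [], [], [], [], [], [], [], [0, 1, 10, 13, 6, 19, 9, 23, 7, 22, 8, 12, 3, 17, 14, 21, 16, 11, 4, 15, 5, 20, 18, 2], [], [], [], [], [], [], [], [], [], [], [], [], [], [],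 [], [], [], [], [0, 1, 2, 7, 4, 9, 20, 3, 14, 5, 12, 11, 10, 23, 8, 15, 22, 17, 19, 18, 6, 21, 16, 13], [], [], [], [], [], [], [], [0, 1, 13, 14, 19, 20, 21, 10, 8, 6, 11, 17, 2, 3, 12, 18, 5, 23, 9, 16, 4, 15, 22, 7], [], [], [], [], [], [], [], [0, 1, 7, 8, 9, 21, 15, 2, 12, 4, 17, 23, 13, 10, 11, 16, 6, 3, 20, 22, 19, 18, 5, 14], [], [], [], [], [], [], [], [], [], [], [], [], [], [], [], [], [], [], [0, 1, 14, 12, 20, 15, 18, 13, 11, 19, 23, 3, 7, 2, 17, 22, 4, 10, 21, 5, 9, 16, 6, 8], [], [], [], [], [], [], [], [0, 1, 8, 11, 21, 18, 16, 7, 17, 9, 3, 10, 14, 13, 23, 5, 19, 2, 15, 6, 20, 22, 4, 12]],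
   [[], [], [], [], [0, 1, 17, 11, 16, 22, 18, 13, 2, 9, 12, 14, 3, 8, 10, 4, 21, 7, 5, 15, 6, 19, 20, 23], [], [], [], [], [], [], [], [], [], [], [], [0, 1, 23, 17, 22, 5, 16, 7, 13, 20, 11, 8, 10, 12, 2, 19, 15, 14, 6, 18, 4, 9, 21, 3], [], [], [], [], [], [], [], [], [], [], [], [0, 1, 3, 23, 5, 6, 22, 14, 7, 21, 17, 12, 2, 11, 13, 9, 18, 8, 4, 16, 19, 20, 15, 10], [], [], [], [], [], [], [], [], [], [], [], [0, 1, 10, 3, 6, 4, 5, 8, 14, 15, 23, 11, 13, 17, 7, 20, 16, 12, 19, 22, 9, 21, 18, 2], [], [], [], [], [], [], [], [], [], [], [], [0, 1, 2, 10, 4, 19, 6, 12, 8, 18, 3, 17, 7, 23, 14, 21, 22, 11, 9, 5, 20, 15, 16, 13], [], [], [], [], [], [], [], [], [], [], [], [0, 1, 13, 2, 19, 9, 4, 11, 12, 16, 10, 23, 14, 3, 8, 15, 5, 17, 20, 6, 21, 18, 22, 7], [], [], [], [], [],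 [], [], [], [], [], [], [0, 1, 7, 13, 9, 20, 19, 17, 11, 22, 2, 3, 8, 10, 12, 18, 6, 23, 21, 4, 15, 16, 5, 14], [0, 1, 14, 7, 20, 21, 9, 23, 17, 5, 13, 10, 12, 2, 11, 16, 4, 3, 15, 19, 18, 22, 6, 8], [], [], [], [], [], [], [], [], [], [], [], [0, 1, 8, 14, 21, 15, 20, 3, 23, 6, 7, 2, 11, 13, 17, 22, 19, 10, 18, 9, 16, 5, 4, 12], [], [], [], [], [], [], [], [], [], [], [], [0, 1, 12, 8, 15, 18, 21, 10, 3, 4, 14, 13, 17, 7, 23, 5, 9, 2, 16, 20, 22, 6, 19, 11], [], [], [], [], [], [], [], [], [], [], [], [0, 1, 11, 12, 18, 16, 15, 2, 10, 19, 8, 7, 23, 14, 3, 6, 20, 13, 22, 21, 5, 4, 9, 17]],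
   [[], [], [], [], [0, 1, 11, 23, 22, 18, 5, 7, 14, 21, 17, 13, 10, 3, 12, 15, 6, 8, 19, 16, 4, 20, 9, 2], [], [], [], [], [], [], [], [], [], [], [], [], [], [], [], [0, 1, 17, 3, 5, 16, 6, 14, 8, 15, 23, 7, 2, 10, 11, 18, 4, 12, 9, 22, 19, 21, 20, 13], [], [], [], [], [0, 1, 23, 10, 6, 22, 4, 8, 12, 18, 3, 14, 13, 2, 17, 16, 19, 11, 20, 5, 9, 15, 21, 7], [], [], [], [], [], [], [], [], [], [], [], [], [], [], [], [0, 1, 3, 2, 4, 5, 19, 12, 11, 16, 10, 8, 7, 13, 23, 22, 9, 17, 21, 6, 20, 18, 15, 14], [], [], [], [], [0, 1, 10, 13, 19, 6, 9, 11, 17, 22, 2, 12, 14, 7, 3, 5, 20, 23, 15, 4, 21, 16, 18, 8], [], [], [], [], [], [], [], [], [], [], [], [], [], [], [], [0, 1, 2, 7, 9, 4, 20, 17, 23, 5, 13, 11, 8, 14, 10, 6, 21, 3, 18, 19, 15, 22, 16, 12], [], [], [], [], [0, 1, 13,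 14, 20, 19, 21, 23, 3, 6, 7, 17, 12, 8, 2, 4, 15, 10, 16, 9, 18, 5, 22, 11], [], [], [], [], [], [], [], [], [], [], [], [], [], [], [], [0, 1, 7, 8, 21, 9, 15, 3, 10, 4, 14, 23, 11, 12, 13, 19, 18, 2, 22, 20, 16, 6, 5, 17], [], [], [], [], [0, 1, 14, 12, 15, 20, 18, 10, 2, 19, 8, 3, 17, 11, 7, 9, 16, 13, 5, 21, 22, 4, 6, 23], [], [], [], [], [], [], [], [], [], [], [], [], [], [], [], [0, 1, 8, 11, 18, 21, 16, 2, 13, 9, 12, 10, 23, 17, 14, 20, 22, 7, 6, 15, 5, 19, 4, 3], [], [], [], [], [], [], [], [], [], [], [], [], [], [], [], [0, 1, 12, 17, 16, 15, 22, 13, 7, 20, 11, 2, 3, 23, 8, 21, 5, 14, 4, 18, 6, 9, 19, 10]],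
   [[], [], [], [], [0, 1, 23, 2, 18, 5, 19, 8, 13, 6, 11, 7, 12, 10, 17, 16, 4, 3, 20, 22, 15, 9, 21, 14], [], [], [], [], [], [], [], [], [0, 1, 3, 13, 16, 6, 9, 12, 7, 4, 17, 14, 11, 2, 23, 22, 19, 10, 21, 5, 18, 20, 15, 8], [], [], [], [], [], [], [], [], [0, 1, 10, 7, 22, 4, 20, 11, 14, 19, 23, 8, 17, 13, 3, 5, 9, 2, 15, 6, 16, 21, 18, 12], [], [], [], [], [], [], [], [], [], [], [], [], [], [], [], [], [], [], [], [0, 1, 2, 14, 5, 19, 21, 17, 8, 9, 3, 12, 23, 7, 10, 6, 20, 13, 18, 4, 22, 15, 16, 11], [], [], [], [], [], [], [], [], [0, 1, 13, 8, 6, 9, 15, 23, 12, 20, 10, 11, 3, 14, 2, 4, 21, 7, 16, 19, 5, 18, 22, 17], [], [], [], [], [], [], [], [], [0, 1, 7, 12, 4, 20, 18, 3, 11, 21, 2, 17, 10, 8, 13, 19, 15, 14, 22, 9, 6, 16, 5, 23], [], [], [], [], [], [], [], [], [0,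 1, 14, 11, 19, 21, 16, 10, 17, 15, 13, 23, 2, 12, 7, 9, 18, 8, 5, 20, 4, 22, 6, 3], [], [], [], [], [], [], [], [], [0, 1, 8, 17, 9, 15, 22, 2, 23, 18, 7, 3, 13, 11, 14, 20, 16, 12, 6, 21, 19, 5, 4, 10], [], [], [], [], [], [], [], [], [], [], [], [], [], [], [], [], [], [], [], [0, 1, 12, 23, 20, 18, 5, 13, 3, 16, 14, 10, 7, 17, 8, 21, 22, 11, 4, 15, 9, 6, 19, 2], [], [], [], [], [], [], [], [], [0, 1, 11, 3, 21, 16, 6, 7, 10, 22, 8, 2, 14, 23, 12, 15, 5, 17, 19, 18, 20, 4, 9, 13], [], [], [], [], [], [], [], [], [0, 1, 17, 10, 15, 22, 4, 14, 2, 5, 12, 13, 8, 3, 11, 18, 6, 23, 9, 16, 21, 19, 20, 7]],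
   [[], [], [], [], [0, 1, 2, 14, 5, 19, 20, 3, 7, 4, 23, 8, 17, 12, 11, 22, 15, 10, 9, 18, 16, 21, 6, 13], [], [], [], [], [], [], [], [], [], [], [], [], [0, 1, 13, 8, 6, 9, 21, 10, 14, 19, 3, 12, 23, 11, 17, 5, 18, 2, 20, 16, 22, 15, 4, 7], [], [], [], [], [], [], [], [], [], [], [], [], [0, 1, 7, 12, 4, 20, 15, 2, 8, 9, 10, 11, 3, 17, 23, 6, 16, 13, 21, 22, 5, 18, 19, 14], [], [], [], [], [], [], [], [], [], [], [], [], [0, 1, 14, 11, 19, 21, 18, 13, 12, 20, 2, 17, 10, 23, 3, 4, 22, 7, 15, 5, 6, 16, 9, 8], [], [0, 1, 8, 17, 9, 15, 16, 7, 11, 21, 13, 23, 2, 3, 10, 19, 5, 14, 18, 6, 4, 22, 20, 12], [], [], [], [], [], [], [], [], [], [], [], [], [0, 1, 12, 23, 20, 18, 22, 14, 17, 15, 7, 3, 13, 10, 2, 9, 6, 8, 16, 4, 19, 5, 21, 11], [], [], [], [], [], [], [], [], [], [], [],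 [], [0, 1, 11, 3, 21, 16, 5, 8, 23, 18, 14, 10, 7, 2, 13, 20, 4, 12, 22, 19, 9, 6, 15, 17], [], [], [], [], [], [], [], [], [], [], [], [], [0, 1, 17, 10, 15, 22, 6, 12, 3, 16, 8, 2, 14, 13, 7, 21, 19, 11, 5, 9, 20, 4, 18, 23], [], [], [], [], [], [], [], [], [], [], [], [], [0, 1, 23, 2, 18, 5, 4, 11, 10, 22, 12, 13, 8, 7, 14, 15, 9, 17, 6, 20, 21, 19, 16, 3], [], [0, 1, 3, 13, 16, 6, 19, 17, 2, 5, 11, 7, 12, 14, 8, 18, 20, 23, 4, 21, 15, 9, 22, 10], [], [], [], [], [], [], [], [], [], [], [], [], [0, 1, 10, 7, 22, 4, 9, 23, 13, 6, 17, 14, 11, 8, 12, 16, 21, 3, 19, 15, 18, 20, 5, 2]],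
   [[], [], [], [], [0, 1, 14, 13, 19, 20, 9, 10, 8, 15, 2, 3, 11, 17, 23, 18, 16, 12, 21, 5, 22, 6, 4, 7], [], [], [], [], [], [], [], [], [], [], [], [], [], [], [], [], [0, 1, 8, 7, 9, 21, 20, 2, 12, 18, 13, 10, 17, 23, 3, 16, 22, 11, 15, 6, 5, 4, 19, 14], [], [], [], [], [], [0, 1, 12, 14, 20, 15, 21, 13, 11, 16, 7, 2, 23, 3, 10, 22, 5, 17, 18, 4, 6, 19, 9, 8], [], [], [], [], [], [0, 1, 11, 8, 21, 18, 15, 7, 17, 22, 14, 13, 3, 10, 2, 5, 6, 23, 16, 19, 4, 9, 20, 12], [], [], [], [], [], [], [], [], [], [], [], [], [], [], [], [], [0, 1, 17, 12, 15, 16, 18, 14, 23, 5, 8, 7, 10, 2, 13, 6, 4, 3, 22, 9, 19, 20, 21, 11], [], [], [], [], [], [0, 1, 23, 11, 18, 22, 16, 8, 3, 6, 12, 14, 2, 13, 7, 4, 19, 10, 5, 20, 9, 21, 15, 17], [], [], [], [], [], [], [], [], [], [], [], [], [],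 [], [], [], [0, 1, 3, 17, 16, 5, 22, 12, 10, 4, 11, 8, 13, 7, 14, 19, 9, 2, 6, 21, 20, 15, 18, 23], [], [], [], [], [], [0, 1, 10, 23, 22, 6, 5, 11, 2, 19, 17, 12, 7, 14, 8, 9, 20, 13, 4, 15, 21, 18, 16, 3], [], [], [], [], [], [], [], [], [], [], [], [], [], [], [], [], [0, 1, 2, 3, 5, 4, 6, 17, 13, 9, 23, 11, 14, 8, 12, 20, 21, 7, 19, 18, 15, 16, 22, 10], [], [], [], [], [], [0, 1, 13, 10, 6, 19, 4, 23, 7, 20, 3, 17, 8, 12, 11, 21, 15, 14, 9, 16, 18, 22, 5, 2], [], [], [], [], [], [], [], [], [], [], [], [], [], [], [], [], [0, 1, 7, 2, 4, 9, 19, 3, 14, 21, 10, 23, 12, 11, 17, 15, 18, 8, 20, 22, 16, 5, 6, 13]],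
   [[], [], [], [], [0, 1, 13, 7, 20, 9, 21, 12, 3, 16, 14, 10, 23, 11, 2, 5, 22, 17, 6, 19, 18, 4, 15, 8], [], [], [], [], [], [], [], [], [], [0, 1, 7, 14, 21, 20, 15, 11, 10, 22, 8, 2, 3, 17, 13, 6, 5, 23, 4, 9, 16, 19, 18, 12], [], [], [], [], [], [], [], [], [], [0, 1, 14, 8, 15, 21, 18, 17, 2, 5, 12, 13, 10, 23, 7, 4, 6, 3, 19, 20, 22, 9, 16, 11], [], [], [], [], [], [], [], [], [], [0, 1, 8, 12, 18, 15, 16, 23, 13, 6, 11, 7, 2, 3, 14, 19, 4, 10, 9, 21, 5, 20, 22, 17], [], [], [], [], [], [], [], [], [], [0, 1, 12, 11, 16, 18, 22, 3, 7, 4, 17, 14, 13, 10, 8, 9, 19, 2, 20, 15, 6, 21, 5, 23], [], [], [], [], [], [], [], [], [], [], [], [], [], [], [], [], [], [], [], [], [0, 1, 11, 17, 22, 16, 5, 10, 14, 19, 23, 8, 7, 2, 12, 20, 9, 13, 21, 18, 4, 15, 6, 3], [], [], [], [],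 [], [], [], [], [], [0, 1, 17, 23, 5, 22, 6, 2, 8, 9, 3, 12, 14, 13, 11, 21, 20, 7, 15, 16, 19, 18, 4, 10], [], [], [], [], [], [], [], [], [], [0, 1, 23, 3, 6, 5, 4, 13, 12, 20, 10, 11, 8, 7, 17, 15, 21, 14, 18, 22, 9, 16, 19, 2], [], [], [], [], [], [], [], [], [], [0, 1, 3, 10, 4, 6, 19, 7, 11, 21, 2, 17, 12, 14, 23, 18, 15, 8, 16, 5, 20, 22, 9, 13], [], [], [], [], [], [], [], [], [], [0, 1, 10, 2, 19, 4, 9, 14, 17, 15, 13, 23, 11, 8, 3, 16, 18, 12, 22, 6, 21, 5, 20, 7], [], [], [], [], [], [], [], [], [], [0, 1, 2, 13, 9, 19, 20, 8, 23, 18, 7, 3, 17, 12, 10, 22, 16, 11, 5, 4, 15, 6, 21, 14]],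
   [[], [], [], [], [0, 1, 7, 8, 9, 21, 6, 17, 10, 22, 13, 12, 2, 23, 14, 19, 18, 11, 4, 20, 5, 15, 16, 3], [], [], [], [], [], [], [], [], [], [], [], [], [], [0, 1, 14, 12, 20, 15, 4, 23, 2, 5, 7, 11, 13, 3, 8, 9, 16, 17, 19, 21, 6, 18, 22, 10], [], [], [], [], [], [], [], [], [], [], [], [], [], [0, 1, 8, 11, 21, 18, 19, 3, 13, 6, 14, 17, 7, 10, 12, 20, 22, 23, 9, 15, 4, 16, 5, 2], [], [], [0, 1, 12, 17, 15, 16, 9, 10, 7, 4, 8, 23, 14, 2, 11, 21, 5, 3, 20, 18, 19, 22, 6, 13], [], [], [], [], [], [], [], [], [], [], [], [], [], [0, 1, 11, 23, 18, 22, 20, 2, 14, 19, 12, 3, 8, 13, 17, 15, 6, 10, 21, 16, 9, 5, 4, 7], [], [], [], [], [], [], [], [], [], [], [], [], [], [0, 1, 17, 3, 16, 5, 21, 13, 8, 9, 11, 10, 12, 7, 23, 18, 4, 2, 15, 22, 20, 6, 19, 14], [], [], [0, 1, 23, 10,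 22, 6, 15, 7, 12, 20, 17, 2, 11, 14, 3, 16, 19, 13, 18, 5, 21, 4, 9, 8], [], [], [], [], [], [], [], [], [], [], [], [], [], [0, 1, 3, 2, 5, 4, 18, 14, 11, 21, 23, 13, 17, 8, 10, 22, 9, 7, 16, 6, 15, 19, 20, 12], [], [], [], [], [], [], [], [], [], [], [], [], [], [0, 1, 10, 13, 6, 19, 16, 8, 17, 15, 3, 7, 23, 12, 2, 5, 20, 14, 22, 4, 18, 9, 21, 11], [], [], [], [], [], [], [], [], [], [], [], [], [], [0, 1, 2, 7, 4, 9, 22, 12, 23, 18, 10, 14, 3, 11, 13, 6, 21, 8, 5, 19, 16, 20, 15, 17], [], [], [0, 1, 13, 14, 19, 20, 5, 11, 3, 16, 2, 8, 10, 17, 7, 4, 15, 12, 6, 9, 22, 21, 18, 23]],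
   [[], [], [], [], [0, 1, 8, 3, 21, 6, 4, 11, 12, 18, 7, 17, 14, 2, 13, 20, 5, 23, 15, 9, 19, 16, 22, 10], [], [], [], [], [], [], [0, 1, 12, 10, 15, 4, 19, 17, 11, 16, 14, 23, 8, 13, 7, 21, 6, 3, 18, 20, 9, 22, 5, 2], [], [], [], [], [], [], [], [], [], [], [], [], [], [], [], [], [], [0, 1, 11, 2, 18, 19, 9, 23, 17, 22, 8, 3, 12, 7, 14, 15, 4, 10, 16, 21, 20, 5, 6, 13], [], [], [], [], [], [], [0, 1, 17, 13, 16, 9, 20, 3, 23, 5, 12, 10, 11, 14, 8, 18, 19, 2, 22, 15, 21, 6, 4, 7], [], [], [], [], [], [], [], [], [], [], [], [], [], [], [], [], [], [0, 1, 23, 7, 22, 20, 21, 10, 3, 6, 11, 2, 17, 8, 12, 16, 9, 13, 5, 18, 15, 4, 19, 14], [], [], [], [], [], [], [0, 1, 3, 14, 5, 21, 15, 2, 10, 4, 17, 13, 23, 12, 11, 22, 20, 7, 6, 16, 18, 19, 9, 8], [], [], [], [], [], [], [0, 1,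 10, 8, 6, 15, 18, 13, 2, 19, 23, 7, 3, 11, 17, 5, 21, 14, 4, 22, 16, 9, 20, 12], [], [], [], [], [], [], [], [], [], [], [], [], [], [], [], [], [], [0, 1, 2, 12, 4, 18, 16, 7, 13, 9, 3, 14, 10, 17, 23, 6, 15, 8, 19, 5, 22, 20, 21, 11], [], [], [], [], [], [], [0, 1, 13, 11, 19, 16, 22, 14, 7, 20, 10, 8, 2, 23, 3, 4, 18, 12, 9, 6, 5, 21, 15, 17], [], [], [], [], [], [], [0, 1, 7, 17, 9, 22, 5, 8, 14, 21, 2, 12, 13, 3, 10, 19, 16, 11, 20, 4, 6, 15, 18, 23], [], [], [], [], [], [], [], [], [], [], [], [], [], [], [], [], [], [0, 1, 14, 23, 20, 5, 6, 12, 8, 15, 13, 11, 7, 10, 2, 9, 22, 17, 21, 19, 4, 18, 16, 3]],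
   [[], [], [], [0, 1, 17, 2, 5, 9, 4, 14, 10, 15, 3, 11, 23, 12, 13, 6, 18, 8, 22, 16, 20, 19, 21, 7], [], [], [], [], [], [], [], [], [], [], [0, 1, 12, 3, 16, 4, 5, 13, 23, 20, 17, 8, 11, 14, 10, 22, 21, 7, 18, 15, 19, 6, 9, 2], [], [], [], [], [], [], [], [], [], [], [0, 1, 14, 17, 15, 5, 16, 10, 11, 19, 12, 7, 8, 13, 23, 18, 9, 2, 21, 20, 6, 22, 4, 3], [], [], [], [], [], [], [], [], [], [], [0, 1, 13, 12, 20, 16, 15, 23, 8, 6, 14, 2, 7, 10, 11, 21, 4, 3, 9, 19, 22, 18, 5, 17], [], [], [], [], [], [], [], [], [], [], [0, 1, 10, 14, 19, 15, 20, 11, 7, 22, 13, 3, 2, 23, 8, 9, 5, 17, 4, 6, 18, 21, 16, 12], [], [], [], [], [], [], [], [], [], [], [0, 1, 23, 13, 6, 20, 19, 8, 2, 18, 10, 17, 3, 11, 7, 4, 16, 12, 5, 22, 21, 9, 15, 14], [], [], [], [], [], [], [], [], [], [], [0,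 1, 11, 10, 22, 19, 6, 7, 3, 21, 23, 12, 17, 8, 2, 5, 15, 14, 16, 18, 9, 4, 20, 13], [], [], [], [], [], [], [], [], [], [], [0, 1, 8, 23, 18, 6, 22, 2, 17, 9, 11, 14, 12, 7, 3, 16, 20, 13, 15, 21, 4, 5, 19, 10], [], [], [], [], [], [], [], [], [], [], [0, 1, 7, 11, 21, 22, 18, 3, 12, 4, 8, 13, 14, 2, 17, 15, 19, 10, 20, 9, 5, 16, 6, 23], [], [], [], [], [], [], [], [], [], [], [0, 1, 2, 8, 9, 18, 21, 17, 14, 5, 7, 10, 13, 3, 12, 20, 6, 23, 19, 4, 16, 15, 22, 11], [], [], [], [], [], [], [], [], [], [], [0, 1, 3, 7, 4, 21, 9, 12, 13, 16, 2, 23, 10, 17, 14, 19, 22, 11, 6, 5, 15, 20, 18, 8]],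
   [[], [], [], [0, 1, 13, 3, 6, 16, 5, 10, 2, 19, 23, 7, 8, 14, 12, 18, 21, 11, 9, 20, 15, 4, 22, 17], [], [], [], [], [], [], [], [], [], [], [], [], [], [0, 1, 10, 17, 22, 15, 16, 23, 3, 6, 11, 2, 7, 13, 14, 21, 9, 8, 4, 19, 20, 5, 18, 12], [], [], [], [], [], [], [], [], [], [], [], [], [], [0, 1, 23, 12, 18, 20, 15, 11, 17, 22, 8, 3, 2, 10, 13, 9, 4, 7, 5, 6, 19, 16, 21, 14], [], [], [0, 1, 11, 14, 21, 19, 20, 8, 12, 18, 7, 17, 3, 23, 10, 4, 5, 2, 16, 22, 6, 15, 9, 13], [], [], [], [], [], [], [], [], [], [], [], [], [], [0, 1, 8, 13, 9, 6, 19, 7, 14, 21, 2, 12, 17, 11, 23, 5, 16, 3, 15, 18, 22, 20, 4, 10], [], [], [], [], [], [], [], [], [], [], [], [], [], [0, 1, 7, 10, 4, 22, 6, 2, 13, 9, 3, 14, 12, 8, 11, 16, 15, 17, 20, 21, 18, 19, 5, 23], [], [], [], [], [], [], [],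 [], [], [], [], [], [], [0, 1, 2, 23, 5, 18, 22, 3, 10, 4, 17, 13, 14, 7, 8, 15, 20, 12, 19, 9, 21, 6, 16, 11], [], [], [0, 1, 3, 11, 16, 21, 18, 17, 23, 5, 12, 10, 13, 2, 7, 20, 19, 14, 6, 4, 9, 22, 15, 8], [], [], [], [], [], [], [], [], [], [], [], [], [], [0, 1, 17, 8, 15, 9, 21, 12, 11, 16, 14, 23, 10, 3, 2, 19, 6, 13, 22, 5, 4, 18, 20, 7], [], [], [], [], [], [], [], [], [], [], [], [], [], [0, 1, 12, 7, 20, 4, 9, 14, 8, 15, 13, 11, 23, 17, 3, 6, 22, 10, 18, 16, 5, 21, 19, 2], [], [], [0, 1, 14, 2, 19, 5, 4, 13, 7, 20, 10, 8, 11, 12, 17, 22, 18, 23, 21, 15, 16, 9, 6, 3]],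
   [[], [], [], [0, 1, 12, 23, 18, 20, 6, 2, 3, 4, 8, 17, 11, 10, 14, 21, 22, 7, 16, 15, 19, 5, 9, 13], [], [], [], [], [], [], [], [], [], [], [], [], [], [], [], [], [0, 1, 14, 11, 21, 19, 22, 3, 17, 5, 7, 12, 8, 23, 13, 9, 18, 2, 15, 20, 6, 16, 4, 10], [], [], [], [], [], [0, 1, 13, 8, 9, 6, 18, 17, 12, 16, 2, 14, 7, 11, 10, 4, 21, 3, 20, 19, 22, 15, 5, 23], [], [], [], [], [], [], [], [], [], [], [], [], [], [], [], [], [0, 1, 10, 7, 4, 22, 21, 12, 14, 15, 3, 13, 2, 8, 23, 5, 9, 17, 19, 6, 18, 20, 16, 11], [], [], [], [], [], [0, 1, 23, 2, 5, 18, 9, 14, 13, 20, 17, 10, 3, 7, 11, 16, 4, 12, 6, 22, 21, 19, 15, 8], [], [], [], [], [], [0, 1, 11, 3, 16, 21, 4, 13, 10, 19, 12, 23, 17, 2, 8, 15, 5, 14, 22, 18, 9, 6, 20, 7], [], [], [], [], [], [], [], [], [], [], [], [], [], [],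 [], [], [0, 1, 8, 17, 15, 9, 5, 10, 23, 6, 14, 11, 12, 3, 7, 20, 16, 13, 18, 21, 4, 22, 19, 2], [], [], [], [], [], [0, 1, 7, 12, 20, 4, 16, 23, 11, 22, 13, 8, 14, 17, 2, 19, 15, 10, 21, 9, 5, 18, 6, 3], [], [], [], [], [], [], [], [], [], [], [], [], [], [], [], [], [0, 1, 2, 14, 19, 5, 15, 11, 8, 18, 10, 7, 13, 12, 3, 6, 20, 23, 9, 4, 16, 21, 22, 17], [], [], [], [], [], [0, 1, 3, 13, 6, 16, 20, 8, 7, 21, 23, 2, 10, 14, 17, 22, 19, 11, 4, 5, 15, 9, 18, 12], [], [], [], [], [], [], [], [], [], [], [], [], [], [], [], [], [0, 1, 17, 10, 22, 15, 19, 7, 2, 9, 11, 3, 23, 13, 12, 18, 6, 8, 5, 16, 20, 4, 21, 14]],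
   [[], [], [], [0, 1, 14, 8, 21, 15, 18, 3, 23, 5, 11, 13, 7, 2, 10, 22, 9, 17, 20, 19, 4, 6, 16, 12], [], [], [], [], [], [], [], [], [0, 1, 13, 7, 9, 20, 21, 17, 11, 16, 8, 10, 2, 3, 23, 18, 4, 12, 19, 6, 5, 22, 15, 14], [], [], [], [], [], [], [], [], [], [], [], [], [], [], [], [], [], [], [], [0, 1, 10, 2, 4, 19, 9, 12, 8, 15, 7, 23, 3, 17, 11, 21, 5, 14, 6, 22, 16, 18, 20, 13], [], [], [], [], [], [], [], [], [0, 1, 23, 3, 5, 6, 4, 14, 7, 20, 2, 11, 17, 12, 8, 9, 16, 13, 22, 18, 15, 21, 19, 10], [], [], [], [], [], [], [], [], [0, 1, 11, 17, 16, 22, 5, 13, 2, 19, 3, 8, 12, 14, 7, 4, 15, 10, 18, 21, 20, 9, 6, 23], [], [], [], [], [], [], [], [], [0, 1, 8, 12, 15, 18, 16, 10, 3, 6, 17, 7, 14, 13, 2, 5, 20, 23, 21, 9, 19, 4, 22, 11], [], [], [], [], [], [], [], [], [0, 1,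 7, 14, 20, 21, 15, 23, 17, 22, 12, 2, 13, 10, 3, 16, 19, 11, 9, 4, 6, 5, 18, 8], [], [], [], [], [], [], [], [], [0, 1, 2, 13, 19, 9, 20, 11, 12, 18, 14, 3, 10, 23, 17, 15, 6, 8, 4, 5, 22, 16, 21, 7], [], [], [], [], [], [], [], [], [], [], [], [], [], [], [], [], [], [], [], [0, 1, 3, 10, 6, 4, 19, 8, 14, 21, 13, 17, 23, 11, 12, 20, 22, 7, 5, 16, 18, 15, 9, 2], [], [], [], [], [], [], [], [], [0, 1, 17, 23, 22, 5, 6, 7, 13, 9, 10, 12, 11, 8, 14, 19, 18, 2, 16, 15, 21, 20, 4, 3], [], [], [], [], [], [], [], [], [0, 1, 12, 11, 18, 16, 22, 2, 10, 4, 23, 14, 8, 7, 13, 6, 21, 3, 15, 20, 9, 19, 5, 17]],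
   [[], [], [], [0, 1, 10, 11, 22, 19, 21, 23, 8, 6, 7, 12, 17, 3, 2, 9, 16, 13, 15, 4, 5, 18, 20, 14], [], [], [], [], [], [], [], [], [], [], [], [0, 1, 23, 8, 18, 6, 9, 11, 7, 22, 2, 14, 12, 17, 3, 4, 15, 10, 20, 5, 16, 21, 19, 13], [], [], [], [], [], [], [], [], [], [], [], [0, 1, 11, 7, 21, 22, 4, 8, 2, 18, 3, 13, 14, 12, 17, 5, 20, 23, 19, 16, 15, 9, 6, 10], [], [], [], [], [], [], [], [], [], [], [], [0, 1, 8, 2, 9, 18, 5, 7, 3, 21, 17, 10, 13, 14, 12, 16, 19, 11, 6, 15, 20, 4, 22, 23], [], [], [], [], [], [], [], [], [], [], [], [0, 1, 7, 3, 4, 21, 16, 2, 17, 9, 12, 23, 10, 13, 14, 15, 6, 8, 22, 20, 19, 5, 18, 11], [], [], [], [], [], [], [], [], [], [], [], [0, 1, 2, 17, 5, 9, 15, 3, 12, 4, 14, 11, 23, 10, 13, 20, 22, 7, 18, 19, 6, 16, 21, 8], [], [], [], [], [], [],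 [], [], [], [], [], [0, 1, 3, 12, 16, 4, 20, 17, 14, 5, 13, 8, 11, 23, 10, 19, 18, 2, 21, 6, 22, 15, 9, 7], [], [], [], [], [], [], [], [], [], [], [], [0, 1, 17, 14, 15, 5, 19, 12, 13, 16, 10, 7, 8, 11, 23, 6, 21, 3, 9, 22, 18, 20, 4, 2], [0, 1, 12, 13, 20, 16, 6, 14, 10, 15, 23, 2, 7, 8, 11, 22, 9, 17, 4, 18, 21, 19, 5, 3], [], [], [], [], [], [], [], [], [], [], [], [0, 1, 14, 10, 19, 15, 22, 13, 23, 20, 11, 3, 2, 7, 8, 18, 4, 12, 5, 21, 9, 6, 16, 17], [], [], [], [], [], [], [], [], [], [], [], [0, 1, 13, 23, 6, 20, 18, 10, 11, 19, 8, 17, 3, 2, 7, 21, 5, 14, 16, 9, 4, 22, 15, 12]],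
   [[], [], [], [0, 1, 2, 7, 9, 4, 22, 8, 11, 18, 17, 14, 13, 23, 3, 16, 20, 12, 19, 5, 6, 21, 15, 10], [], [], [], [], [], [], [], [], [], [], [], [], [], [], [0, 1, 3, 2, 4, 5, 18, 7, 8, 21, 12, 13, 10, 11, 17, 15, 19, 14, 6, 16, 22, 9, 20, 23], [], [], [], [0, 1, 17, 3, 5, 16, 21, 2, 7, 9, 14, 10, 23, 8, 12, 20, 6, 13, 22, 15, 18, 4, 19, 11], [], [], [], [], [], [], [], [], [], [], [], [], [], [], [0, 1, 12, 17, 16, 15, 9, 3, 2, 4, 13, 23, 11, 7, 14, 19, 22, 10, 18, 20, 21, 5, 6, 8], [], [], [], [], [], [], [], [], [], [], [], [], [], [], [0, 1, 14, 12, 15, 20, 4, 17, 3, 5, 10, 11, 8, 2, 13, 6, 18, 23, 21, 19, 9, 16, 22, 7], [], [], [], [0, 1, 13, 14, 20, 19, 5, 12, 17, 16, 23, 8, 7, 3, 10, 22, 21, 11, 9, 6, 4, 15, 18, 2], [], [], [], [], [], [], [], [], [], [], [], [], [],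 [], [0, 1, 10, 13, 19, 6, 16, 14, 12, 15, 11, 7, 2, 17, 23, 18, 9, 8, 4, 22, 5, 20, 21, 3], [], [], [], [], [], [], [], [], [], [], [], [], [], [], [0, 1, 23, 10, 6, 22, 15, 13, 14, 20, 8, 2, 3, 12, 11, 21, 4, 7, 5, 18, 16, 19, 9, 17], [], [], [], [0, 1, 11, 23, 22, 18, 20, 10, 13, 19, 7, 3, 17, 14, 8, 9, 5, 2, 16, 21, 15, 6, 4, 12], [], [], [], [], [], [], [], [], [], [], [], [], [], [], [0, 1, 8, 11, 18, 21, 19, 23, 10, 6, 2, 17, 12, 13, 7, 4, 16, 3, 15, 9, 20, 22, 5, 14], [], [], [], [], [], [], [], [], [], [], [], [], [], [], [0, 1, 7, 8, 21, 9, 6, 11, 23, 22, 3, 12, 14, 10, 2, 5, 15, 17, 20, 4, 19, 18, 16, 13]],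
   [[], [], [], [0, 1, 3, 17, 16, 5, 9, 11, 7, 21, 13, 10, 12, 8, 23, 20, 15, 14, 4, 6, 18, 22, 19, 2], [], [], [], [], [], [], [], [], [], [], [], [], [], [], [], [], [], [0, 1, 17, 12, 15, 16, 4, 8, 2, 9, 10, 23, 14, 7, 11, 19, 20, 13, 5, 22, 21, 18, 6, 3], [], [], [], [], [], [], [0, 1, 12, 14, 20, 15, 5, 7, 3, 4, 23, 11, 13, 2, 8, 6, 19, 10, 16, 18, 9, 21, 22, 17], [], [], [], [], [], [], [0, 1, 14, 13, 19, 20, 16, 2, 17, 5, 11, 8, 10, 3, 7, 22, 6, 23, 15, 21, 4, 9, 18, 12], [], [], [], [], [], [], [], [], [], [], [], [], [], [], [], [], [], [0, 1, 13, 10, 6, 19, 15, 3, 12, 16, 8, 7, 23, 17, 2, 18, 22, 11, 20, 9, 5, 4, 21, 14], [], [], [], [], [], [], [0, 1, 10, 23, 22, 6, 20, 17, 14, 15, 7, 2, 11, 12, 3, 21, 18, 8, 19, 4, 16, 5, 9, 13], [], [], [], [], [], [], [0, 1, 23,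 11, 18, 22, 19, 12, 13, 20, 2, 3, 8, 14, 17, 9, 21, 7, 6, 5, 15, 16, 4, 10], [], [], [], [], [], [], [], [], [], [], [], [], [], [], [], [], [], [0, 1, 11, 8, 21, 18, 6, 14, 10, 19, 3, 17, 7, 13, 12, 4, 9, 2, 22, 16, 20, 15, 5, 23], [], [], [], [], [], [], [0, 1, 8, 7, 9, 21, 22, 13, 23, 6, 17, 12, 2, 10, 14, 5, 4, 3, 18, 15, 19, 20, 16, 11], [], [], [], [], [], [], [0, 1, 7, 2, 4, 9, 18, 10, 11, 22, 12, 14, 3, 23, 13, 16, 5, 17, 21, 20, 6, 19, 15, 8], [], [], [], [], [], [], [], [], [], [], [], [], [], [], [], [], [], [0, 1, 2, 3, 5, 4, 21, 23, 8, 18, 14, 13, 17, 11, 10, 15, 16, 12, 9, 19, 22, 6, 20, 7]],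
   [[], [], [], [0, 1, 23, 13, 20, 6, 16, 7, 17, 22, 12, 2, 14, 11, 8, 15, 19, 10, 5, 18, 21, 9, 4, 3], [], [], [], [], [], [], [], [], [], [0, 1, 11, 10, 19, 22, 15, 2, 12, 18, 14, 3, 13, 8, 7, 20, 6, 23, 16, 21, 9, 4, 5, 17], [], [], [], [], [], [], [], [], [], [0, 1, 8, 23, 6, 18, 20, 3, 14, 21, 13, 17, 10, 7, 2, 19, 22, 11, 15, 9, 4, 5, 16, 12], [], [], [], [], [], [], [], [], [], [0, 1, 7, 11, 22, 21, 19, 17, 13, 9, 10, 12, 23, 2, 3, 6, 18, 8, 20, 4, 5, 16, 15, 14], [], [], [], [], [], [], [], [], [], [], [], [], [], [], [], [], [], [], [], [], [0, 1, 2, 8, 18, 9, 6, 12, 10, 4, 23, 14, 11, 3, 17, 22, 21, 7, 19, 5, 16, 15, 20, 13], [], [], [], [], [], [], [], [], [], [0, 1, 3, 7, 21, 4, 22, 14, 23, 5, 11, 13, 8, 17, 12, 18, 9, 2, 6, 16, 15, 20, 19, 10], [], [], [], [], [],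 [], [], [], [], [0, 1, 17, 2, 9, 5, 18, 13, 11, 16, 8, 10, 7, 12, 14, 21, 4, 3, 22, 15, 20, 19, 6, 23], [], [], [], [], [], [], [], [], [], [0, 1, 12, 3, 4, 16, 21, 10, 8, 15, 7, 23, 2, 14, 13, 9, 5, 17, 18, 20, 19, 6, 22, 11], [], [], [], [], [], [], [], [], [], [0, 1, 14, 17, 5, 15, 9, 23, 7, 20, 2, 11, 3, 13, 10, 4, 16, 12, 21, 19, 6, 22, 18, 8], [], [], [], [], [], [], [], [], [], [0, 1, 13, 12, 16, 20, 4, 11, 2, 19, 3, 8, 17, 10, 23, 5, 15, 14, 9, 6, 22, 18, 21, 7], [], [], [], [], [], [], [], [], [], [0, 1, 10, 14, 15, 19, 5, 8, 3, 6, 17, 7, 12, 23, 11, 16, 20, 13, 4, 22, 18, 21, 9, 2]],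
   [[], [], [], [0, 1, 8, 12, 15, 18, 20, 17, 13, 9, 14, 3, 10, 7, 11, 19, 4, 2, 6, 21, 22, 16, 5, 23], [], [], [], [], [], [], [], [], [], [], [], [], [0, 1, 7, 14, 20, 21, 19, 12, 10, 4, 13, 17, 23, 2, 8, 6, 5, 3, 22, 9, 18, 15, 16, 11], [], [], [], [], [], [], [], [], [], [], [], [], [0, 1, 2, 13, 19, 9, 6, 14, 23, 5, 10, 12, 11, 3, 7, 22, 16, 17, 18, 4, 21, 20, 15, 8], [], [], [], [], [], [], [], [], [], [], [], [], [0, 1, 3, 10, 6, 4, 22, 13, 11, 16, 23, 14, 8, 17, 2, 18, 15, 12, 21, 5, 9, 19, 20, 7], [], [0, 1, 17, 23, 22, 5, 18, 10, 8, 15, 11, 13, 7, 12, 3, 21, 20, 14, 9, 16, 4, 6, 19, 2], [], [], [], [], [], [], [], [], [], [], [], [], [0, 1, 12, 11, 18, 16, 21, 23, 7, 20, 8, 10, 2, 14, 17, 9, 19, 13, 4, 15, 5, 22, 6, 3], [], [], [], [], [], [], [], [], [], [], [], [],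 [0, 1, 14, 8, 21, 15, 9, 11, 2, 19, 7, 23, 3, 13, 12, 4, 6, 10, 5, 20, 16, 18, 22, 17], [], [], [], [], [], [], [], [], [], [], [], [], [0, 1, 13, 7, 9, 20, 4, 8, 3, 6, 2, 11, 17, 10, 14, 5, 22, 23, 16, 19, 15, 21, 18, 12], [], [], [], [], [], [], [], [], [], [], [], [], [0, 1, 10, 2, 4, 19, 5, 7, 17, 22, 3, 8, 12, 23, 13, 16, 18, 11, 15, 6, 20, 9, 21, 14], [], [], [], [], [], [], [], [], [], [], [], [], [0, 1, 23, 3, 5, 6, 16, 2, 12, 18, 17, 7, 14, 11, 10, 15, 21, 8, 20, 22, 19, 4, 9, 13], [], [0, 1, 11, 17, 16, 22, 15, 3, 14, 21, 12, 2, 13, 8, 23, 20, 9, 7, 19, 18, 6, 5, 4, 10]],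
   [[], [], [], [0, 1, 11, 14, 19, 21, 15, 13, 12, 16, 10, 23, 2, 17, 7, 4, 5, 3, 18, 22, 9, 20, 6, 8], [], [], [], [], [], [], [], [], [], [], [], [], [], [], [], [0, 1, 8, 13, 6, 9, 20, 10, 14, 15, 23, 11, 3, 12, 2, 5, 16, 17, 21, 18, 4, 19, 22, 7], [], [], [], [], [0, 1, 7, 10, 22, 4, 19, 23, 13, 20, 11, 8, 17, 14, 3, 16, 15, 12, 9, 21, 5, 6, 18, 2], [], [], [], [], [], [], [], [], [], [], [], [], [], [], [], [0, 1, 2, 23, 18, 5, 6, 11, 10, 19, 8, 7, 12, 13, 17, 15, 20, 14, 4, 9, 16, 22, 21, 3], [], [], [], [], [0, 1, 3, 11, 21, 16, 22, 8, 23, 6, 7, 2, 14, 10, 12, 20, 19, 13, 5, 4, 15, 18, 9, 17], [], [], [], [], [], [], [], [], [], [], [], [], [], [], [], [0, 1, 17, 8, 9, 15, 18, 7, 11, 22, 2, 3, 13, 23, 14, 19, 6, 10, 16, 5, 20, 21, 4, 12], [], [], [], [], [0, 1, 12, 7, 4,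 20, 21, 2, 8, 18, 3, 17, 10, 11, 13, 6, 22, 23, 15, 16, 19, 9, 5, 14], [], [], [], [], [], [], [], [], [], [], [], [], [], [], [], [0, 1, 14, 2, 5, 19, 9, 3, 7, 21, 17, 12, 23, 8, 10, 22, 18, 11, 20, 15, 6, 4, 16, 13], [], [], [], [], [], [], [], [], [], [], [], [], [], [], [], [0, 1, 13, 3, 16, 6, 4, 17, 2, 9, 12, 14, 11, 7, 23, 18, 21, 8, 19, 20, 22, 5, 15, 10], [], [], [], [], [0, 1, 10, 17, 15, 22, 5, 12, 3, 4, 14, 13, 8, 2, 11, 21, 9, 7, 6, 19, 18, 16, 20, 23], [], [], [], [], [], [], [], [], [], [], [], [], [], [], [], [0, 1, 23, 12, 20, 18, 16, 14, 17, 5, 13, 10, 7, 3, 8, 9, 4, 2, 22, 6, 21, 15, 19, 11]],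
   [[], [], [], [0, 1, 7, 10, 4, 22, 19, 12, 14, 20, 2, 8, 3, 13, 17, 5, 6, 23, 21, 9, 16, 15, 18, 11], [], [], [], [], [], [], [], [0, 1, 2, 23, 5, 18, 6, 14, 13, 19, 3, 7, 17, 10, 12, 16, 22, 11, 9, 4, 15, 20, 21, 8], [], [], [], [], [], [], [], [], [], [], [], [], [], [], [], [], [], [], [0, 1, 3, 11, 16, 21, 22, 13, 10, 6, 17, 2, 12, 23, 14, 15, 18, 8, 4, 5, 20, 19, 9, 7], [], [], [], [], [], [], [], [0, 1, 17, 8, 15, 9, 18, 10, 23, 22, 12, 3, 14, 11, 13, 20, 21, 7, 5, 16, 19, 6, 4, 2], [], [], [], [], [], [], [], [0, 1, 12, 7, 20, 4, 21, 23, 11, 18, 14, 17, 13, 8, 10, 19, 9, 2, 16, 15, 6, 22, 5, 3], [], [], [], [], [], [], [], [], [], [], [], [], [], [], [], [], [], [], [0, 1, 14, 2, 19, 5, 9, 11, 8, 21, 13, 12, 10, 7, 23, 6, 4, 3, 15, 20, 22, 18, 16, 17], [], [], [], [],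 [], [], [], [0, 1, 13, 3, 6, 16, 4, 8, 7, 9, 10, 14, 23, 2, 11, 22, 5, 17, 20, 19, 18, 21, 15, 12], [], [], [], [], [], [], [], [0, 1, 10, 17, 22, 15, 5, 7, 2, 4, 23, 13, 11, 3, 8, 18, 16, 12, 19, 6, 21, 9, 20, 14], [], [], [], [], [], [], [], [0, 1, 23, 12, 18, 20, 16, 2, 3, 5, 11, 10, 8, 17, 7, 21, 15, 14, 6, 22, 9, 4, 19, 13], [], [], [], [], [], [], [], [], [], [], [], [], [], [], [], [], [], [], [0, 1, 11, 14, 21, 19, 15, 3, 17, 16, 8, 23, 7, 12, 2, 9, 20, 13, 22, 18, 4, 5, 6, 10], [], [], [], [], [], [], [], [0, 1, 8, 13, 9, 6, 20, 17, 12, 15, 7, 11, 2, 14, 3, 4, 19, 10, 18, 21, 5, 16, 22, 23]],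
   [[], [], [], [], [], [], [], [], [], [0, 1, 8, 17, 9, 15, 5, 13, 3, 6, 2, 11, 7, 23, 12, 4, 22, 10, 21, 18, 20, 16, 19, 14], [], [], [], [], [], [], [], [], [], [], [0, 1, 3, 13, 16, 6, 20, 11, 14, 21, 12, 2, 17, 7, 10, 15, 9, 8, 5, 4, 22, 19, 18, 23], [], [], [], [], [], [], [], [], [], [], [0, 1, 14, 11, 19, 21, 22, 2, 23, 5, 10, 12, 13, 17, 8, 6, 16, 3, 20, 15, 9, 18, 4, 7], [], [], [], [], [], [], [], [], [], [], [0, 1, 23, 2, 18, 5, 9, 12, 7, 20, 8, 10, 11, 13, 3, 21, 19, 14, 22, 6, 16, 4, 15, 17], [], [], [], [], [], [], [], [], [], [], [0, 1, 7, 12, 4, 20, 16, 10, 17, 22, 3, 8, 2, 11, 14, 5, 18, 23, 9, 21, 19, 15, 6, 13], [], [], [], [], [], [], [], [], [], [], [0, 1, 17, 10, 15, 22, 19, 8, 13, 9, 14, 3, 12, 2, 23, 20, 4, 7, 16, 5, 18, 6, 21, 11], [], [], [], [], [],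 [], [], [], [], [], [0, 1, 13, 8, 6, 9, 18, 3, 11, 16, 23, 14, 10, 12, 7, 22, 15, 17, 19, 20, 4, 21, 5, 2], [], [], [], [], [], [], [], [], [], [], [0, 1, 11, 3, 21, 16, 4, 14, 2, 19, 7, 23, 8, 10, 17, 9, 6, 13, 18, 22, 15, 5, 20, 12], [], [], [], [], [], [], [], [], [], [], [0, 1, 2, 14, 5, 19, 15, 23, 12, 18, 17, 7, 3, 8, 13, 16, 21, 11, 4, 9, 6, 20, 22, 10], [], [], [], [], [], [], [], [], [], [], [0, 1, 12, 23, 20, 18, 6, 7, 10, 4, 13, 17, 14, 3, 11, 19, 5, 2, 15, 16, 21, 22, 9, 8], [], [], [], [], [], [], [], [], [], [], [0, 1, 10, 7, 22, 4, 21, 17, 8, 15, 11, 13, 23, 14, 2, 18, 20, 12, 6, 19, 5, 9, 16, 3]],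
   [[], [], [], [], [], [], [], [], [], [0, 1, 13, 10, 19, 6, 22, 2, 7, 9, 11, 12, 14, 17, 3, 21, 15, 8, 20, 16, 5, 4, 18, 23], [], [], [], [], [], [], [], [], [0, 1, 11, 8, 18, 21, 9, 12, 17, 16, 2, 10, 23, 13, 14, 5, 6, 3, 22, 19, 20, 15, 4, 7], [], [], [], [], [], [], [], [], [0, 1, 2, 3, 4, 5, 16, 10, 13, 19, 12, 8, 7, 11, 23, 20, 21, 14, 9, 18, 22, 6, 15, 17], [], [], [], [], [], [], [], [], [0, 1, 12, 14, 15, 20, 19, 8, 11, 18, 10, 3, 17, 2, 7, 22, 5, 23, 16, 4, 9, 21, 6, 13], [], [], [], [], [], [], [], [], [0, 1, 10, 23, 6, 22, 18, 3, 2, 4, 8, 14, 13, 12, 17, 9, 20, 7, 19, 15, 16, 5, 21, 11], [], [], [], [], [], [], [], [], [], [], [], [], [], [], [], [], [], [], [], [0, 1, 8, 7, 21, 9, 4, 14, 12, 15, 3, 23, 11, 10, 13, 16, 22, 17, 18, 6, 19, 20, 5, 2], [], [], [], [],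 [], [], [], [], [0, 1, 3, 17, 5, 16, 15, 23, 10, 6, 14, 7, 2, 8, 11, 19, 9, 13, 4, 21, 18, 22, 20, 12], [], [], [], [], [], [], [], [], [0, 1, 14, 13, 20, 19, 6, 7, 8, 21, 23, 17, 12, 3, 2, 18, 16, 11, 15, 5, 4, 9, 22, 10], [], [], [], [], [], [], [], [], [0, 1, 23, 11, 22, 18, 21, 17, 3, 5, 7, 13, 10, 14, 12, 4, 19, 2, 6, 20, 15, 16, 9, 8], [], [], [], [], [], [], [], [], [0, 1, 7, 2, 9, 4, 5, 13, 14, 20, 17, 11, 8, 23, 10, 15, 18, 12, 21, 22, 6, 19, 16, 3], [], [], [], [], [], [], [], [], [0, 1, 17, 12, 16, 15, 20, 11, 23, 22, 13, 2, 3, 7, 8, 6, 4, 10, 5, 9, 21, 18, 19, 14]],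
   [[], [], [], [], [], [], [], [], [], [0, 1, 2, 8, 18, 9, 15, 11, 14, 19, 12, 3, 23, 10, 7, 20, 6, 13, 5, 4, 22, 21, 16, 17], [], [], [], [], [], [], [0, 1, 12, 3, 4, 16, 6, 2, 23, 18, 10, 14, 7, 8, 17, 22, 21, 11, 20, 15, 9, 5, 19, 13], [], [], [], [], [], [], [0, 1, 10, 14, 15, 19, 21, 12, 7, 4, 8, 23, 17, 3, 13, 9, 5, 2, 22, 6, 16, 20, 18, 11], [], [], [], [], [], [], [], [], [], [], [], [], [], [], [], [], [], [0, 1, 8, 23, 6, 18, 5, 10, 17, 15, 3, 7, 13, 14, 11, 16, 20, 12, 9, 21, 19, 22, 4, 2], [], [], [], [], [], [], [0, 1, 3, 7, 21, 4, 20, 8, 13, 6, 14, 17, 11, 23, 2, 19, 22, 10, 16, 5, 18, 9, 15, 12], [], [], [], [], [], [], [0, 1, 14, 17, 5, 15, 22, 3, 11, 21, 23, 13, 2, 7, 12, 18, 9, 8, 19, 20, 4, 16, 6, 10], [], [], [], [], [], [], [], [], [], [], [], [], [], [],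 [], [], [], [0, 1, 23, 13, 20, 6, 9, 14, 2, 5, 7, 11, 12, 17, 10, 4, 16, 3, 18, 22, 15, 19, 21, 8], [], [], [], [], [], [], [0, 1, 7, 11, 22, 21, 16, 23, 12, 20, 17, 2, 10, 13, 8, 15, 19, 14, 4, 9, 6, 18, 5, 3], [], [], [], [], [], [], [], [], [], [], [], [], [], [], [], [], [], [0, 1, 17, 2, 9, 5, 19, 7, 10, 22, 13, 12, 8, 11, 3, 6, 18, 23, 15, 16, 21, 4, 20, 14], [], [], [], [], [], [], [0, 1, 13, 12, 16, 20, 18, 17, 8, 9, 11, 10, 3, 2, 14, 21, 4, 7, 6, 19, 5, 15, 22, 23], [], [], [], [], [], [], [0, 1, 11, 10, 19, 22, 4, 13, 3, 16, 2, 8, 14, 12, 23, 5, 15, 17, 21, 18, 20, 6, 9, 7]],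
   [[], [], [], [], [], [], [], [], [], [0, 1, 11, 13, 16, 19, 6, 12, 23, 18, 3, 7, 17, 8, 14, 5, 9, 2, 22, 21, 15, 20, 4, 10], [], [], [], [], [0, 1, 2, 11, 19, 18, 21, 10, 7, 4, 14, 17, 13, 3, 23, 20, 16, 12, 9, 5, 6, 22, 15, 8], [], [], [], [], [], [], [], [], [], [], [], [], [], [], [], [0, 1, 12, 2, 18, 4, 5, 8, 17, 15, 23, 13, 11, 14, 7, 22, 19, 10, 16, 20, 21, 9, 6, 3], [], [], [], [], [0, 1, 10, 12, 4, 15, 20, 3, 13, 6, 7, 11, 2, 23, 17, 9, 18, 8, 19, 22, 5, 16, 21, 14], [], [], [], [], [], [], [], [], [], [], [], [], [], [], [], [0, 1, 8, 10, 15, 6, 22, 14, 11, 21, 17, 2, 12, 7, 13, 16, 4, 3, 18, 9, 20, 19, 5, 23], [], [], [], [], [0, 1, 3, 8, 6, 21, 9, 23, 2, 5, 13, 12, 10, 17, 11, 19, 15, 14, 4, 16, 22, 18, 20, 7], [], [], [], [], [], [], [], [], [], [], [], [], [],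 [], [], [0, 1, 14, 3, 21, 5, 16, 7, 12, 20, 11, 10, 8, 13, 2, 18, 6, 23, 15, 19, 9, 4, 22, 17], [], [], [], [], [0, 1, 23, 14, 5, 20, 19, 17, 10, 22, 2, 8, 3, 11, 12, 4, 21, 7, 6, 18, 16, 15, 9, 13], [], [], [], [], [], [], [], [], [], [], [], [], [], [], [], [0, 1, 7, 23, 20, 22, 18, 13, 8, 9, 12, 3, 14, 2, 10, 15, 5, 17, 21, 4, 19, 6, 16, 11], [], [], [], [], [], [], [], [], [], [], [], [], [], [], [], [0, 1, 17, 7, 22, 9, 4, 11, 3, 16, 10, 14, 23, 12, 8, 6, 20, 13, 5, 15, 18, 21, 19, 2], [], [], [], [], [0, 1, 13, 17, 9, 16, 15, 2, 14, 19, 8, 23, 7, 10, 3, 21, 22, 11, 20, 6, 4, 5, 18, 12]],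
   [[], [], [], [], [], [], [], [], [], [0, 1, 12, 2, 4, 18, 9, 3, 17, 16, 7, 14, 10, 13, 23, 22, 19, 11, 15, 20, 6, 5, 21, 8], [], [], [0, 1, 10, 12, 15, 4, 16, 14, 13, 19, 17, 23, 8, 11, 7, 9, 18, 2, 6, 22, 21, 20, 5, 3], [], [], [], [], [], [], [], [], [], [], [], [], [], [0, 1, 8, 10, 6, 15, 19, 23, 11, 18, 13, 7, 3, 2, 17, 16, 4, 12, 21, 9, 5, 22, 20, 14], [], [], [], [], [], [], [], [], [], [], [], [], [], [0, 1, 3, 8, 21, 6, 18, 7, 2, 4, 11, 17, 14, 12, 13, 19, 15, 10, 5, 16, 20, 9, 22, 23], [], [], [], [], [], [], [], [], [], [], [], [], [], [0, 1, 14, 3, 5, 21, 4, 17, 12, 15, 2, 13, 23, 10, 11, 18, 6, 8, 20, 19, 22, 16, 9, 7], [], [], [0, 1, 23, 14, 20, 5, 15, 13, 10, 6, 12, 11, 7, 8, 2, 4, 21, 3, 22, 18, 9, 19, 16, 17], [], [], [], [], [], [], [], [], [], [], [], [],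 [], [0, 1, 7, 23, 22, 20, 6, 11, 8, 21, 10, 2, 17, 3, 12, 15, 5, 14, 9, 4, 16, 18, 19, 13], [], [], [], [], [], [], [], [], [], [], [], [], [], [0, 1, 17, 7, 9, 22, 21, 2, 3, 5, 8, 12, 13, 14, 10, 6, 20, 23, 16, 15, 19, 4, 18, 11], [], [], [0, 1, 13, 17, 16, 9, 5, 12, 14, 20, 3, 10, 11, 23, 8, 21, 22, 7, 19, 6, 18, 15, 4, 2], [], [], [], [], [], [], [], [], [], [], [], [], [], [0, 1, 11, 13, 19, 16, 20, 10, 23, 22, 14, 8, 2, 7, 3, 5, 9, 17, 18, 21, 4, 6, 15, 12], [], [], [], [], [], [], [], [], [], [], [], [], [], [0, 1, 2, 11, 18, 19, 22, 8, 7, 9, 23, 3, 12, 17, 14, 20, 16, 13, 4, 5, 15, 21, 6, 10]],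
   [[], [], [], [], [], [], [], [], [], [0, 1, 3, 11, 21, 16, 19, 7, 10, 4, 14, 23, 8, 2, 17, 15, 18, 12, 6, 5, 9, 22, 20, 13], [], [], [], [], [], [], [], [], [], [], [], [0, 1, 14, 2, 5, 19, 18, 17, 8, 15, 23, 7, 3, 12, 13, 6, 4, 10, 21, 20, 16, 9, 22, 11], [0, 1, 23, 12, 20, 18, 4, 13, 3, 6, 7, 17, 14, 10, 11, 21, 15, 8, 5, 22, 19, 16, 9, 2], [], [], [], [], [], [], [], [], [], [], [], [0, 1, 7, 10, 22, 4, 15, 11, 14, 21, 17, 13, 23, 8, 2, 5, 6, 3, 20, 9, 18, 19, 16, 12], [], [], [], [], [], [], [], [], [], [], [], [0, 1, 17, 8, 9, 15, 6, 2, 23, 5, 13, 11, 7, 3, 12, 20, 21, 14, 22, 16, 4, 18, 19, 10], [], [], [], [], [], [], [], [], [], [], [], [0, 1, 13, 3, 16, 6, 21, 12, 7, 20, 11, 2, 17, 14, 10, 22, 5, 23, 9, 19, 15, 4, 18, 8], [], [], [], [], [], [], [], [], [], [], [],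 [0, 1, 11, 14, 19, 21, 5, 10, 17, 22, 2, 12, 13, 23, 8, 9, 20, 7, 16, 18, 6, 15, 4, 3], [], [], [], [], [], [], [], [], [], [], [], [0, 1, 2, 23, 18, 5, 20, 8, 13, 9, 12, 10, 11, 7, 3, 16, 22, 17, 19, 4, 21, 6, 15, 14], [], [], [], [], [], [], [], [], [], [], [], [0, 1, 12, 7, 4, 20, 22, 3, 11, 16, 10, 8, 2, 17, 14, 19, 9, 13, 18, 15, 5, 21, 6, 23], [], [], [], [], [], [], [], [], [], [], [], [0, 1, 10, 17, 15, 22, 9, 14, 2, 19, 8, 3, 12, 13, 23, 18, 16, 11, 4, 6, 20, 5, 21, 7], [], [], [], [], [], [], [], [], [], [], [], [0, 1, 8, 13, 6, 9, 16, 23, 12, 18, 3, 14, 10, 11, 7, 4, 19, 2, 15, 21, 22, 20, 5, 17]],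
   [[], [], [], [], [], [], [], [], [], [0, 1, 7, 12, 20, 4, 18, 14, 8, 21, 23, 17, 13, 11, 10, 6, 16, 3, 9, 22, 19, 15, 5, 2], [], [], [], [], [], [], [], [], [], [0, 1, 17, 10, 22, 15, 4, 23, 3, 5, 7, 13, 11, 2, 8, 21, 19, 14, 16, 9, 18, 6, 20, 12], [], [], [], [], [], [], [], [], [], [0, 1, 13, 8, 9, 6, 15, 7, 14, 20, 17, 11, 2, 12, 3, 5, 18, 23, 19, 16, 4, 21, 22, 10], [], [], [], [], [], [], [], [], [], [0, 1, 11, 3, 16, 21, 6, 17, 23, 22, 13, 2, 12, 10, 14, 20, 4, 7, 18, 19, 15, 5, 9, 8], [], [], [], [], [], [], [], [], [], [0, 1, 2, 14, 19, 5, 21, 13, 7, 9, 11, 12, 10, 8, 23, 22, 15, 17, 4, 18, 6, 20, 16, 3], [], [], [], [], [], [], [], [], [], [0, 1, 12, 23, 18, 20, 5, 11, 17, 16, 2, 10, 8, 3, 7, 9, 6, 13, 15, 4, 21, 22, 19, 14], [], [], [], [], [], [], [], [], [], [0,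 1, 10, 7, 4, 22, 20, 2, 13, 19, 12, 8, 3, 14, 17, 16, 21, 11, 6, 15, 5, 9, 18, 23], [], [], [], [], [], [], [], [], [], [0, 1, 8, 17, 15, 9, 22, 12, 11, 18, 10, 3, 14, 23, 13, 19, 5, 2, 21, 6, 20, 16, 4, 7], [], [], [], [], [], [], [], [], [], [0, 1, 3, 13, 6, 16, 9, 10, 2, 4, 8, 14, 23, 7, 11, 18, 20, 12, 5, 21, 22, 19, 15, 17], [], [], [], [], [], [], [], [], [], [0, 1, 14, 11, 21, 19, 16, 8, 12, 15, 3, 23, 7, 17, 2, 4, 22, 10, 20, 5, 9, 18, 6, 13], [], [], [], [], [], [], [], [], [], [], [], [], [], [], [], [], [], [], [], [], [0, 1, 23, 2, 5, 18, 19, 3, 10, 6, 14, 7, 17, 13, 12, 15, 9, 8, 22, 20, 16, 4, 21, 11]],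
   [[], [], [], [], [], [], [], [], [], [0, 1, 14, 3, 5, 21, 16, 23, 13, 20, 17, 10, 2, 12, 8, 9, 4, 7, 19, 15, 18, 6, 22, 11], [], [], [], [], [], [], [], [0, 1, 23, 14, 20, 5, 19, 7, 11, 22, 13, 8, 12, 10, 3, 16, 15, 17, 18, 6, 4, 21, 9, 2], [], [], [], [], [], [], [], [0, 1, 7, 23, 22, 20, 18, 17, 2, 9, 11, 3, 10, 8, 14, 19, 6, 13, 4, 21, 15, 5, 16, 12], [], [], [], [], [], [], [], [0, 1, 17, 7, 9, 22, 4, 13, 12, 16, 2, 14, 8, 3, 23, 18, 21, 11, 15, 5, 6, 20, 19, 10], [], [], [], [], [], [], [], [], [], [], [], [], [], [], [], [], [], [], [0, 1, 13, 17, 16, 9, 15, 11, 10, 19, 12, 23, 3, 14, 7, 4, 5, 2, 6, 20, 21, 22, 18, 8], [], [], [], [], [], [], [], [0, 1, 11, 13, 19, 16, 6, 2, 8, 18, 10, 7, 14, 23, 17, 15, 20, 12, 21, 22, 5, 9, 4, 3], [], [], [], [], [], [], [], [0, 1,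 2, 11, 18, 19, 21, 12, 3, 4, 8, 17, 23, 7, 13, 6, 22, 10, 5, 9, 20, 16, 15, 14], [], [], [], [], [], [], [], [], [], [], [], [], [], [], [], [], [], [], [0, 1, 12, 2, 4, 18, 5, 10, 14, 15, 3, 13, 7, 17, 11, 21, 9, 8, 20, 16, 22, 19, 6, 23], [], [], [], [], [], [], [], [0, 1, 10, 12, 15, 4, 20, 8, 23, 6, 14, 11, 17, 13, 2, 5, 16, 3, 22, 19, 9, 18, 21, 7], [], [], [], [], [], [], [], [0, 1, 8, 10, 6, 15, 22, 3, 7, 21, 23, 2, 13, 11, 12, 20, 19, 14, 9, 18, 16, 4, 5, 17], [], [], [], [], [], [], [], [0, 1, 3, 8, 21, 6, 9, 14, 17, 5, 7, 12, 11, 2, 10, 22, 18, 23, 16, 4, 19, 15, 20, 13]],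
   [[], [], [], [], [], [], [], [], [], [0, 1, 23, 7, 22, 20, 4, 17, 2, 5, 10, 8, 11, 3, 13, 19, 21, 14, 18, 6, 16, 9, 15, 12], [], [], [], [], [], [0, 1, 7, 17, 9, 22, 15, 13, 12, 20, 8, 3, 2, 14, 11, 18, 5, 23, 4, 21, 19, 16, 6, 10], [], [], [], [], [], [], [], [], [], [], [], [], [], [], [], [], [0, 1, 17, 13, 16, 9, 6, 11, 10, 22, 3, 14, 12, 23, 2, 4, 20, 7, 15, 5, 18, 19, 21, 8], [], [], [], [], [], [0, 1, 13, 11, 19, 16, 21, 2, 8, 9, 14, 23, 10, 7, 12, 15, 22, 17, 6, 20, 4, 18, 5, 3], [], [], [], [], [], [0, 1, 11, 2, 18, 19, 5, 12, 3, 16, 23, 7, 8, 17, 10, 6, 9, 13, 21, 22, 15, 4, 20, 14], [], [], [], [], [], [], [], [], [], [], [], [], [], [], [], [], [0, 1, 2, 12, 4, 18, 20, 10, 14, 19, 7, 17, 3, 13, 8, 21, 16, 11, 5, 9, 6, 15, 22, 23], [], [], [], [], [], [0, 1, 12,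 10, 15, 4, 22, 8, 23, 18, 17, 13, 14, 11, 3, 5, 19, 2, 20, 16, 21, 6, 9, 7], [], [], [], [], [], [], [], [], [], [], [], [], [], [], [], [], [0, 1, 10, 8, 6, 15, 9, 3, 7, 4, 13, 11, 23, 2, 14, 20, 18, 12, 22, 19, 5, 21, 16, 17], [], [], [], [], [], [0, 1, 8, 3, 21, 6, 16, 14, 17, 15, 11, 2, 7, 12, 23, 22, 4, 10, 9, 18, 20, 5, 19, 13], [], [], [], [], [], [], [], [], [], [], [], [], [], [], [], [], [0, 1, 3, 14, 5, 21, 19, 23, 13, 6, 2, 12, 17, 10, 7, 9, 15, 8, 16, 4, 22, 20, 18, 11], [], [], [], [], [], [0, 1, 14, 23, 20, 5, 18, 7, 11, 21, 12, 10, 13, 8, 17, 16, 6, 3, 19, 15, 9, 22, 4, 2]],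
   [[], [], [], [], [], [], [], [], [], [0, 1, 17, 14, 15, 5, 21, 10, 11, 22, 8, 13, 12, 7, 2, 18, 20, 23, 16, 9, 4, 19, 6, 3], [], [], [], [0, 1, 13, 23, 6, 20, 5, 8, 2, 9, 3, 11, 10, 17, 12, 4, 22, 7, 19, 16, 15, 18, 21, 14], [], [], [], [], [], [], [], [], [], [], [], [], [], [], [0, 1, 11, 7, 21, 22, 20, 3, 12, 16, 14, 2, 8, 13, 10, 15, 9, 17, 18, 19, 6, 4, 5, 23], [], [], [], [], [], [], [], [], [], [], [], [], [], [], [0, 1, 2, 17, 5, 9, 22, 14, 10, 19, 23, 12, 3, 11, 8, 6, 16, 13, 4, 18, 21, 15, 20, 7], [], [], [], [0, 1, 12, 13, 20, 16, 9, 23, 8, 18, 7, 10, 14, 2, 3, 21, 19, 11, 15, 4, 5, 6, 22, 17], [], [], [], [], [], [], [], [], [], [], [], [], [], [], [0, 1, 10, 11, 22, 19, 16, 7, 3, 4, 17, 8, 23, 12, 14, 5, 18, 2, 6, 15, 20, 21, 9, 13], [], [], [], [0, 1, 8, 2, 9,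 18, 19, 17, 14, 15, 13, 3, 7, 10, 23, 20, 4, 12, 21, 6, 22, 5, 16, 11], [], [], [], [], [], [], [], [], [], [], [], [], [], [], [0, 1, 3, 12, 16, 4, 18, 13, 23, 6, 11, 14, 17, 8, 7, 22, 15, 10, 5, 21, 9, 20, 19, 2], [], [], [], [], [], [], [], [], [], [], [], [], [], [], [0, 1, 14, 10, 19, 15, 4, 11, 7, 21, 2, 23, 13, 3, 17, 9, 6, 8, 20, 5, 16, 22, 18, 12], [], [], [], [0, 1, 23, 8, 18, 6, 15, 2, 17, 5, 12, 7, 11, 14, 13, 16, 21, 3, 22, 20, 19, 9, 4, 10], [], [], [], [], [], [], [], [], [], [], [], [], [], [], [0, 1, 7, 3, 4, 21, 6, 12, 13, 20, 10, 17, 2, 23, 11, 19, 5, 14, 9, 22, 18, 16, 15, 8]],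
   [[], [], [], [], [], [], [], [], [], [0, 1, 10, 23, 6, 22, 20, 8, 12, 15, 13, 2, 3, 14, 11, 16, 5, 17, 4, 19, 21, 18, 9, 7], [], [0, 1, 8, 7, 21, 9, 22, 3, 10, 6, 11, 12, 14, 23, 2, 19, 20, 13, 15, 18, 5, 4, 16, 17], [], [], [], [], [], [], [], [], [], [], [], [], [0, 1, 3, 17, 5, 16, 9, 14, 8, 21, 2, 10, 23, 7, 12, 18, 22, 11, 6, 4, 20, 15, 19, 13], [], [], [], [], [], [], [], [], [], [], [], [], [0, 1, 14, 13, 20, 19, 16, 23, 3, 5, 12, 8, 7, 17, 10, 4, 9, 2, 21, 15, 22, 6, 18, 11], [], [], [], [], [], [], [], [], [], [], [], [], [0, 1, 23, 11, 22, 18, 19, 7, 14, 20, 10, 3, 17, 13, 8, 15, 16, 12, 5, 6, 9, 21, 4, 2], [], [], [], [], [], [], [], [], [], [], [], [], [0, 1, 7, 2, 9, 4, 18, 17, 23, 22, 8, 14, 13, 11, 3, 6, 19, 10, 20, 21, 16, 5, 15, 12], [], [], [], [], [], [],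 [], [], [], [], [], [], [0, 1, 17, 12, 16, 15, 4, 13, 7, 9, 3, 23, 11, 2, 14, 21, 18, 8, 22, 5, 19, 20, 6, 10], [], [0, 1, 13, 10, 19, 6, 15, 11, 17, 16, 14, 7, 2, 12, 23, 5, 4, 3, 9, 20, 18, 22, 21, 8], [], [], [], [], [], [], [], [], [], [], [], [], [0, 1, 11, 8, 18, 21, 6, 2, 13, 19, 23, 17, 12, 10, 7, 20, 15, 14, 16, 22, 4, 9, 5, 3], [], [], [], [], [], [], [], [], [], [], [], [], [0, 1, 2, 3, 4, 5, 21, 12, 11, 18, 7, 13, 10, 8, 17, 22, 6, 23, 19, 9, 15, 16, 20, 14], [], [], [], [], [], [], [], [], [], [], [], [], [0, 1, 12, 14, 15, 20, 5, 10, 2, 4, 17, 11, 8, 3, 13, 9, 21, 7, 18, 16, 6, 19, 22, 23]],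
   [[], [], [0, 1, 8, 17, 9, 15, 5, 13, 3, 6, 2, 11, 7, 23, 12, 4, 22, 10, 21, 18, 20, 16, 19, 14], [], [], [], [], [], [], [], [], [], [], [0, 1, 10, 7, 22, 4, 21, 17, 8, 15, 11, 13, 23, 14, 2, 18, 20, 12, 6, 19, 5, 9, 16, 3], [], [], [], [], [], [], [], [], [], [], [0, 1, 12, 23, 20, 18, 6, 7, 10, 4, 13, 17, 14, 3, 11, 19, 5, 2, 15, 16, 21, 22, 9, 8], [], [], [], [], [], [], [], [], [], [], [0, 1, 2, 14, 5, 19, 15, 23, 12, 18, 17, 7, 3, 8, 13, 16, 21, 11, 4, 9, 6, 20, 22, 10], [], [], [], [], [], [], [], [], [], [], [0, 1, 11, 3, 21, 16, 4, 14, 2, 19, 7, 23, 8, 10, 17, 9, 6, 13, 18, 22, 15, 5, 20, 12], [], [], [], [], [], [], [], [], [], [], [0, 1, 13, 8, 6, 9, 18, 3, 11, 16, 23, 14, 10, 12, 7, 22, 15, 17, 19, 20, 4, 21, 5, 2], [], [], [], [], [], [], [], [], [], [], [0, 1,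 17, 10, 15, 22, 19, 8, 13, 9, 14, 3, 12, 2, 23, 20, 4, 7, 16, 5, 18, 6, 21, 11], [], [], [], [], [], [], [], [], [], [], [0, 1, 7, 12, 4, 20, 16, 10, 17, 22, 3, 8, 2, 11, 14, 5, 18, 23, 9, 21, 19, 15, 6, 13], [], [], [], [], [], [], [], [], [], [], [0, 1, 23, 2, 18, 5, 9, 12, 7, 20, 8, 10, 11, 13, 3, 21, 19, 14, 22, 6, 16, 4, 15, 17], [], [], [], [], [], [], [], [], [], [], [0, 1, 14, 11, 19, 21, 22, 2, 23, 5, 10, 12, 13, 17, 8, 6, 16, 3, 20, 15, 9, 18, 4, 7], [], [], [], [], [], [], [], [], [], [], [0, 1, 3, 13, 16, 6, 20, 11, 14, 21, 12, 2, 17, 7, 10, 15, 9, 8, 5, 4, 22, 19, 18, 23]],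
   [[], [], [0, 1, 10, 23, 6, 22, 20, 8, 12, 15, 13, 2, 3, 14, 11, 16, 5, 17, 4, 19, 21, 18, 9, 7], [], [], [], [], [], [], [], [], [], [], [], [], [0, 1, 12, 14, 15, 20, 5, 10, 2, 4, 17, 11, 8, 3, 13, 9, 21, 7, 18, 16, 6, 19, 22, 23], [], [], [], [], [], [], [], [], [], [], [], [], [0, 1, 2, 3, 4, 5, 21, 12, 11, 18, 7, 13, 10, 8, 17, 22, 6, 23, 19, 9, 15, 16, 20, 14], [], [], [], [], [], [], [], [], [], [], [], [], [0, 1, 11, 8, 18, 21, 6, 2, 13, 19, 23, 17, 12, 10, 7, 20, 15, 14, 16, 22, 4, 9, 5, 3], [], [], [], [], [], [], [], [], [], [], [], [], [0, 1, 13, 10, 19, 6, 15, 11, 17, 16, 14, 7, 2, 12, 23, 5, 4, 3, 9, 20, 18, 22, 21, 8], [], [0, 1, 17, 12, 16, 15, 4, 13, 7, 9, 3, 23, 11, 2, 14, 21, 18, 8, 22, 5, 19, 20, 6, 10], [], [], [], [], [], [], [], [], [], [], [], [], [0,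 1, 7, 2, 9, 4, 18, 17, 23, 22, 8, 14, 13, 11, 3, 6, 19, 10, 20, 21, 16, 5, 15, 12], [], [], [], [], [], [], [], [], [], [], [], [], [0, 1, 23, 11, 22, 18, 19, 7, 14, 20, 10, 3, 17, 13, 8, 15, 16, 12, 5, 6, 9, 21, 4, 2], [], [], [], [], [], [], [], [], [], [], [], [], [0, 1, 14, 13, 20, 19, 16, 23, 3, 5, 12, 8, 7, 17, 10, 4, 9, 2, 21, 15, 22, 6, 18, 11], [], [], [], [], [], [], [], [], [], [], [], [], [0, 1, 3, 17, 5, 16, 9, 14, 8, 21, 2, 10, 23, 7, 12, 18, 22, 11, 6, 4, 20, 15, 19, 13], [], [0, 1, 8, 7, 21, 9, 22, 3, 10, 6, 11, 12, 14, 23, 2, 19, 20, 13, 15, 18, 5, 4, 16, 17]],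
   [[], [], [0, 1, 17, 14, 15, 5, 21, 10, 11, 22, 8, 13, 12, 7, 2, 18, 20, 23, 16, 9, 4, 19, 6, 3], [], [], [], [], [], [], [], [], [], [], [], [], [], [], [0, 1, 7, 3, 4, 21, 6, 12, 13, 20, 10, 17, 2, 23, 11, 19, 5, 14, 9, 22, 18, 16, 15, 8], [], [], [], [], [], [], [], [], [], [], [], [], [], [], [0, 1, 23, 8, 18, 6, 15, 2, 17, 5, 12, 7, 11, 14, 13, 16, 21, 3, 22, 20, 19, 9, 4, 10], [], [], [], [0, 1, 14, 10, 19, 15, 4, 11, 7, 21, 2, 23, 13, 3, 17, 9, 6, 8, 20, 5, 16, 22, 18, 12], [], [], [], [], [], [], [], [], [], [], [], [], [], [], [0, 1, 3, 12, 16, 4, 18, 13, 23, 6, 11, 14, 17, 8, 7, 22, 15, 10, 5, 21, 9, 20, 19, 2], [], [], [], [0, 1, 8, 2, 9, 18, 19, 17, 14, 15, 13, 3, 7, 10, 23, 20, 4, 12, 21, 6, 22, 5, 16, 11], [], [], [], [], [], [], [], [], [], [], [], [], [], [],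 [0, 1, 10, 11, 22, 19, 16, 7, 3, 4, 17, 8, 23, 12, 14, 5, 18, 2, 6, 15, 20, 21, 9, 13], [], [], [], [], [], [], [], [], [], [], [], [], [], [], [0, 1, 12, 13, 20, 16, 9, 23, 8, 18, 7, 10, 14, 2, 3, 21, 19, 11, 15, 4, 5, 6, 22, 17], [], [], [], [0, 1, 2, 17, 5, 9, 22, 14, 10, 19, 23, 12, 3, 11, 8, 6, 16, 13, 4, 18, 21, 15, 20, 7], [], [], [], [], [], [], [], [], [], [], [], [], [], [], [0, 1, 11, 7, 21, 22, 20, 3, 12, 16, 14, 2, 8, 13, 10, 15, 9, 17, 18, 19, 6, 4, 5, 23], [], [], [], [], [], [], [], [], [], [], [], [], [], [], [0, 1, 13, 23, 6, 20, 5, 8, 2, 9, 3, 11, 10, 17, 12, 4, 22, 7, 19, 16, 15, 18, 21, 14]],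
   [[], [], [0, 1, 23, 7, 22, 20, 4, 17, 2, 5, 10, 8, 11, 3, 13, 19, 21, 14, 18, 6, 16, 9, 15, 12], [], [], [], [], [], [], [], [], [], [], [], [], [], [], [], [], [0, 1, 14, 23, 20, 5, 18, 7, 11, 21, 12, 10, 13, 8, 17, 16, 6, 3, 19, 15, 9, 22, 4, 2], [], [], [], [], [], [0, 1, 3, 14, 5, 21, 19, 23, 13, 6, 2, 12, 17, 10, 7, 9, 15, 8, 16, 4, 22, 20, 18, 11], [], [], [], [], [], [], [], [], [], [], [], [], [], [], [], [], [0, 1, 8, 3, 21, 6, 16, 14, 17, 15, 11, 2, 7, 12, 23, 22, 4, 10, 9, 18, 20, 5, 19, 13], [], [], [], [], [], [0, 1, 10, 8, 6, 15, 9, 3, 7, 4, 13, 11, 23, 2, 14, 20, 18, 12, 22, 19, 5, 21, 16, 17], [], [], [], [], [], [], [], [], [], [], [], [], [], [], [], [], [0, 1, 12, 10, 15, 4, 22, 8, 23, 18, 17, 13, 14, 11, 3, 5, 19, 2, 20, 16, 21, 6, 9, 7], [], [], [], [],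 [], [0, 1, 2, 12, 4, 18, 20, 10, 14, 19, 7, 17, 3, 13, 8, 21, 16, 11, 5, 9, 6, 15, 22, 23], [], [], [], [], [], [0, 1, 11, 2, 18, 19, 5, 12, 3, 16, 23, 7, 8, 17, 10, 6, 9, 13, 21, 22, 15, 4, 20, 14], [], [], [], [], [], [], [], [], [], [], [], [], [], [], [], [], [0, 1, 13, 11, 19, 16, 21, 2, 8, 9, 14, 23, 10, 7, 12, 15, 22, 17, 6, 20, 4, 18, 5, 3], [], [], [], [], [], [0, 1, 17, 13, 16, 9, 6, 11, 10, 22, 3, 14, 12, 23, 2, 4, 20, 7, 15, 5, 18, 19, 21, 8], [], [], [], [], [], [], [], [], [], [], [], [], [], [], [], [], [0, 1, 7, 17, 9, 22, 15, 13, 12, 20, 8, 3, 2, 14, 11, 18, 5, 23, 4, 21, 19, 16, 6, 10]],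
   [[], [], [0, 1, 14, 3, 5, 21, 16, 23, 13, 20, 17, 10, 2, 12, 8, 9, 4, 7, 19, 15, 18, 6, 22, 11], [], [], [], [], [], [], [], [], [], [], [], [], [], [], [], [], [], [], [0, 1, 3, 8, 21, 6, 9, 14, 17, 5, 7, 12, 11, 2, 10, 22, 18, 23, 16, 4, 19, 15, 20, 13], [], [], [], [], [], [], [], [0, 1, 8, 10, 6, 15, 22, 3, 7, 21, 23, 2, 13, 11, 12, 20, 19, 14, 9, 18, 16, 4, 5, 17], [], [], [], [], [], [], [], [0, 1, 10, 12, 15, 4, 20, 8, 23, 6, 14, 11, 17, 13, 2, 5, 16, 3, 22, 19, 9, 18, 21, 7], [], [], [], [], [], [], [], [0, 1, 12, 2, 4, 18, 5, 10, 14, 15, 3, 13, 7, 17, 11, 21, 9, 8, 20, 16, 22, 19, 6, 23], [], [], [], [], [], [], [], [], [], [], [], [], [], [], [], [], [], [], [0, 1, 2, 11, 18, 19, 21, 12, 3, 4, 8, 17, 23, 7, 13, 6, 22, 10, 5, 9, 20, 16, 15, 14], [], [], [], [], [],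 [], [], [0, 1, 11, 13, 19, 16, 6, 2, 8, 18, 10, 7, 14, 23, 17, 15, 20, 12, 21, 22, 5, 9, 4, 3], [], [], [], [], [], [], [], [0, 1, 13, 17, 16, 9, 15, 11, 10, 19, 12, 23, 3, 14, 7, 4, 5, 2, 6, 20, 21, 22, 18, 8], [], [], [], [], [], [], [], [0, 1, 17, 7, 9, 22, 4, 13, 12, 16, 2, 14, 8, 3, 23, 18, 21, 11, 15, 5, 6, 20, 19, 10], [], [], [], [], [], [], [], [], [], [], [], [], [], [], [], [], [], [], [0, 1, 7, 23, 22, 20, 18, 17, 2, 9, 11, 3, 10, 8, 14, 19, 6, 13, 4, 21, 15, 5, 16, 12], [], [], [], [], [], [], [], [0, 1, 23, 14, 20, 5, 19, 7, 11, 22, 13, 8, 12, 10, 3, 16, 15, 17, 18, 6, 4, 21, 9, 2]],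
   [[], [], [0, 1, 7, 12, 20, 4, 18, 14, 8, 21, 23, 17, 13, 11, 10, 6, 16, 3, 9, 22, 19, 15, 5, 2], [], [], [], [], [], [], [], [], [], [0, 1, 23, 2, 5, 18, 19, 3, 10, 6, 14, 7, 17, 13, 12, 15, 9, 8, 22, 20, 16, 4, 21, 11], [], [], [], [], [], [], [], [], [], [0, 1, 14, 11, 21, 19, 16, 8, 12, 15, 3, 23, 7, 17, 2, 4, 22, 10, 20, 5, 9, 18, 6, 13], [], [], [], [], [], [], [], [], [], [], [], [], [], [], [], [], [], [], [], [], [0, 1, 3, 13, 6, 16, 9, 10, 2, 4, 8, 14, 23, 7, 11, 18, 20, 12, 5, 21, 22, 19, 15, 17], [], [], [], [], [], [], [], [], [], [0, 1, 8, 17, 15, 9, 22, 12, 11, 18, 10, 3, 14, 23, 13, 19, 5, 2, 21, 6, 20, 16, 4, 7], [], [], [], [], [], [], [], [], [], [0, 1, 10, 7, 4, 22, 20, 2, 13, 19, 12, 8, 3, 14, 17, 16, 21, 11, 6, 15, 5, 9, 18, 23], [], [], [], [], [], [],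 [], [], [], [0, 1, 12, 23, 18, 20, 5, 11, 17, 16, 2, 10, 8, 3, 7, 9, 6, 13, 15, 4, 21, 22, 19, 14], [], [], [], [], [], [], [], [], [], [0, 1, 2, 14, 19, 5, 21, 13, 7, 9, 11, 12, 10, 8, 23, 22, 15, 17, 4, 18, 6, 20, 16, 3], [], [], [], [], [], [], [], [], [], [0, 1, 11, 3, 16, 21, 6, 17, 23, 22, 13, 2, 12, 10, 14, 20, 4, 7, 18, 19, 15, 5, 9, 8], [], [], [], [], [], [], [], [], [], [0, 1, 13, 8, 9, 6, 15, 7, 14, 20, 17, 11, 2, 12, 3, 5, 18, 23, 19, 16, 4, 21, 22, 10], [], [], [], [], [], [], [], [], [], [0, 1, 17, 10, 22, 15, 4, 23, 3, 5, 7, 13, 11, 2, 8, 21, 19, 14, 16, 9, 18, 6, 20, 12]],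
   [[], [], [0, 1, 3, 11, 21, 16, 19, 7, 10, 4, 14, 23, 8, 2, 17, 15, 18, 12, 6, 5, 9, 22, 20, 13], [], [], [], [], [], [], [], [], [], [], [], [0, 1, 8, 13, 6, 9, 16, 23, 12, 18, 3, 14, 10, 11, 7, 4, 19, 2, 15, 21, 22, 20, 5, 17], [], [], [], [], [], [], [], [], [], [], [], [0, 1, 10, 17, 15, 22, 9, 14, 2, 19, 8, 3, 12, 13, 23, 18, 16, 11, 4, 6, 20, 5, 21, 7], [], [], [], [], [], [], [], [], [], [], [], [0, 1, 12, 7, 4, 20, 22, 3, 11, 16, 10, 8, 2, 17, 14, 19, 9, 13, 18, 15, 5, 21, 6, 23], [], [], [], [], [], [], [], [], [], [], [], [0, 1, 2, 23, 18, 5, 20, 8, 13, 9, 12, 10, 11, 7, 3, 16, 22, 17, 19, 4, 21, 6, 15, 14], [], [], [], [], [], [], [], [], [], [], [], [0, 1, 11, 14, 19, 21, 5, 10, 17, 22, 2, 12, 13, 23, 8, 9, 20, 7, 16, 18, 6, 15, 4, 3], [], [], [], [], [], [], [],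 [], [], [], [], [0, 1, 13, 3, 16, 6, 21, 12, 7, 20, 11, 2, 17, 14, 10, 22, 5, 23, 9, 19, 15, 4, 18, 8], [], [], [], [], [], [], [], [], [], [], [], [0, 1, 17, 8, 9, 15, 6, 2, 23, 5, 13, 11, 7, 3, 12, 20, 21, 14, 22, 16, 4, 18, 19, 10], [], [], [], [], [], [], [], [], [], [], [], [0, 1, 7, 10, 22, 4, 15, 11, 14, 21, 17, 13, 23, 8, 2, 5, 6, 3, 20, 9, 18, 19, 16, 12], [0, 1, 23, 12, 20, 18, 4, 13, 3, 6, 7, 17, 14, 10, 11, 21, 15, 8, 5, 22, 19, 16, 9, 2], [], [], [], [], [], [], [], [], [], [], [], [0, 1, 14, 2, 5, 19, 18, 17, 8, 15, 23, 7, 3, 12, 13, 6, 4, 10, 21, 20, 16, 9, 22, 11]],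
   [[], [], [0, 1, 12, 2, 4, 18, 9, 3, 17, 16, 7, 14, 10, 13, 23, 22, 19, 11, 15, 20, 6, 5, 21, 8], [], [], [], [], [], [], [], [], [], [], [], [], [], [0, 1, 2, 11, 18, 19, 22, 8, 7, 9, 23, 3, 12, 17, 14, 20, 16, 13, 4, 5, 15, 21, 6, 10], [], [], [], [], [], [], [], [], [], [], [], [], [], [0, 1, 11, 13, 19, 16, 20, 10, 23, 22, 14, 8, 2, 7, 3, 5, 9, 17, 18, 21, 4, 6, 15, 12], [], [], [0, 1, 13, 17, 16, 9, 5, 12, 14, 20, 3, 10, 11, 23, 8, 21, 22, 7, 19, 6, 18, 15, 4, 2], [], [], [], [], [], [], [], [], [], [], [], [], [], [0, 1, 17, 7, 9, 22, 21, 2, 3, 5, 8, 12, 13, 14, 10, 6, 20, 23, 16, 15, 19, 4, 18, 11], [], [], [], [], [], [], [], [], [], [], [], [], [], [0, 1, 7, 23, 22, 20, 6, 11, 8, 21, 10, 2, 17, 3, 12, 15, 5, 14, 9, 4, 16, 18, 19, 13], [], [], [], [], [], [], [], [],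 [], [], [], [], [], [0, 1, 23, 14, 20, 5, 15, 13, 10, 6, 12, 11, 7, 8, 2, 4, 21, 3, 22, 18, 9, 19, 16, 17], [], [], [0, 1, 14, 3, 5, 21, 4, 17, 12, 15, 2, 13, 23, 10, 11, 18, 6, 8, 20, 19, 22, 16, 9, 7], [], [], [], [], [], [], [], [], [], [], [], [], [], [0, 1, 3, 8, 21, 6, 18, 7, 2, 4, 11, 17, 14, 12, 13, 19, 15, 10, 5, 16, 20, 9, 22, 23], [], [], [], [], [], [], [], [], [], [], [], [], [], [0, 1, 8, 10, 6, 15, 19, 23, 11, 18, 13, 7, 3, 2, 17, 16, 4, 12, 21, 9, 5, 22, 20, 14], [], [], [], [], [], [], [], [], [], [], [], [], [], [0, 1, 10, 12, 15, 4, 16, 14, 13, 19, 17, 23, 8, 11, 7, 9, 18, 2, 6, 22, 21, 20, 5, 3]],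
   [[], [], [0, 1, 11, 13, 16, 19, 6, 12, 23, 18, 3, 7, 17, 8, 14, 5, 9, 2, 22, 21, 15, 20, 4, 10], [], [], [], [], [], [], [], [], [], [], [], [], [], [], [], [0, 1, 13, 17, 9, 16, 15, 2, 14, 19, 8, 23, 7, 10, 3, 21, 22, 11, 20, 6, 4, 5, 18, 12], [], [], [], [], [0, 1, 17, 7, 22, 9, 4, 11, 3, 16, 10, 14, 23, 12, 8, 6, 20, 13, 5, 15, 18, 21, 19, 2], [], [], [], [], [], [], [], [], [], [], [], [], [], [], [], [0, 1, 7, 23, 20, 22, 18, 13, 8, 9, 12, 3, 14, 2, 10, 15, 5, 17, 21, 4, 19, 6, 16, 11], [], [], [], [], [0, 1, 23, 14, 5, 20, 19, 17, 10, 22, 2, 8, 3, 11, 12, 4, 21, 7, 6, 18, 16, 15, 9, 13], [], [], [], [], [], [], [], [], [], [], [], [], [], [], [], [0, 1, 14, 3, 21, 5, 16, 7, 12, 20, 11, 10, 8, 13, 2, 18, 6, 23, 15, 19, 9, 4, 22, 17], [], [], [], [], [], [], [], [], [],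 [], [], [], [], [], [], [0, 1, 3, 8, 6, 21, 9, 23, 2, 5, 13, 12, 10, 17, 11, 19, 15, 14, 4, 16, 22, 18, 20, 7], [], [], [], [], [0, 1, 8, 10, 15, 6, 22, 14, 11, 21, 17, 2, 12, 7, 13, 16, 4, 3, 18, 9, 20, 19, 5, 23], [], [], [], [], [], [], [], [], [], [], [], [], [], [], [], [0, 1, 10, 12, 4, 15, 20, 3, 13, 6, 7, 11, 2, 23, 17, 9, 18, 8, 19, 22, 5, 16, 21, 14], [], [], [], [], [0, 1, 12, 2, 18, 4, 5, 8, 17, 15, 23, 13, 11, 14, 7, 22, 19, 10, 16, 20, 21, 9, 6, 3], [], [], [], [], [], [], [], [], [], [], [], [], [], [], [], [0, 1, 2, 11, 19, 18, 21, 10, 7, 4, 14, 17, 13, 3, 23, 20, 16, 12, 9, 5, 6, 22, 15, 8]],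
   [[], [], [0, 1, 2, 8, 18, 9, 15, 11, 14, 19, 12, 3, 23, 10, 7, 20, 6, 13, 5, 4, 22, 21, 16, 17], [], [], [], [], [], [], [], [], [], [], [], [], [], [], [], [], [], [0, 1, 11, 10, 19, 22, 4, 13, 3, 16, 2, 8, 14, 12, 23, 5, 15, 17, 21, 18, 20, 6, 9, 7], [], [], [], [], [], [], [0, 1, 13, 12, 16, 20, 18, 17, 8, 9, 11, 10, 3, 2, 14, 21, 4, 7, 6, 19, 5, 15, 22, 23], [], [], [], [], [], [], [0, 1, 17, 2, 9, 5, 19, 7, 10, 22, 13, 12, 8, 11, 3, 6, 18, 23, 15, 16, 21, 4, 20, 14], [], [], [], [], [], [], [], [], [], [], [], [], [], [], [], [], [], [0, 1, 7, 11, 22, 21, 16, 23, 12, 20, 17, 2, 10, 13, 8, 15, 19, 14, 4, 9, 6, 18, 5, 3], [], [], [], [], [], [], [0, 1, 23, 13, 20, 6, 9, 14, 2, 5, 7, 11, 12, 17, 10, 4, 16, 3, 18, 22, 15, 19, 21, 8], [], [], [], [], [], [], [0, 1, 14, 17,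 5, 15, 22, 3, 11, 21, 23, 13, 2, 7, 12, 18, 9, 8, 19, 20, 4, 16, 6, 10], [], [], [], [], [], [], [], [], [], [], [], [], [], [], [], [], [], [0, 1, 3, 7, 21, 4, 20, 8, 13, 6, 14, 17, 11, 23, 2, 19, 22, 10, 16, 5, 18, 9, 15, 12], [], [], [], [], [], [], [0, 1, 8, 23, 6, 18, 5, 10, 17, 15, 3, 7, 13, 14, 11, 16, 20, 12, 9, 21, 19, 22, 4, 2], [], [], [], [], [], [], [], [], [], [], [], [], [], [], [], [], [], [0, 1, 10, 14, 15, 19, 21, 12, 7, 4, 8, 23, 17, 3, 13, 9, 5, 2, 22, 6, 16, 20, 18, 11], [], [], [], [], [], [], [0, 1, 12, 3, 4, 16, 6, 2, 23, 18, 10, 14, 7, 8, 17, 22, 21, 11, 20, 15, 9, 5, 19, 13]],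
   [[], [], [0, 1, 13, 10, 19, 6, 22, 2, 7, 9, 11, 12, 14, 17, 3, 21, 15, 8, 20, 16, 5, 4, 18, 23], [], [], [], [], [], [], [], [], [0, 1, 17, 12, 16, 15, 20, 11, 23, 22, 13, 2, 3, 7, 8, 6, 4, 10, 5, 9, 21, 18, 19, 14], [], [], [], [], [], [], [], [], [], [], [], [], [], [], [], [], [], [], [], [0, 1, 7, 2, 9, 4, 5, 13, 14, 20, 17, 11, 8, 23, 10, 15, 18, 12, 21, 22, 6, 19, 16, 3], [], [], [], [], [], [], [], [], [0, 1, 23, 11, 22, 18, 21, 17, 3, 5, 7, 13, 10, 14, 12, 4, 19, 2, 6, 20, 15, 16, 9, 8], [], [], [], [], [], [], [], [], [0, 1, 14, 13, 20, 19, 6, 7, 8, 21, 23, 17, 12, 3, 2, 18, 16, 11, 15, 5, 4, 9, 22, 10], [], [], [], [], [], [], [], [], [0, 1, 3, 17, 5, 16, 15, 23, 10, 6, 14, 7, 2, 8, 11, 19, 9, 13, 4, 21, 18, 22, 20, 12], [], [], [], [], [], [], [], [], [0, 1, 8, 7,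 21, 9, 4, 14, 12, 15, 3, 23, 11, 10, 13, 16, 22, 17, 18, 6, 19, 20, 5, 2], [], [], [], [], [], [], [], [], [], [], [], [], [], [], [], [], [], [], [], [0, 1, 10, 23, 6, 22, 18, 3, 2, 4, 8, 14, 13, 12, 17, 9, 20, 7, 19, 15, 16, 5, 21, 11], [], [], [], [], [], [], [], [], [0, 1, 12, 14, 15, 20, 19, 8, 11, 18, 10, 3, 17, 2, 7, 22, 5, 23, 16, 4, 9, 21, 6, 13], [], [], [], [], [], [], [], [], [0, 1, 2, 3, 4, 5, 16, 10, 13, 19, 12, 8, 7, 11, 23, 20, 21, 14, 9, 18, 22, 6, 15, 17], [], [], [], [], [], [], [], [], [0, 1, 11, 8, 18, 21, 9, 12, 17, 16, 2, 10, 23, 13, 14, 5, 6, 3, 22, 19, 20, 15, 4, 7]],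
   [[], [], [], [], [], [], [], [], [0, 1, 17, 2, 5, 9, 4, 14, 10, 15, 3, 11, 23, 12, 13, 6, 18, 8, 22, 16, 20, 19, 21, 7], [], [], [], [], [], [], [], [], [], [], [0, 1, 3, 7, 4, 21, 9, 12, 13, 16, 2, 23, 10, 17, 14, 19, 22, 11, 6, 5, 15, 20, 18, 8], [], [], [], [], [], [], [], [], [], [], [0, 1, 2, 8, 9, 18, 21, 17, 14, 5, 7, 10, 13, 3, 12, 20, 6, 23, 19, 4, 16, 15, 22, 11], [], [], [], [], [], [], [], [], [], [], [0, 1, 7, 11, 21, 22, 18, 3, 12, 4, 8, 13, 14, 2, 17, 15, 19, 10, 20, 9, 5, 16, 6, 23], [], [], [], [], [], [], [], [], [], [], [0, 1, 8, 23, 18, 6, 22, 2, 17, 9, 11, 14, 12, 7, 3, 16, 20, 13, 15, 21, 4, 5, 19, 10], [], [], [], [], [], [], [], [], [], [], [0, 1, 11, 10, 22, 19, 6, 7, 3, 21, 23, 12, 17, 8, 2, 5, 15, 14, 16, 18, 9, 4, 20, 13], [], [], [], [], [], [],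 [], [], [], [], [0, 1, 23, 13, 6, 20, 19, 8, 2, 18, 10, 17, 3, 11, 7, 4, 16, 12, 5, 22, 21, 9, 15, 14], [], [], [], [], [], [], [], [], [], [], [0, 1, 10, 14, 19, 15, 20, 11, 7, 22, 13, 3, 2, 23, 8, 9, 5, 17, 4, 6, 18, 21, 16, 12], [], [], [], [], [], [], [], [], [], [], [0, 1, 13, 12, 20, 16, 15, 23, 8, 6, 14, 2, 7, 10, 11, 21, 4, 3, 9, 19, 22, 18, 5, 17], [], [], [], [], [], [], [], [], [], [], [0, 1, 14, 17, 15, 5, 16, 10, 11, 19, 12, 7, 8, 13, 23, 18, 9, 2, 21, 20, 6, 22, 4, 3], [], [], [], [], [], [], [], [], [], [], [0, 1, 12, 3, 16, 4, 5, 13, 23, 20, 17, 8, 11, 14, 10, 22, 21, 7, 18, 15, 19, 6, 9, 2]],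
   [[], [], [], [], [], [], [], [], [0, 1, 7, 10, 4, 22, 19, 12, 14, 20, 2, 8, 3, 13, 17, 5, 6, 23, 21, 9, 16, 15, 18, 11], [], [], [], [], [], [], [], [0, 1, 8, 13, 9, 6, 20, 17, 12, 15, 7, 11, 2, 14, 3, 4, 19, 10, 18, 21, 5, 16, 22, 23], [], [], [], [], [], [], [], [0, 1, 11, 14, 21, 19, 15, 3, 17, 16, 8, 23, 7, 12, 2, 9, 20, 13, 22, 18, 4, 5, 6, 10], [], [], [], [], [], [], [], [], [], [], [], [], [], [], [], [], [], [], [0, 1, 23, 12, 18, 20, 16, 2, 3, 5, 11, 10, 8, 17, 7, 21, 15, 14, 6, 22, 9, 4, 19, 13], [], [], [], [], [], [], [], [0, 1, 10, 17, 22, 15, 5, 7, 2, 4, 23, 13, 11, 3, 8, 18, 16, 12, 19, 6, 21, 9, 20, 14], [], [], [], [], [], [], [], [0, 1, 13, 3, 6, 16, 4, 8, 7, 9, 10, 14, 23, 2, 11, 22, 5, 17, 20, 19, 18, 21, 15, 12], [], [], [], [], [], [], [], [0, 1, 14,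 2, 19, 5, 9, 11, 8, 21, 13, 12, 10, 7, 23, 6, 4, 3, 15, 20, 22, 18, 16, 17], [], [], [], [], [], [], [], [], [], [], [], [], [], [], [], [], [], [], [0, 1, 12, 7, 20, 4, 21, 23, 11, 18, 14, 17, 13, 8, 10, 19, 9, 2, 16, 15, 6, 22, 5, 3], [], [], [], [], [], [], [], [0, 1, 17, 8, 15, 9, 18, 10, 23, 22, 12, 3, 14, 11, 13, 20, 21, 7, 5, 16, 19, 6, 4, 2], [], [], [], [], [], [], [], [0, 1, 3, 11, 16, 21, 22, 13, 10, 6, 17, 2, 12, 23, 14, 15, 18, 8, 4, 5, 20, 19, 9, 7], [], [], [], [], [], [], [], [0, 1, 2, 23, 5, 18, 6, 14, 13, 19, 3, 7, 17, 10, 12, 16, 22, 11, 9, 4, 15, 20, 21, 8]],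
   [[], [], [], [], [], [], [], [], [0, 1, 11, 14, 19, 21, 15, 13, 12, 16, 10, 23, 2, 17, 7, 4, 5, 3, 18, 22, 9, 20, 6, 8], [], [], [], [], [0, 1, 23, 12, 20, 18, 16, 14, 17, 5, 13, 10, 7, 3, 8, 9, 4, 2, 22, 6, 21, 15, 19, 11], [], [], [], [], [], [], [], [], [], [], [], [], [], [], [], [0, 1, 10, 17, 15, 22, 5, 12, 3, 4, 14, 13, 8, 2, 11, 21, 9, 7, 6, 19, 18, 16, 20, 23], [], [], [], [], [0, 1, 13, 3, 16, 6, 4, 17, 2, 9, 12, 14, 11, 7, 23, 18, 21, 8, 19, 20, 22, 5, 15, 10], [], [], [], [], [], [], [], [], [], [], [], [], [], [], [], [0, 1, 14, 2, 5, 19, 9, 3, 7, 21, 17, 12, 23, 8, 10, 22, 18, 11, 20, 15, 6, 4, 16, 13], [], [], [], [], [0, 1, 12, 7, 4, 20, 21, 2, 8, 18, 3, 17, 10, 11, 13, 6, 22, 23, 15, 16, 19, 9, 5, 14], [], [], [], [], [], [], [], [], [], [], [], [], [], [],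 [], [0, 1, 17, 8, 9, 15, 18, 7, 11, 22, 2, 3, 13, 23, 14, 19, 6, 10, 16, 5, 20, 21, 4, 12], [], [], [], [], [], [], [], [], [], [], [], [], [], [], [], [0, 1, 3, 11, 21, 16, 22, 8, 23, 6, 7, 2, 14, 10, 12, 20, 19, 13, 5, 4, 15, 18, 9, 17], [], [], [], [], [0, 1, 2, 23, 18, 5, 6, 11, 10, 19, 8, 7, 12, 13, 17, 15, 20, 14, 4, 9, 16, 22, 21, 3], [], [], [], [], [], [], [], [], [], [], [], [], [], [], [], [0, 1, 7, 10, 22, 4, 19, 23, 13, 20, 11, 8, 17, 14, 3, 16, 15, 12, 9, 21, 5, 6, 18, 2], [], [], [], [], [0, 1, 8, 13, 6, 9, 20, 10, 14, 15, 23, 11, 3, 12, 2, 5, 16, 17, 21, 18, 4, 19, 22, 7]],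
   [[], [], [], [], [], [], [], [], [0, 1, 8, 12, 15, 18, 20, 17, 13, 9, 14, 3, 10, 7, 11, 19, 4, 2, 6, 21, 22, 16, 5, 23], [], [], [], [], [], [], [], [], [], [], [], [], [0, 1, 11, 17, 16, 22, 15, 3, 14, 21, 12, 2, 13, 8, 23, 20, 9, 7, 19, 18, 6, 5, 4, 10], [], [0, 1, 23, 3, 5, 6, 16, 2, 12, 18, 17, 7, 14, 11, 10, 15, 21, 8, 20, 22, 19, 4, 9, 13], [], [], [], [], [], [], [], [], [], [], [], [], [0, 1, 10, 2, 4, 19, 5, 7, 17, 22, 3, 8, 12, 23, 13, 16, 18, 11, 15, 6, 20, 9, 21, 14], [], [], [], [], [], [], [], [], [], [], [], [], [0, 1, 13, 7, 9, 20, 4, 8, 3, 6, 2, 11, 17, 10, 14, 5, 22, 23, 16, 19, 15, 21, 18, 12], [], [], [], [], [], [], [], [], [], [], [], [], [0, 1, 14, 8, 21, 15, 9, 11, 2, 19, 7, 23, 3, 13, 12, 4, 6, 10, 5, 20, 16, 18, 22, 17], [], [], [], [], [], [], [],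 [], [], [], [], [], [0, 1, 12, 11, 18, 16, 21, 23, 7, 20, 8, 10, 2, 14, 17, 9, 19, 13, 4, 15, 5, 22, 6, 3], [], [0, 1, 17, 23, 22, 5, 18, 10, 8, 15, 11, 13, 7, 12, 3, 21, 20, 14, 9, 16, 4, 6, 19, 2], [], [], [], [], [], [], [], [], [], [], [], [], [0, 1, 3, 10, 6, 4, 22, 13, 11, 16, 23, 14, 8, 17, 2, 18, 15, 12, 21, 5, 9, 19, 20, 7], [], [], [], [], [], [], [], [], [], [], [], [], [0, 1, 2, 13, 19, 9, 6, 14, 23, 5, 10, 12, 11, 3, 7, 22, 16, 17, 18, 4, 21, 20, 15, 8], [], [], [], [], [], [], [], [], [], [], [], [], [0, 1, 7, 14, 20, 21, 19, 12, 10, 4, 13, 17, 23, 2, 8, 6, 5, 3, 22, 9, 18, 15, 16, 11]],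
   [[], [], [], [], [], [], [], [], [0, 1, 23, 13, 20, 6, 16, 7, 17, 22, 12, 2, 14, 11, 8, 15, 19, 10, 5, 18, 21, 9, 4, 3], [], [], [], [], [], [], [], [], [], [0, 1, 10, 14, 15, 19, 5, 8, 3, 6, 17, 7, 12, 23, 11, 16, 20, 13, 4, 22, 18, 21, 9, 2], [], [], [], [], [], [], [], [], [], [0, 1, 13, 12, 16, 20, 4, 11, 2, 19, 3, 8, 17, 10, 23, 5, 15, 14, 9, 6, 22, 18, 21, 7], [], [], [], [], [], [], [], [], [], [0, 1, 14, 17, 5, 15, 9, 23, 7, 20, 2, 11, 3, 13, 10, 4, 16, 12, 21, 19, 6, 22, 18, 8], [], [], [], [], [], [], [], [], [], [0, 1, 12, 3, 4, 16, 21, 10, 8, 15, 7, 23, 2, 14, 13, 9, 5, 17, 18, 20, 19, 6, 22, 11], [], [], [], [], [], [], [], [], [], [0, 1, 17, 2, 9, 5, 18, 13, 11, 16, 8, 10, 7, 12, 14, 21, 4, 3, 22, 15, 20, 19, 6, 23], [], [], [], [], [], [], [], [], [], [0, 1,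 3, 7, 21, 4, 22, 14, 23, 5, 11, 13, 8, 17, 12, 18, 9, 2, 6, 16, 15, 20, 19, 10], [], [], [], [], [], [], [], [], [], [0, 1, 2, 8, 18, 9, 6, 12, 10, 4, 23, 14, 11, 3, 17, 22, 21, 7, 19, 5, 16, 15, 20, 13], [], [], [], [], [], [], [], [], [], [0, 1, 7, 11, 22, 21, 19, 17, 13, 9, 10, 12, 23, 2, 3, 6, 18, 8, 20, 4, 5, 16, 15, 14], [], [], [], [], [], [], [], [], [], [], [], [], [], [], [], [], [], [], [], [], [0, 1, 8, 23, 6, 18, 20, 3, 14, 21, 13, 17, 10, 7, 2, 19, 22, 11, 15, 9, 4, 5, 16, 12], [], [], [], [], [], [], [], [], [], [0, 1, 11, 10, 19, 22, 15, 2, 12, 18, 14, 3, 13, 8, 7, 20, 6, 23, 16, 21, 9, 4, 5, 17]],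
   [[], [], [], [], [], [], [], [], [0, 1, 3, 17, 16, 5, 9, 11, 7, 21, 13, 10, 12, 8, 23, 20, 15, 14, 4, 6, 18, 22, 19, 2], [], [], [], [], [], [], [0, 1, 2, 3, 5, 4, 21, 23, 8, 18, 14, 13, 17, 11, 10, 15, 16, 12, 9, 19, 22, 6, 20, 7], [], [], [], [], [], [], [0, 1, 7, 2, 4, 9, 18, 10, 11, 22, 12, 14, 3, 23, 13, 16, 5, 17, 21, 20, 6, 19, 15, 8], [], [], [], [], [], [], [], [], [], [], [], [], [], [], [], [], [], [0, 1, 8, 7, 9, 21, 22, 13, 23, 6, 17, 12, 2, 10, 14, 5, 4, 3, 18, 15, 19, 20, 16, 11], [], [], [], [], [], [], [0, 1, 11, 8, 21, 18, 6, 14, 10, 19, 3, 17, 7, 13, 12, 4, 9, 2, 22, 16, 20, 15, 5, 23], [], [], [], [], [], [], [], [], [], [], [], [], [], [], [], [], [], [0, 1, 23, 11, 18, 22, 19, 12, 13, 20, 2, 3, 8, 14, 17, 9, 21, 7, 6, 5, 15, 16, 4, 10], [], [], [], [],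 [], [], [0, 1, 10, 23, 22, 6, 20, 17, 14, 15, 7, 2, 11, 12, 3, 21, 18, 8, 19, 4, 16, 5, 9, 13], [], [], [], [], [], [], [0, 1, 13, 10, 6, 19, 15, 3, 12, 16, 8, 7, 23, 17, 2, 18, 22, 11, 20, 9, 5, 4, 21, 14], [], [], [], [], [], [], [], [], [], [], [], [], [], [], [], [], [], [0, 1, 14, 13, 19, 20, 16, 2, 17, 5, 11, 8, 10, 3, 7, 22, 6, 23, 15, 21, 4, 9, 18, 12], [], [], [], [], [], [], [0, 1, 12, 14, 20, 15, 5, 7, 3, 4, 23, 11, 13, 2, 8, 6, 19, 10, 16, 18, 9, 21, 22, 17], [], [], [], [], [], [], [0, 1, 17, 12, 15, 16, 4, 8, 2, 9, 10, 23, 14, 7, 11, 19, 20, 13, 5, 22, 21, 18, 6, 3]],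
   [[], [], [], [], [], [], [], [], [0, 1, 2, 7, 9, 4, 22, 8, 11, 18, 17, 14, 13, 23, 3, 16, 20, 12, 19, 5, 6, 21, 15, 10], [], [], [], [0, 1, 7, 8, 21, 9, 6, 11, 23, 22, 3, 12, 14, 10, 2, 5, 15, 17, 20, 4, 19, 18, 16, 13], [], [], [], [], [], [], [], [], [], [], [], [], [], [], [0, 1, 8, 11, 18, 21, 19, 23, 10, 6, 2, 17, 12, 13, 7, 4, 16, 3, 15, 9, 20, 22, 5, 14], [], [], [], [], [], [], [], [], [], [], [], [], [], [], [0, 1, 11, 23, 22, 18, 20, 10, 13, 19, 7, 3, 17, 14, 8, 9, 5, 2, 16, 21, 15, 6, 4, 12], [], [], [], [0, 1, 23, 10, 6, 22, 15, 13, 14, 20, 8, 2, 3, 12, 11, 21, 4, 7, 5, 18, 16, 19, 9, 17], [], [], [], [], [], [], [], [], [], [], [], [], [], [], [0, 1, 10, 13, 19, 6, 16, 14, 12, 15, 11, 7, 2, 17, 23, 18, 9, 8, 4, 22, 5, 20, 21, 3], [], [], [], [], [], [], [], [],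 [], [], [], [], [], [], [0, 1, 13, 14, 20, 19, 5, 12, 17, 16, 23, 8, 7, 3, 10, 22, 21, 11, 9, 6, 4, 15, 18, 2], [], [], [], [0, 1, 14, 12, 15, 20, 4, 17, 3, 5, 10, 11, 8, 2, 13, 6, 18, 23, 21, 19, 9, 16, 22, 7], [], [], [], [], [], [], [], [], [], [], [], [], [], [], [0, 1, 12, 17, 16, 15, 9, 3, 2, 4, 13, 23, 11, 7, 14, 19, 22, 10, 18, 20, 21, 5, 6, 8], [], [], [], [0, 1, 17, 3, 5, 16, 21, 2, 7, 9, 14, 10, 23, 8, 12, 20, 6, 13, 22, 15, 18, 4, 19, 11], [], [], [], [], [], [], [], [], [], [], [], [], [], [], [0, 1, 3, 2, 4, 5, 18, 7, 8, 21, 12, 13, 10, 11, 17, 15, 19, 14, 6, 16, 22, 9, 20, 23]],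
   [[], [], [], [], [], [], [], [], [0, 1, 10, 11, 22, 19, 21, 23, 8, 6, 7, 12, 17, 3, 2, 9, 16, 13, 15, 4, 5, 18, 20, 14], [], [], [], [], [], [], [], [], [], [], [], [0, 1, 13, 23, 6, 20, 18, 10, 11, 19, 8, 17, 3, 2, 7, 21, 5, 14, 16, 9, 4, 22, 15, 12], [], [], [], [], [], [], [], [], [], [], [], [0, 1, 14, 10, 19, 15, 22, 13, 23, 20, 11, 3, 2, 7, 8, 18, 4, 12, 5, 21, 9, 6, 16, 17], [0, 1, 12, 13, 20, 16, 6, 14, 10, 15, 23, 2, 7, 8, 11, 22, 9, 17, 4, 18, 21, 19, 5, 3], [], [], [], [], [], [], [], [], [], [], [], [0, 1, 17, 14, 15, 5, 19, 12, 13, 16, 10, 7, 8, 11, 23, 6, 21, 3, 9, 22, 18, 20, 4, 2], [], [], [], [], [], [], [], [], [], [], [], [0, 1, 3, 12, 16, 4, 20, 17, 14, 5, 13, 8, 11, 23, 10, 19, 18, 2, 21, 6, 22, 15, 9, 7], [], [], [], [], [], [], [], [], [], [], [], [0,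 1, 2, 17, 5, 9, 15, 3, 12, 4, 14, 11, 23, 10, 13, 20, 22, 7, 18, 19, 6, 16, 21, 8], [], [], [], [], [], [], [], [], [], [], [], [0, 1, 7, 3, 4, 21, 16, 2, 17, 9, 12, 23, 10, 13, 14, 15, 6, 8, 22, 20, 19, 5, 18, 11], [], [], [], [], [], [], [], [], [], [], [], [0, 1, 8, 2, 9, 18, 5, 7, 3, 21, 17, 10, 13, 14, 12, 16, 19, 11, 6, 15, 20, 4, 22, 23], [], [], [], [], [], [], [], [], [], [], [], [0, 1, 11, 7, 21, 22, 4, 8, 2, 18, 3, 13, 14, 12, 17, 5, 20, 23, 19, 16, 15, 9, 6, 10], [], [], [], [], [], [], [], [], [], [], [], [0, 1, 23, 8, 18, 6, 9, 11, 7, 22, 2, 14, 12, 17, 3, 4, 15, 10, 20, 5, 16, 21, 19, 13]],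
   [[], [], [], [], [], [], [], [], [0, 1, 14, 8, 21, 15, 18, 3, 23, 5, 11, 13, 7, 2, 10, 22, 9, 17, 20, 19, 4, 6, 16, 12], [], [], [], [], [], [], [], [], [0, 1, 12, 11, 18, 16, 22, 2, 10, 4, 23, 14, 8, 7, 13, 6, 21, 3, 15, 20, 9, 19, 5, 17], [], [], [], [], [], [], [], [], [0, 1, 17, 23, 22, 5, 6, 7, 13, 9, 10, 12, 11, 8, 14, 19, 18, 2, 16, 15, 21, 20, 4, 3], [], [], [], [], [], [], [], [], [0, 1, 3, 10, 6, 4, 19, 8, 14, 21, 13, 17, 23, 11, 12, 20, 22, 7, 5, 16, 18, 15, 9, 2], [], [], [], [], [], [], [], [], [0, 1, 2, 13, 19, 9, 20, 11, 12, 18, 14, 3, 10, 23, 17, 15, 6, 8, 4, 5, 22, 16, 21, 7], [], [], [], [], [], [], [], [], [], [], [], [], [], [], [], [], [], [], [], [0, 1, 7, 14, 20, 21, 15, 23, 17, 22, 12, 2, 13, 10, 3, 16, 19, 11, 9, 4, 6, 5, 18, 8], [], [], [], [], [],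 [], [], [], [0, 1, 8, 12, 15, 18, 16, 10, 3, 6, 17, 7, 14, 13, 2, 5, 20, 23, 21, 9, 19, 4, 22, 11], [], [], [], [], [], [], [], [], [0, 1, 11, 17, 16, 22, 5, 13, 2, 19, 3, 8, 12, 14, 7, 4, 15, 10, 18, 21, 20, 9, 6, 23], [], [], [], [], [], [], [], [], [0, 1, 23, 3, 5, 6, 4, 14, 7, 20, 2, 11, 17, 12, 8, 9, 16, 13, 22, 18, 15, 21, 19, 10], [], [], [], [], [], [], [], [], [0, 1, 10, 2, 4, 19, 9, 12, 8, 15, 7, 23, 3, 17, 11, 21, 5, 14, 6, 22, 16, 18, 20, 13], [], [], [], [], [], [], [], [], [], [], [], [], [], [], [], [], [], [], [], [0, 1, 13, 7, 9, 20, 21, 17, 11, 16, 8, 10, 2, 3, 23, 18, 4, 12, 19, 6, 5, 22, 15, 14]],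
   [[], [], [], [], [], [], [], [], [0, 1, 12, 23, 18, 20, 6, 2, 3, 4, 8, 17, 11, 10, 14, 21, 22, 7, 16, 15, 19, 5, 9, 13], [], [], [], [], [], [0, 1, 17, 10, 22, 15, 19, 7, 2, 9, 11, 3, 23, 13, 12, 18, 6, 8, 5, 16, 20, 4, 21, 14], [], [], [], [], [], [], [], [], [], [], [], [], [], [], [], [], [0, 1, 3, 13, 6, 16, 20, 8, 7, 21, 23, 2, 10, 14, 17, 22, 19, 11, 4, 5, 15, 9, 18, 12], [], [], [], [], [], [0, 1, 2, 14, 19, 5, 15, 11, 8, 18, 10, 7, 13, 12, 3, 6, 20, 23, 9, 4, 16, 21, 22, 17], [], [], [], [], [], [], [], [], [], [], [], [], [], [], [], [], [0, 1, 7, 12, 20, 4, 16, 23, 11, 22, 13, 8, 14, 17, 2, 19, 15, 10, 21, 9, 5, 18, 6, 3], [], [], [], [], [], [0, 1, 8, 17, 15, 9, 5, 10, 23, 6, 14, 11, 12, 3, 7, 20, 16, 13, 18, 21, 4, 22, 19, 2], [], [], [], [], [], [0, 1, 11, 3, 16,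 21, 4, 13, 10, 19, 12, 23, 17, 2, 8, 15, 5, 14, 22, 18, 9, 6, 20, 7], [], [], [], [], [], [], [], [], [], [], [], [], [], [], [], [], [0, 1, 23, 2, 5, 18, 9, 14, 13, 20, 17, 10, 3, 7, 11, 16, 4, 12, 6, 22, 21, 19, 15, 8], [], [], [], [], [], [0, 1, 10, 7, 4, 22, 21, 12, 14, 15, 3, 13, 2, 8, 23, 5, 9, 17, 19, 6, 18, 20, 16, 11], [], [], [], [], [], [], [], [], [], [], [], [], [], [], [], [], [0, 1, 13, 8, 9, 6, 18, 17, 12, 16, 2, 14, 7, 11, 10, 4, 21, 3, 20, 19, 22, 15, 5, 23], [], [], [], [], [], [0, 1, 14, 11, 21, 19, 22, 3, 17, 5, 7, 12, 8, 23, 13, 9, 18, 2, 15, 20, 6, 16, 4, 10]],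
   [[], [], [], [], [], [], [], [], [0, 1, 13, 3, 6, 16, 5, 10, 2, 19, 23, 7, 8, 14, 12, 18, 21, 11, 9, 20, 15, 4, 22, 17], [], [], [0, 1, 14, 2, 19, 5, 4, 13, 7, 20, 10, 8, 11, 12, 17, 22, 18, 23, 21, 15, 16, 9, 6, 3], [], [], [], [], [], [], [], [], [], [], [], [], [], [0, 1, 12, 7, 20, 4, 9, 14, 8, 15, 13, 11, 23, 17, 3, 6, 22, 10, 18, 16, 5, 21, 19, 2], [], [], [], [], [], [], [], [], [], [], [], [], [], [0, 1, 17, 8, 15, 9, 21, 12, 11, 16, 14, 23, 10, 3, 2, 19, 6, 13, 22, 5, 4, 18, 20, 7], [], [], [], [], [], [], [], [], [], [], [], [], [], [0, 1, 3, 11, 16, 21, 18, 17, 23, 5, 12, 10, 13, 2, 7, 20, 19, 14, 6, 4, 9, 22, 15, 8], [], [], [0, 1, 2, 23, 5, 18, 22, 3, 10, 4, 17, 13, 14, 7, 8, 15, 20, 12, 19, 9, 21, 6, 16, 11], [], [], [], [], [], [], [], [], [], [], [], [], [],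 [0, 1, 7, 10, 4, 22, 6, 2, 13, 9, 3, 14, 12, 8, 11, 16, 15, 17, 20, 21, 18, 19, 5, 23], [], [], [], [], [], [], [], [], [], [], [], [], [], [0, 1, 8, 13, 9, 6, 19, 7, 14, 21, 2, 12, 17, 11, 23, 5, 16, 3, 15, 18, 22, 20, 4, 10], [], [], [], [], [], [], [], [], [], [], [], [], [], [0, 1, 11, 14, 21, 19, 20, 8, 12, 18, 7, 17, 3, 23, 10, 4, 5, 2, 16, 22, 6, 15, 9, 13], [], [], [0, 1, 23, 12, 18, 20, 15, 11, 17, 22, 8, 3, 2, 10, 13, 9, 4, 7, 5, 6, 19, 16, 21, 14], [], [], [], [], [], [], [], [], [], [], [], [], [], [0, 1, 10, 17, 22, 15, 16, 23, 3, 6, 11, 2, 7, 13, 14, 21, 9, 8, 4, 19, 20, 5, 18, 12]],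
   [[], [], [], [], [], [], [], [0, 1, 3, 10, 6, 4, 15, 23, 17, 5, 8, 11, 13, 14, 7, 9, 19, 2, 16, 21, 20, 22, 18, 12], [], [], [], [], [], [], [], [], [], [], [0, 1, 23, 3, 5, 6, 21, 17, 11, 22, 14, 12, 2, 7, 13, 19, 4, 10, 18, 20, 9, 16, 15, 8], [], [], [], [], [], [], [], [], [], [], [0, 1, 17, 23, 22, 5, 20, 11, 12, 16, 7, 8, 10, 13, 2, 4, 6, 3, 15, 9, 19, 18, 21, 14], [], [], [], [], [], [], [], [], [], [], [0, 1, 11, 17, 16, 22, 9, 12, 8, 18, 13, 14, 3, 2, 10, 6, 5, 23, 21, 19, 4, 15, 20, 7], [], [], [], [], [], [], [], [], [], [], [0, 1, 12, 11, 18, 16, 19, 8, 14, 15, 2, 7, 23, 10, 3, 5, 22, 17, 20, 4, 6, 21, 9, 13], [], [], [], [], [], [], [], [], [], [], [0, 1, 8, 12, 15, 18, 4, 14, 7, 21, 10, 13, 17, 3, 23, 22, 16, 11, 9, 6, 5, 20, 19, 2], [], [], [], [], [], [], [],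 [], [], [], [0, 1, 14, 8, 21, 15, 6, 7, 13, 20, 3, 2, 11, 23, 17, 16, 18, 12, 19, 5, 22, 9, 4, 10], [], [], [], [], [], [], [], [], [], [], [0, 1, 7, 14, 20, 21, 5, 13, 2, 9, 23, 10, 12, 17, 11, 18, 15, 8, 4, 22, 16, 19, 6, 3], [], [], [], [], [], [], [], [], [], [], [0, 1, 13, 7, 9, 20, 22, 2, 10, 19, 17, 3, 8, 11, 12, 15, 21, 14, 6, 16, 18, 4, 5, 23], [], [], [], [], [], [], [], [], [], [], [0, 1, 2, 13, 19, 9, 16, 10, 3, 4, 11, 23, 14, 12, 8, 21, 20, 7, 5, 18, 15, 6, 22, 17], [], [], [], [], [], [], [], [], [], [], [0, 1, 10, 2, 4, 19, 18, 3, 23, 6, 12, 17, 7, 8, 14, 20, 9, 13, 22, 15, 21, 5, 16, 11]],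
   [[], [], [], [], [], [], [], [0, 1, 8, 3, 21, 6, 4, 11, 12, 18, 7, 17, 14, 2, 13, 20, 5, 23, 15, 9, 19, 16, 22, 10], [], [], [], [], [], [], [0, 1, 14, 23, 20, 5, 6, 12, 8, 15, 13, 11, 7, 10, 2, 9, 22, 17, 21, 19, 4, 18, 16, 3], [], [], [], [], [], [], [], [], [], [], [], [], [], [], [], [], [], [0, 1, 7, 17, 9, 22, 5, 8, 14, 21, 2, 12, 13, 3, 10, 19, 16, 11, 20, 4, 6, 15, 18, 23], [], [], [], [], [], [], [0, 1, 13, 11, 19, 16, 22, 14, 7, 20, 10, 8, 2, 23, 3, 4, 18, 12, 9, 6, 5, 21, 15, 17], [], [], [], [], [], [], [0, 1, 2, 12, 4, 18, 16, 7, 13, 9, 3, 14, 10, 17, 23, 6, 15, 8, 19, 5, 22, 20, 21, 11], [], [], [], [], [], [], [], [], [], [], [], [], [], [], [], [], [], [0, 1, 10, 8, 6, 15, 18, 13, 2, 19, 23, 7, 3, 11, 17, 5, 21, 14, 4, 22, 16, 9, 20, 12], [], [], [], [], [],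 [], [0, 1, 3, 14, 5, 21, 15, 2, 10, 4, 17, 13, 23, 12, 11, 22, 20, 7, 6, 16, 18, 19, 9, 8], [], [], [], [], [], [], [0, 1, 23, 7, 22, 20, 21, 10, 3, 6, 11, 2, 17, 8, 12, 16, 9, 13, 5, 18, 15, 4, 19, 14], [], [], [], [], [], [], [], [], [], [], [], [], [], [], [], [], [], [0, 1, 17, 13, 16, 9, 20, 3, 23, 5, 12, 10, 11, 14, 8, 18, 19, 2, 22, 15, 21, 6, 4, 7], [], [], [], [], [], [], [0, 1, 11, 2, 18, 19, 9, 23, 17, 22, 8, 3, 12, 7, 14, 15, 4, 10, 16, 21, 20, 5, 6, 13], [], [], [], [], [], [], [0, 1, 12, 10, 15, 4, 19, 17, 11, 16, 14, 23, 8, 13, 7, 21, 6, 3, 18, 20, 9, 22, 5, 2]],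
   [[], [], [], [], [], [], [], [0, 1, 7, 8, 9, 21, 6, 17, 10, 22, 13, 12, 2, 23, 14, 19, 18, 11, 4, 20, 5, 15, 16, 3], [], [], [], [], [], [], [], [], [], [], [], [], [], [0, 1, 13, 14, 19, 20, 5, 11, 3, 16, 2, 8, 10, 17, 7, 4, 15, 12, 6, 9, 22, 21, 18, 23], [], [], [0, 1, 2, 7, 4, 9, 22, 12, 23, 18, 10, 14, 3, 11, 13, 6, 21, 8, 5, 19, 16, 20, 15, 17], [], [], [], [], [], [], [], [], [], [], [], [], [], [0, 1, 10, 13, 6, 19, 16, 8, 17, 15, 3, 7, 23, 12, 2, 5, 20, 14, 22, 4, 18, 9, 21, 11], [], [], [], [], [], [], [], [], [], [], [], [], [], [0, 1, 3, 2, 5, 4, 18, 14, 11, 21, 23, 13, 17, 8, 10, 22, 9, 7, 16, 6, 15, 19, 20, 12], [], [], [0, 1, 23, 10, 22, 6, 15, 7, 12, 20, 17, 2, 11, 14, 3, 16, 19, 13, 18, 5, 21, 4, 9, 8], [], [], [], [], [], [], [], [], [], [], [], [], [], [0,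 1, 17, 3, 16, 5, 21, 13, 8, 9, 11, 10, 12, 7, 23, 18, 4, 2, 15, 22, 20, 6, 19, 14], [], [], [], [], [], [], [], [], [], [], [], [], [], [0, 1, 11, 23, 18, 22, 20, 2, 14, 19, 12, 3, 8, 13, 17, 15, 6, 10, 21, 16, 9, 5, 4, 7], [], [], [], [], [], [], [], [], [], [], [], [], [], [0, 1, 12, 17, 15, 16, 9, 10, 7, 4, 8, 23, 14, 2, 11, 21, 5, 3, 20, 18, 19, 22, 6, 13], [], [], [0, 1, 8, 11, 21, 18, 19, 3, 13, 6, 14, 17, 7, 10, 12, 20, 22, 23, 9, 15, 4, 16, 5, 2], [], [], [], [], [], [], [], [], [], [], [], [], [], [0, 1, 14, 12, 20, 15, 4, 23, 2, 5, 7, 11, 13, 3, 8, 9, 16, 17, 19, 21, 6, 18, 22, 10]],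
   [[], [], [], [], [], [], [], [0, 1, 13, 7, 20, 9, 21, 12, 3, 16, 14, 10, 23, 11, 2, 5, 22, 17, 6, 19, 18, 4, 15, 8], [], [], [], [], [], [], [], [], [], [0, 1, 2, 13, 9, 19, 20, 8, 23, 18, 7, 3, 17, 12, 10, 22, 16, 11, 5, 4, 15, 6, 21, 14], [], [], [], [], [], [], [], [], [], [0, 1, 10, 2, 19, 4, 9, 14, 17, 15, 13, 23, 11, 8, 3, 16, 18, 12, 22, 6, 21, 5, 20, 7], [], [], [], [], [], [], [], [], [], [0, 1, 3, 10, 4, 6, 19, 7, 11, 21, 2, 17, 12, 14, 23, 18, 15, 8, 16, 5, 20, 22, 9, 13], [], [], [], [], [], [], [], [], [], [0, 1, 23, 3, 6, 5, 4, 13, 12, 20, 10, 11, 8, 7, 17, 15, 21, 14, 18, 22, 9, 16, 19, 2], [], [], [], [], [], [], [], [], [], [0, 1, 17, 23, 5, 22, 6, 2, 8, 9, 3, 12, 14, 13, 11, 21, 20, 7, 15, 16, 19, 18, 4, 10], [], [], [], [], [], [], [], [], [], [0, 1, 11,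 17, 22, 16, 5, 10, 14, 19, 23, 8, 7, 2, 12, 20, 9, 13, 21, 18, 4, 15, 6, 3], [], [], [], [], [], [], [], [], [], [0, 1, 12, 11, 16, 18, 22, 3, 7, 4, 17, 14, 13, 10, 8, 9, 19, 2, 20, 15, 6, 21, 5, 23], [], [], [], [], [], [], [], [], [], [], [], [], [], [], [], [], [], [], [], [], [0, 1, 8, 12, 18, 15, 16, 23, 13, 6, 11, 7, 2, 3, 14, 19, 4, 10, 9, 21, 5, 20, 22, 17], [], [], [], [], [], [], [], [], [], [0, 1, 14, 8, 15, 21, 18, 17, 2, 5, 12, 13, 10, 23, 7, 4, 6, 3, 19, 20, 22, 9, 16, 11], [], [], [], [], [], [], [], [], [], [0, 1, 7, 14, 21, 20, 15, 11, 10, 22, 8, 2, 3, 17, 13, 6, 5, 23, 4, 9, 16, 19, 18, 12]],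
   [[], [], [], [], [], [], [], [0, 1, 14, 13, 19, 20, 9, 10, 8, 15, 2, 3, 11, 17, 23, 18, 16, 12, 21, 5, 22, 6, 4, 7], [], [], [], [], [], [0, 1, 7, 2, 4, 9, 19, 3, 14, 21, 10, 23, 12, 11, 17, 15, 18, 8, 20, 22, 16, 5, 6, 13], [], [], [], [], [], [], [], [], [], [], [], [], [], [], [], [], [0, 1, 13, 10, 6, 19, 4, 23, 7, 20, 3, 17, 8, 12, 11, 21, 15, 14, 9, 16, 18, 22, 5, 2], [], [], [], [], [], [0, 1, 2, 3, 5, 4, 6, 17, 13, 9, 23, 11, 14, 8, 12, 20, 21, 7, 19, 18, 15, 16, 22, 10], [], [], [], [], [], [], [], [], [], [], [], [], [], [], [], [], [0, 1, 10, 23, 22, 6, 5, 11, 2, 19, 17, 12, 7, 14, 8, 9, 20, 13, 4, 15, 21, 18, 16, 3], [], [], [], [], [], [0, 1, 3, 17, 16, 5, 22, 12, 10, 4, 11, 8, 13, 7, 14, 19, 9, 2, 6, 21, 20, 15, 18, 23], [], [], [], [], [], [], [], [], [], [],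 [], [], [], [], [], [], [0, 1, 23, 11, 18, 22, 16, 8, 3, 6, 12, 14, 2, 13, 7, 4, 19, 10, 5, 20, 9, 21, 15, 17], [], [], [], [], [], [0, 1, 17, 12, 15, 16, 18, 14, 23, 5, 8, 7, 10, 2, 13, 6, 4, 3, 22, 9, 19, 20, 21, 11], [], [], [], [], [], [0, 1, 11, 8, 21, 18, 15, 7, 17, 22, 14, 13, 3, 10, 2, 5, 6, 23, 16, 19, 4, 9, 20, 12], [], [], [], [], [], [], [], [], [], [], [], [], [], [], [], [], [0, 1, 12, 14, 20, 15, 21, 13, 11, 16, 7, 2, 23, 3, 10, 22, 5, 17, 18, 4, 6, 19, 9, 8], [], [], [], [], [], [0, 1, 8, 7, 9, 21, 20, 2, 12, 18, 13, 10, 17, 23, 3, 16, 22, 11, 15, 6, 5, 4, 19, 14]],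
   [[], [], [], [], [], [], [], [0, 1, 2, 14, 5, 19, 20, 3, 7, 4, 23, 8, 17, 12, 11, 22, 15, 10, 9, 18, 16, 21, 6, 13], [], [], [], [], [], [], [], [], [], [], [], [], [0, 1, 10, 7, 22, 4, 9, 23, 13, 6, 17, 14, 11, 8, 12, 16, 21, 3, 19, 15, 18, 20, 5, 2], [], [0, 1, 3, 13, 16, 6, 19, 17, 2, 5, 11, 7, 12, 14, 8, 18, 20, 23, 4, 21, 15, 9, 22, 10], [], [], [], [], [], [], [], [], [], [], [], [], [0, 1, 23, 2, 18, 5, 4, 11, 10, 22, 12, 13, 8, 7, 14, 15, 9, 17, 6, 20, 21, 19, 16, 3], [], [], [], [], [], [], [], [], [], [], [], [], [0, 1, 17, 10, 15, 22, 6, 12, 3, 16, 8, 2, 14, 13, 7, 21, 19, 11, 5, 9, 20, 4, 18, 23], [], [], [], [], [], [], [], [], [], [], [], [], [0, 1, 11, 3, 21, 16, 5, 8, 23, 18, 14, 10, 7, 2, 13, 20, 4, 12, 22, 19, 9, 6, 15, 17], [], [], [], [], [], [], [], [],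 [], [], [], [], [0, 1, 12, 23, 20, 18, 22, 14, 17, 15, 7, 3, 13, 10, 2, 9, 6, 8, 16, 4, 19, 5, 21, 11], [], [], [], [], [], [], [], [], [], [], [], [], [0, 1, 8, 17, 9, 15, 16, 7, 11, 21, 13, 23, 2, 3, 10, 19, 5, 14, 18, 6, 4, 22, 20, 12], [], [0, 1, 14, 11, 19, 21, 18, 13, 12, 20, 2, 17, 10, 23, 3, 4, 22, 7, 15, 5, 6, 16, 9, 8], [], [], [], [], [], [], [], [], [], [], [], [], [0, 1, 7, 12, 4, 20, 15, 2, 8, 9, 10, 11, 3, 17, 23, 6, 16, 13, 21, 22, 5, 18, 19, 14], [], [], [], [], [], [], [], [], [], [], [], [], [0, 1, 13, 8, 6, 9, 21, 10, 14, 19, 3, 12, 23, 11, 17, 5, 18, 2, 20, 16, 22, 15, 4, 7]],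
   [[], [], [], [], [], [], [], [0, 1, 23, 2, 18, 5, 19, 8, 13, 6, 11, 7, 12, 10, 17, 16, 4, 3, 20, 22, 15, 9, 21, 14], [], [], [], [], [], [], [], [], [0, 1, 17, 10, 15, 22, 4, 14, 2, 5, 12, 13, 8, 3, 11, 18, 6, 23, 9, 16, 21, 19, 20, 7], [], [], [], [], [], [], [], [], [0, 1, 11, 3, 21, 16, 6, 7, 10, 22, 8, 2, 14, 23, 12, 15, 5, 17, 19, 18, 20, 4, 9, 13], [], [], [], [], [], [], [], [], [0, 1, 12, 23, 20, 18, 5, 13, 3, 16, 14, 10, 7, 17, 8, 21, 22, 11, 4, 15, 9, 6, 19, 2], [], [], [], [], [], [], [], [], [], [], [], [], [], [], [], [], [], [], [], [0, 1, 8, 17, 9, 15, 22, 2, 23, 18, 7, 3, 13, 11, 14, 20, 16, 12, 6, 21, 19, 5, 4, 10], [], [], [], [], [], [], [], [], [0, 1, 14, 11, 19, 21, 16, 10, 17, 15, 13, 23, 2, 12, 7, 9, 18, 8, 5, 20, 4, 22, 6, 3], [], [], [], [], [], [],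 [], [], [0, 1, 7, 12, 4, 20, 18, 3, 11, 21, 2, 17, 10, 8, 13, 19, 15, 14, 22, 9, 6, 16, 5, 23], [], [], [], [], [], [], [], [], [0, 1, 13, 8, 6, 9, 15, 23, 12, 20, 10, 11, 3, 14, 2, 4, 21, 7, 16, 19, 5, 18, 22, 17], [], [], [], [], [], [], [], [], [0, 1, 2, 14, 5, 19, 21, 17, 8, 9, 3, 12, 23, 7, 10, 6, 20, 13, 18, 4, 22, 15, 16, 11], [], [], [], [], [], [], [], [], [0, 1, 10, 7, 22, 4, 20, 11, 14, 19, 23, 8, 17, 13, 3, 5, 9, 2, 15, 6, 16, 21, 18, 12], [], [], [], [], [], [], [], [], [], [], [], [], [], [], [], [], [], [], [], [0, 1, 3, 13, 16, 6, 9, 12, 7, 4, 17, 14, 11, 2, 23, 22, 19, 10, 21, 5, 18, 20, 15, 8]],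
   [[], [], [], [], [], [], [], [0, 1, 11, 23, 22, 18, 5, 7, 14, 21, 17, 13, 10, 3, 12, 15, 6, 8, 19, 16, 4, 20, 9, 2], [], [], [], [], [0, 1, 12, 17, 16, 15, 22, 13, 7, 20, 11, 2, 3, 23, 8, 21, 5, 14, 4, 18, 6, 9, 19, 10], [], [], [], [], [], [], [], [], [], [], [], [], [], [], [], [0, 1, 8, 11, 18, 21, 16, 2, 13, 9, 12, 10, 23, 17, 14, 20, 22, 7, 6, 15, 5, 19, 4, 3], [], [], [], [], [0, 1, 14, 12, 15, 20, 18, 10, 2, 19, 8, 3, 17, 11, 7, 9, 16, 13, 5, 21, 22, 4, 6, 23], [], [], [], [], [], [], [], [], [], [], [], [], [], [], [], [0, 1, 7, 8, 21, 9, 15, 3, 10, 4, 14, 23, 11, 12, 13, 19, 18, 2, 22, 20, 16, 6, 5, 17], [], [], [], [], [], [], [], [], [], [], [], [], [], [], [], [0, 1, 13, 14, 20, 19, 21, 23, 3, 6, 7, 17, 12, 8, 2, 4, 15, 10, 16, 9, 18, 5, 22, 11], [], [], [], [],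 [0, 1, 2, 7, 9, 4, 20, 17, 23, 5, 13, 11, 8, 14, 10, 6, 21, 3, 18, 19, 15, 22, 16, 12], [], [], [], [], [], [], [], [], [], [], [], [], [], [], [], [0, 1, 10, 13, 19, 6, 9, 11, 17, 22, 2, 12, 14, 7, 3, 5, 20, 23, 15, 4, 21, 16, 18, 8], [], [], [], [], [0, 1, 3, 2, 4, 5, 19, 12, 11, 16, 10, 8, 7, 13, 23, 22, 9, 17, 21, 6, 20, 18, 15, 14], [], [], [], [], [], [], [], [], [], [], [], [], [], [], [], [0, 1, 23, 10, 6, 22, 4, 8, 12, 18, 3, 14, 13, 2, 17, 16, 19, 11, 20, 5, 9, 15, 21, 7], [], [], [], [], [0, 1, 17, 3, 5, 16, 6, 14, 8, 15, 23, 7, 2, 10, 11, 18, 4, 12, 9, 22, 19, 21, 20, 13]],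
   [[], [], [], [], [], [], [], [0, 1, 17, 11, 16, 22, 18, 13, 2, 9, 12, 14, 3, 8, 10, 4, 21, 7, 5, 15, 6, 19, 20, 23], [], [], [], [], [], [], [], [], [], [], [], [0, 1, 11, 12, 18, 16, 15, 2, 10, 19, 8, 7, 23, 14, 3, 6, 20, 13, 22, 21, 5, 4, 9, 17], [], [], [], [], [], [], [], [], [], [], [], [0, 1, 12, 8, 15, 18, 21, 10, 3, 4, 14, 13, 17, 7, 23, 5, 9, 2, 16, 20, 22, 6, 19, 11], [], [], [], [], [], [], [], [], [], [], [], [0, 1, 8, 14, 21, 15, 20, 3, 23, 6, 7, 2, 11, 13, 17, 22, 19, 10, 18, 9, 16, 5, 4, 12], [0, 1, 14, 7, 20, 21, 9, 23, 17, 5, 13, 10, 12, 2, 11, 16, 4, 3, 15, 19, 18, 22, 6, 8], [], [], [], [], [], [], [], [], [], [], [], [0, 1, 7, 13, 9, 20, 19, 17, 11, 22, 2, 3, 8, 10, 12, 18, 6, 23, 21, 4, 15, 16, 5, 14], [], [], [], [], [], [], [], [], [], [], [], [0, 1,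 13, 2, 19, 9, 4, 11, 12, 16, 10, 23, 14, 3, 8, 15, 5, 17, 20, 6, 21, 18, 22, 7], [], [], [], [], [], [], [], [], [], [], [], [0, 1, 2, 10, 4, 19, 6, 12, 8, 18, 3, 17, 7, 23, 14, 21, 22, 11, 9, 5, 20, 15, 16, 13], [], [], [], [], [], [], [], [], [], [], [], [0, 1, 10, 3, 6, 4, 5, 8, 14, 15, 23, 11, 13, 17, 7, 20, 16, 12, 19, 22, 9, 21, 18, 2], [], [], [], [], [], [], [], [], [], [], [], [0, 1, 3, 23, 5, 6, 22, 14, 7, 21, 17, 12, 2, 11, 13, 9, 18, 8, 4, 16, 19, 20, 15, 10], [], [], [], [], [], [], [], [], [], [], [], [0, 1, 23, 17, 22, 5, 16, 7, 13, 20, 11, 8, 10, 12, 2, 19, 15, 14, 6, 18, 4, 9, 21, 3]],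
   [[], [], [], [], [], [], [], [0, 1, 12, 17, 15, 16, 22, 14, 23, 20, 10, 2, 8, 7, 3, 6, 9, 13, 18, 4, 21, 5, 19, 11], [], [], [], [], [], [], [], [0, 1, 8, 11, 21, 18, 16, 7, 17, 9, 3, 10, 14, 13, 23, 5, 19, 2, 15, 6, 20, 22, 4, 12], [], [], [], [], [], [], [], [0, 1, 14, 12, 20, 15, 18, 13, 11, 19, 23, 3, 7, 2, 17, 22, 4, 10, 21, 5, 9, 16, 6, 8], [], [], [], [], [], [], [], [], [], [], [], [], [], [], [], [], [], [], [0, 1, 7, 8, 9, 21, 15, 2, 12, 4, 17, 23, 13, 10, 11, 16, 6, 3, 20, 22, 19, 18, 5, 14], [], [], [], [], [], [], [], [0, 1, 13, 14, 19, 20, 21, 10, 8, 6, 11, 17, 2, 3, 12, 18, 5, 23, 9, 16, 4, 15, 22, 7], [], [], [], [], [], [], [], [0, 1, 2, 7, 4, 9, 20, 3, 14, 5, 12, 11, 10, 23, 8, 15, 22, 17, 19, 18, 6, 21, 16, 13], [], [], [], [], [], [], [], [0, 1, 10, 13,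 6, 19, 9, 23, 7, 22, 8, 12, 3, 17, 14, 21, 16, 11, 4, 15, 5, 20, 18, 2], [], [], [], [], [], [], [], [], [], [], [], [], [], [], [], [], [], [], [0, 1, 3, 2, 5, 4, 19, 17, 13, 16, 14, 8, 23, 11, 7, 20, 18, 12, 6, 21, 22, 9, 15, 10], [], [], [], [], [], [], [], [0, 1, 23, 10, 22, 6, 4, 11, 2, 18, 7, 14, 17, 12, 13, 9, 15, 8, 5, 20, 16, 19, 21, 3], [], [], [], [], [], [], [], [0, 1, 17, 3, 16, 5, 6, 12, 10, 15, 13, 7, 11, 8, 2, 19, 21, 14, 22, 9, 18, 4, 20, 23], [], [], [], [], [], [], [], [], [], [], [], [], [], [], [], [], [], [], [0, 1, 11, 23, 18, 22, 5, 8, 3, 21, 2, 13, 12, 14, 10, 4, 20, 7, 16, 19, 15, 6, 9, 17]],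
   [[], [], [], [], [], [], [], [0, 1, 10, 12, 4, 15, 16, 2, 11, 19, 3, 23, 7, 13, 8, 21, 20, 14, 22, 6, 9, 18, 5, 17], [], [], [], [0, 1, 3, 8, 6, 21, 18, 10, 12, 4, 23, 17, 13, 2, 14, 20, 9, 7, 16, 5, 19, 15, 22, 11], [], [], [], [], [], [], [], [], [], [], [], [], [], [], [0, 1, 23, 14, 5, 20, 15, 3, 8, 6, 17, 11, 2, 10, 7, 9, 19, 13, 18, 22, 4, 21, 16, 12], [], [], [], [], [], [], [], [], [], [], [], [], [], [], [0, 1, 17, 7, 22, 9, 21, 23, 14, 5, 11, 12, 10, 3, 13, 19, 4, 2, 15, 16, 6, 20, 18, 8], [], [], [], [0, 1, 11, 13, 16, 19, 20, 17, 7, 22, 12, 8, 3, 23, 2, 4, 6, 10, 21, 18, 5, 9, 15, 14], [], [], [], [], [], [], [], [], [], [], [], [], [], [], [0, 1, 12, 2, 18, 4, 9, 11, 13, 16, 8, 14, 23, 17, 10, 6, 5, 3, 20, 15, 22, 19, 21, 7], [], [], [], [], [], [], [], [], [],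 [], [], [], [], [], [0, 1, 8, 10, 15, 6, 19, 12, 2, 18, 14, 7, 17, 11, 3, 5, 22, 23, 9, 21, 16, 4, 20, 13], [], [], [], [0, 1, 14, 3, 21, 5, 4, 8, 10, 15, 7, 13, 11, 12, 23, 22, 16, 17, 19, 20, 18, 6, 9, 2], [], [], [], [], [], [], [], [], [], [], [], [], [], [], [0, 1, 7, 23, 20, 22, 6, 14, 3, 21, 13, 2, 12, 8, 17, 16, 18, 11, 4, 9, 15, 5, 19, 10], [], [], [], [], [], [], [], [], [], [], [], [], [], [], [0, 1, 13, 17, 9, 16, 5, 7, 23, 20, 2, 10, 8, 14, 11, 18, 15, 12, 6, 19, 21, 22, 4, 3], [], [], [], [0, 1, 2, 11, 19, 18, 22, 13, 17, 9, 10, 3, 14, 7, 12, 15, 21, 8, 5, 4, 20, 16, 6, 23]],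
   [[], [], [], [], [], [0, 1, 10, 8, 15, 6, 9, 12, 2, 4, 17, 11, 14, 7, 23, 5, 21, 3, 19, 22, 20, 18, 16, 13], [], [], [], [], [], [], [], [], [], [], [0, 1, 14, 23, 5, 20, 18, 3, 8, 21, 2, 10, 17, 11, 13, 9, 22, 7, 15, 19, 16, 6, 4, 12], [], [], [], [], [], [], [], [], [], [], [0, 1, 17, 13, 9, 16, 6, 7, 23, 22, 8, 14, 2, 10, 12, 18, 19, 11, 5, 15, 4, 20, 21, 3], [], [], [], [], [], [], [], [], [], [], [0, 1, 2, 12, 18, 4, 20, 11, 13, 19, 23, 17, 8, 14, 3, 6, 15, 10, 9, 5, 21, 16, 22, 7], [], [], [], [], [], [], [], [], [], [], [0, 1, 8, 3, 6, 21, 16, 10, 12, 15, 13, 2, 23, 17, 7, 20, 5, 14, 18, 9, 22, 4, 19, 11], [], [], [], [], [], [], [], [], [], [], [0, 1, 23, 7, 20, 22, 4, 14, 3, 5, 12, 8, 13, 2, 11, 16, 9, 17, 6, 18, 19, 21, 15, 10], [], [], [], [], [], [], [], [], [],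 [], [0, 1, 13, 11, 16, 19, 21, 17, 7, 9, 3, 23, 12, 8, 10, 4, 18, 2, 20, 6, 15, 22, 5, 14], [], [], [], [], [], [], [], [], [], [], [0, 1, 12, 10, 4, 15, 22, 2, 11, 18, 7, 13, 3, 23, 14, 21, 6, 8, 16, 20, 5, 19, 9, 17], [], [], [], [], [], [], [], [], [], [], [0, 1, 3, 14, 21, 5, 19, 8, 10, 6, 11, 12, 7, 13, 17, 22, 20, 23, 4, 16, 9, 15, 18, 2], [], [], [], [], [], [], [], [], [], [], [0, 1, 7, 17, 22, 9, 15, 23, 14, 20, 10, 3, 11, 12, 2, 19, 16, 13, 21, 4, 18, 5, 6, 8], [], [], [], [], [], [], [], [], [], [], [0, 1, 11, 2, 19, 18, 5, 13, 17, 16, 14, 7, 10, 3, 8, 15, 4, 12, 22, 21, 6, 9, 20, 23]],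
   [[], [], [], [], [], [0, 1, 11, 12, 18, 16, 4, 23, 7, 22, 2, 14, 8, 10, 13, 9, 15, 17, 21, 19, 6, 20, 5, 3], [], [], [], [], [], [], [], [], [], [], [], [], [], [], [], [0, 1, 10, 3, 6, 4, 21, 13, 11, 19, 8, 17, 23, 14, 12, 18, 5, 2, 22, 15, 20, 16, 9, 7], [], [], [], [], [0, 1, 14, 7, 20, 21, 22, 12, 10, 15, 23, 2, 13, 17, 3, 6, 9, 8, 19, 5, 16, 4, 18, 11], [], [], [], [], [], [], [], [], [], [], [], [], [], [], [], [0, 1, 17, 11, 16, 22, 19, 3, 14, 5, 13, 8, 12, 2, 7, 20, 18, 23, 15, 9, 4, 21, 6, 10], [], [], [], [], [0, 1, 2, 10, 4, 19, 15, 7, 17, 9, 12, 23, 3, 8, 11, 16, 6, 13, 5, 18, 21, 22, 20, 14], [], [], [], [], [], [], [], [], [], [], [], [], [], [], [], [0, 1, 8, 14, 21, 15, 5, 11, 2, 18, 3, 13, 7, 23, 10, 4, 20, 12, 9, 6, 22, 19, 16, 17], [], [], [], [], [0, 1,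 23, 17, 22, 5, 9, 10, 8, 6, 7, 12, 11, 13, 14, 21, 16, 3, 18, 20, 19, 15, 4, 2], [], [], [], [], [], [], [], [], [], [], [], [], [], [], [], [0, 1, 13, 2, 19, 9, 18, 14, 23, 20, 11, 3, 10, 12, 17, 22, 4, 7, 6, 16, 15, 5, 21, 8], [], [], [], [], [0, 1, 12, 8, 15, 18, 6, 17, 13, 16, 10, 7, 14, 3, 2, 19, 21, 11, 20, 4, 5, 9, 22, 23], [], [], [], [], [], [], [], [], [], [], [], [], [], [], [], [0, 1, 3, 23, 5, 6, 20, 2, 12, 4, 14, 11, 17, 7, 8, 15, 22, 10, 16, 21, 9, 18, 19, 13], [], [], [], [], [0, 1, 7, 13, 9, 20, 16, 8, 3, 21, 17, 10, 2, 11, 23, 5, 19, 14, 4, 22, 18, 6, 15, 12]],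
   [[], [], [], [], [], [0, 1, 14, 23, 20, 5, 22, 13, 10, 19, 7, 8, 12, 11, 3, 4, 18, 2, 15, 21, 16, 6, 9, 17], [], [], [], [], [], [], [], [], [], [0, 1, 17, 13, 16, 9, 19, 12, 14, 15, 11, 23, 3, 10, 7, 21, 6, 8, 5, 22, 4, 20, 18, 2], [], [], [], [], [], [], [], [], [], [0, 1, 2, 12, 4, 18, 15, 3, 17, 5, 10, 13, 7, 14, 11, 22, 20, 23, 9, 19, 21, 16, 6, 8], [], [], [], [], [], [], [], [], [], [0, 1, 8, 3, 21, 6, 5, 7, 2, 9, 14, 12, 11, 17, 10, 19, 16, 13, 18, 15, 22, 4, 20, 23], [], [], [], [], [], [], [], [], [], [0, 1, 23, 7, 22, 20, 9, 11, 8, 18, 17, 3, 10, 2, 14, 15, 4, 12, 6, 5, 19, 21, 16, 13], [], [], [], [], [], [], [], [], [], [0, 1, 13, 11, 19, 16, 18, 10, 23, 6, 2, 7, 14, 8, 17, 5, 21, 3, 20, 9, 15, 22, 4, 12], [], [], [], [], [], [], [], [], [], [], [], [], [], [],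 [], [], [], [], [], [], [0, 1, 12, 10, 15, 4, 6, 14, 13, 20, 8, 11, 17, 23, 2, 9, 22, 7, 16, 18, 5, 19, 21, 3], [], [], [], [], [], [], [], [], [], [0, 1, 3, 14, 5, 21, 20, 17, 12, 16, 23, 10, 2, 13, 8, 18, 19, 11, 4, 6, 9, 15, 22, 7], [], [], [], [], [], [], [], [], [], [0, 1, 7, 17, 9, 22, 16, 2, 3, 4, 13, 14, 8, 12, 23, 6, 15, 10, 21, 20, 18, 5, 19, 11], [], [], [], [], [], [], [], [], [], [0, 1, 11, 2, 18, 19, 4, 8, 7, 21, 12, 17, 23, 3, 13, 20, 5, 14, 22, 16, 6, 9, 15, 10], [], [], [], [], [], [], [], [], [], [0, 1, 10, 8, 6, 15, 21, 23, 11, 22, 3, 2, 13, 7, 12, 16, 9, 17, 19, 4, 20, 18, 5, 14]],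
   [[], [], [], [], [], [0, 1, 8, 13, 6, 9, 19, 3, 11, 21, 10, 12, 23, 14, 17, 22, 20, 7, 18, 15, 5, 16, 4, 2], [], [], [], [], [], [], [], [], [], [], [], [], [], [], [0, 1, 23, 12, 20, 18, 15, 7, 10, 22, 14, 3, 13, 17, 2, 19, 16, 11, 6, 5, 9, 4, 21, 8], [], [], [], [0, 1, 13, 3, 16, 6, 5, 11, 14, 19, 17, 7, 12, 2, 8, 15, 4, 10, 20, 9, 18, 21, 22, 23], [], [], [], [], [], [], [], [], [], [], [], [], [], [], [0, 1, 12, 7, 4, 20, 9, 10, 17, 15, 2, 11, 3, 8, 23, 5, 21, 14, 16, 18, 6, 22, 19, 13], [], [], [], [], [], [], [], [], [], [], [], [], [], [], [0, 1, 3, 11, 21, 16, 18, 14, 2, 5, 8, 10, 7, 23, 13, 9, 22, 17, 4, 6, 20, 19, 15, 12], [], [], [], [0, 1, 7, 10, 22, 4, 6, 17, 8, 9, 23, 14, 11, 13, 12, 18, 19, 2, 21, 20, 16, 15, 5, 3], [], [], [], [], [], [], [], [], [], [], [],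 [], [], [], [0, 1, 11, 14, 19, 21, 20, 2, 23, 18, 13, 17, 10, 12, 3, 6, 15, 8, 22, 16, 4, 5, 9, 7], [], [], [], [0, 1, 10, 17, 15, 22, 16, 8, 13, 6, 12, 2, 14, 3, 7, 20, 5, 23, 19, 4, 21, 9, 18, 11], [], [], [], [], [], [], [], [], [], [], [], [], [], [], [0, 1, 14, 2, 5, 19, 4, 23, 12, 20, 3, 8, 17, 7, 11, 16, 9, 13, 15, 21, 22, 18, 6, 10], [], [], [], [], [], [], [], [], [], [], [], [], [], [], [0, 1, 17, 8, 9, 15, 21, 13, 3, 16, 7, 23, 2, 11, 10, 4, 18, 12, 5, 22, 19, 6, 20, 14], [], [], [], [0, 1, 2, 23, 18, 5, 22, 12, 7, 4, 11, 13, 8, 10, 14, 21, 6, 3, 9, 19, 15, 20, 16, 17]],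
   [[], [], [], [], [], [0, 1, 12, 3, 16, 4, 21, 17, 14, 15, 11, 23, 13, 8, 2, 19, 6, 10, 20, 18, 9, 5, 22, 7], [], [], [], [], [], [], [], [], [0, 1, 3, 7, 4, 21, 22, 2, 17, 5, 10, 13, 12, 23, 8, 15, 20, 14, 16, 6, 18, 9, 19, 11], [], [], [], [], [], [], [], [], [0, 1, 7, 11, 21, 22, 19, 8, 2, 9, 14, 12, 3, 13, 23, 5, 16, 17, 4, 20, 6, 18, 15, 10], [], [], [], [], [], [], [], [], [], [], [], [], [], [], [], [], [], [], [], [0, 1, 11, 10, 22, 19, 15, 23, 8, 18, 17, 3, 7, 12, 13, 9, 4, 2, 21, 16, 20, 6, 5, 14], [], [], [], [], [], [], [], [], [0, 1, 10, 14, 19, 15, 5, 13, 23, 6, 2, 7, 11, 3, 12, 18, 21, 8, 22, 4, 16, 20, 9, 17], [], [], [], [], [], [], [], [], [0, 1, 14, 17, 15, 5, 9, 12, 13, 20, 8, 11, 10, 7, 3, 6, 22, 23, 19, 21, 4, 16, 18, 2], [], [], [], [], [], [], [], [],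 [0, 1, 17, 2, 5, 9, 18, 3, 12, 16, 23, 10, 14, 11, 7, 20, 19, 13, 15, 22, 21, 4, 6, 8], [], [], [], [], [], [], [], [], [0, 1, 2, 8, 9, 18, 6, 7, 3, 4, 13, 14, 17, 10, 11, 16, 15, 12, 5, 19, 22, 21, 20, 23], [], [], [], [], [], [], [], [], [0, 1, 8, 23, 18, 6, 20, 11, 7, 21, 12, 17, 2, 14, 10, 4, 5, 3, 9, 15, 19, 22, 16, 13], [], [], [], [], [], [], [], [], [], [], [], [], [], [], [], [], [], [], [], [0, 1, 23, 13, 6, 20, 16, 10, 11, 22, 3, 2, 8, 17, 14, 21, 9, 7, 18, 5, 15, 19, 4, 12], [], [], [], [], [], [], [], [], [0, 1, 13, 12, 20, 16, 4, 14, 10, 19, 7, 8, 23, 2, 17, 22, 18, 11, 6, 9, 5, 15, 21, 3]],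
   [[], [], [], [], [], [0, 1, 23, 17, 5, 22, 15, 2, 8, 18, 14, 13, 3, 12, 7, 21, 16, 11, 6, 20, 4, 9, 19, 10], [], [], [], [], [], [], [], [], [], [], [], [], [], [0, 1, 13, 2, 9, 19, 5, 8, 23, 6, 17, 12, 7, 3, 11, 22, 4, 10, 20, 16, 21, 18, 15, 14], [], [], [0, 1, 12, 8, 18, 15, 9, 23, 13, 20, 2, 3, 11, 7, 10, 19, 21, 14, 16, 4, 22, 6, 5, 17], [], [], [], [], [], [], [], [], [], [], [], [], [], [0, 1, 3, 23, 6, 5, 18, 13, 12, 16, 8, 7, 10, 11, 14, 15, 22, 17, 4, 21, 19, 20, 9, 2], [], [], [], [], [], [], [], [], [], [], [], [], [], [0, 1, 7, 13, 20, 9, 6, 12, 3, 4, 23, 11, 14, 10, 17, 5, 19, 2, 21, 22, 15, 16, 18, 8], [], [], [], [], [], [], [], [], [], [], [], [], [], [0, 1, 11, 12, 16, 18, 20, 3, 7, 21, 13, 10, 17, 14, 2, 9, 15, 8, 22, 19, 5, 4, 6, 23], [], [], [0, 1, 10,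 3, 4, 6, 16, 7, 11, 22, 12, 14, 2, 17, 8, 18, 5, 23, 19, 15, 9, 21, 20, 13], [], [], [], [], [], [], [], [], [], [], [], [], [], [0, 1, 14, 7, 21, 20, 4, 11, 10, 19, 3, 17, 8, 2, 23, 6, 9, 13, 15, 5, 18, 22, 16, 12], [], [], [], [], [], [], [], [], [], [], [], [], [], [0, 1, 17, 11, 22, 16, 21, 10, 14, 15, 7, 2, 23, 8, 13, 20, 18, 12, 5, 9, 6, 19, 4, 3], [], [], [], [], [], [], [], [], [], [], [], [], [], [0, 1, 2, 10, 19, 4, 22, 14, 17, 5, 11, 8, 13, 23, 12, 16, 6, 3, 9, 18, 20, 15, 21, 7], [], [], [0, 1, 8, 14, 15, 21, 19, 17, 2, 9, 10, 23, 12, 13, 3, 4, 20, 7, 18, 6, 16, 5, 22, 11]],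
   [[], [], [], [], [], [0, 1, 13, 2, 9, 19, 18, 7, 12, 20, 8, 3, 17, 23, 10, 15, 5, 14, 16, 6, 22, 4, 21, 11], [], [], [], [], [], [], [], [0, 1, 12, 8, 18, 15, 6, 11, 3, 16, 23, 7, 2, 13, 14, 5, 9, 17, 4, 20, 19, 21, 22, 10], [], [], [], [], [], [], [], [], [], [], [], [], [], [], [], [], [], [], [0, 1, 3, 23, 6, 5, 20, 10, 7, 4, 13, 11, 8, 12, 17, 9, 18, 2, 21, 16, 15, 22, 19, 14], [], [], [], [], [], [], [], [0, 1, 7, 13, 20, 9, 16, 14, 11, 21, 12, 10, 23, 3, 2, 18, 6, 8, 22, 4, 5, 19, 15, 17], [], [], [], [], [], [], [], [0, 1, 11, 12, 16, 18, 4, 17, 10, 22, 3, 14, 13, 7, 8, 6, 20, 23, 19, 21, 9, 15, 5, 2], [], [], [], [], [], [], [], [0, 1, 10, 3, 4, 6, 21, 2, 14, 19, 7, 17, 12, 11, 23, 20, 16, 13, 15, 22, 18, 5, 9, 8], [], [], [], [], [], [], [], [], [], [], [], [], [],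 [], [], [], [], [], [0, 1, 14, 7, 21, 20, 22, 8, 17, 15, 11, 2, 3, 10, 13, 16, 4, 12, 5, 19, 6, 9, 18, 23], [], [], [], [], [], [], [], [0, 1, 17, 11, 22, 16, 19, 23, 2, 5, 10, 8, 7, 14, 12, 4, 21, 3, 9, 15, 20, 18, 6, 13], [], [], [], [], [], [], [], [0, 1, 2, 10, 19, 4, 15, 13, 8, 9, 14, 23, 11, 17, 3, 21, 22, 7, 18, 5, 16, 6, 20, 12], [], [], [], [], [], [], [], [0, 1, 8, 14, 15, 21, 5, 12, 23, 18, 17, 13, 10, 2, 7, 22, 19, 11, 6, 9, 4, 20, 16, 3], [], [], [], [], [], [], [], [], [], [], [], [], [], [], [], [], [], [], [0, 1, 23, 17, 5, 22, 9, 3, 13, 6, 2, 12, 14, 8, 11, 19, 15, 10, 20, 18, 21, 16, 4, 7]],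
   [[], [], [], [], [], [0, 1, 3, 7, 4, 21, 20, 10, 23, 6, 12, 17, 2, 13, 11, 18, 9, 8, 5, 16, 19, 22, 15, 14], [], [], [], [], [], [], [], [], [], [], [], [], [0, 1, 7, 11, 21, 22, 16, 14, 13, 20, 3, 2, 8, 12, 10, 6, 18, 23, 9, 4, 15, 19, 5, 17], [], [], [], [], [], [], [], [], [], [], [], [], [0, 1, 11, 10, 22, 19, 4, 17, 12, 16, 7, 8, 23, 3, 14, 20, 6, 13, 18, 21, 5, 15, 9, 2], [], [0, 1, 10, 14, 19, 15, 21, 2, 3, 4, 11, 23, 13, 7, 17, 16, 20, 12, 6, 22, 9, 5, 18, 8], [], [], [], [], [], [], [], [], [], [], [], [], [0, 1, 14, 17, 15, 5, 22, 8, 7, 21, 10, 13, 12, 11, 2, 4, 16, 3, 20, 19, 18, 9, 6, 23], [], [], [], [], [], [], [], [], [], [], [], [], [0, 1, 17, 2, 5, 9, 19, 23, 11, 22, 14, 12, 3, 10, 8, 21, 4, 7, 16, 15, 6, 18, 20, 13], [], [], [], [], [], [], [], [], [], [],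 [], [], [0, 1, 2, 8, 9, 18, 15, 13, 10, 19, 17, 3, 7, 14, 23, 22, 21, 11, 4, 5, 20, 6, 16, 12], [], [], [], [], [], [], [], [], [], [], [], [], [0, 1, 8, 23, 18, 6, 5, 12, 14, 15, 2, 7, 11, 17, 13, 19, 22, 10, 21, 9, 16, 20, 4, 3], [], [], [], [], [], [], [], [], [], [], [], [], [0, 1, 23, 13, 6, 20, 9, 3, 17, 5, 8, 11, 10, 2, 12, 15, 19, 14, 22, 18, 4, 16, 21, 7], [], [0, 1, 13, 12, 20, 16, 18, 7, 2, 9, 23, 10, 14, 8, 3, 5, 15, 17, 19, 6, 21, 4, 22, 11], [], [], [], [], [], [], [], [], [], [], [], [], [0, 1, 12, 3, 16, 4, 6, 11, 8, 18, 13, 14, 17, 23, 7, 9, 5, 2, 15, 20, 22, 21, 19, 10]],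
   [[], [], [], [], [], [0, 1, 17, 10, 22, 15, 6, 11, 13, 16, 23, 2, 7, 3, 14, 20, 4, 12, 9, 5, 21, 19, 18, 8], [], [], [], [], [], [], [0, 1, 2, 14, 19, 5, 20, 10, 12, 4, 13, 8, 11, 7, 17, 16, 21, 3, 18, 9, 22, 15, 6, 23], [], [], [], [], [], [], [], [], [], [], [], [], [], [], [], [], [], [0, 1, 8, 17, 15, 9, 16, 14, 3, 21, 12, 23, 10, 11, 2, 4, 22, 7, 6, 18, 19, 5, 20, 13], [], [], [], [], [], [], [0, 1, 23, 2, 5, 18, 4, 17, 7, 22, 3, 13, 14, 10, 8, 21, 19, 11, 20, 6, 15, 9, 16, 12], [], [], [], [], [], [], [0, 1, 13, 8, 9, 6, 21, 2, 11, 19, 7, 12, 17, 14, 23, 22, 15, 10, 16, 20, 5, 18, 4, 3], [], [], [], [], [], [], [], [], [], [], [], [], [], [], [], [], [], [0, 1, 12, 23, 18, 20, 22, 8, 10, 15, 11, 3, 2, 17, 13, 19, 5, 14, 4, 16, 9, 6, 21, 7], [], [], [], [], [], [], [0,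 1, 3, 13, 6, 16, 19, 23, 14, 5, 10, 7, 8, 2, 12, 15, 9, 17, 21, 4, 18, 20, 22, 11], [], [], [], [], [], [], [], [], [], [], [], [], [], [], [], [], [], [0, 1, 7, 12, 20, 4, 15, 13, 17, 9, 14, 11, 23, 8, 3, 5, 18, 2, 22, 21, 6, 16, 19, 10], [], [], [], [], [], [], [0, 1, 11, 3, 16, 21, 5, 12, 2, 18, 17, 10, 13, 23, 7, 9, 6, 8, 19, 22, 20, 4, 15, 14], [], [], [], [], [], [], [0, 1, 10, 7, 4, 22, 9, 3, 8, 6, 2, 14, 12, 13, 11, 18, 20, 23, 15, 19, 16, 21, 5, 17], [], [], [], [], [], [], [], [], [], [], [], [], [], [], [], [], [], [0, 1, 14, 11, 21, 19, 18, 7, 23, 20, 8, 17, 3, 12, 10, 6, 16, 13, 5, 15, 4, 22, 9, 2]],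
   [[], [], [], [], [], [0, 1, 2, 11, 19, 18, 16, 14, 3, 5, 13, 7, 10, 17, 8, 6, 22, 23, 4, 9, 15, 21, 20, 12], [], [], [], [], [], [], [], [], [], [], [], [0, 1, 8, 10, 15, 6, 4, 17, 7, 9, 12, 11, 14, 2, 23, 20, 19, 13, 21, 18, 5, 22, 16, 3], [], [], [], [], [], [], [], [], [], [], [], [0, 1, 23, 14, 5, 20, 21, 2, 11, 18, 3, 10, 17, 8, 13, 16, 15, 12, 22, 6, 9, 19, 4, 7], [], [], [], [], [], [], [], [], [], [], [], [0, 1, 13, 17, 9, 16, 22, 8, 10, 6, 7, 14, 2, 23, 12, 4, 5, 3, 19, 20, 18, 15, 21, 11], [], [], [], [], [], [], [], [], [], [], [], [0, 1, 12, 2, 18, 4, 19, 23, 14, 20, 11, 17, 8, 13, 3, 21, 9, 7, 15, 16, 6, 5, 22, 10], [], [], [], [], [], [], [], [], [], [], [], [0, 1, 3, 8, 6, 21, 15, 13, 17, 16, 10, 2, 23, 12, 7, 22, 18, 11, 5, 4, 20, 9, 19, 14], [0, 1, 7, 23, 20,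 22, 5, 12, 2, 4, 14, 8, 13, 3, 11, 19, 6, 10, 9, 21, 16, 18, 15, 17], [], [], [], [], [], [], [], [], [], [], [], [0, 1, 11, 13, 16, 19, 9, 3, 8, 21, 17, 23, 12, 7, 10, 15, 20, 14, 18, 22, 4, 6, 5, 2], [], [], [], [], [], [], [], [], [], [], [], [0, 1, 10, 12, 4, 15, 18, 7, 23, 22, 2, 13, 3, 11, 14, 5, 16, 17, 6, 19, 21, 20, 9, 8], [], [], [], [], [], [], [], [], [], [], [], [0, 1, 14, 3, 21, 5, 6, 11, 13, 19, 8, 12, 7, 10, 17, 9, 4, 2, 20, 15, 22, 16, 18, 23], [], [], [], [], [], [], [], [], [], [], [], [0, 1, 17, 7, 22, 9, 20, 10, 12, 15, 23, 3, 11, 14, 2, 18, 21, 8, 16, 5, 19, 4, 6, 13]],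
   [[], [], [], [], [], [0, 1, 7, 14, 21, 20, 5, 8, 17, 9, 3, 10, 11, 2, 12, 16, 19, 13, 22, 4, 18, 15, 6, 23], [], [], [], [], [], [0, 1, 11, 17, 22, 16, 9, 23, 2, 18, 7, 14, 10, 8, 3, 4, 15, 12, 19, 21, 6, 5, 20, 13], [], [], [], [], [], [], [], [], [], [], [], [], [], [], [], [], [0, 1, 10, 2, 19, 4, 18, 13, 8, 6, 11, 17, 14, 23, 7, 21, 5, 3, 15, 22, 20, 9, 16, 12], [], [], [], [], [], [0, 1, 14, 8, 15, 21, 6, 12, 23, 20, 10, 2, 17, 13, 11, 22, 9, 7, 5, 19, 16, 18, 4, 3], [], [], [], [], [], [], [], [], [], [], [], [], [], [], [], [], [0, 1, 17, 23, 5, 22, 20, 3, 13, 16, 14, 8, 2, 12, 10, 19, 18, 11, 9, 15, 4, 6, 21, 7], [], [], [], [], [], [0, 1, 2, 13, 9, 19, 16, 7, 12, 4, 17, 23, 8, 3, 14, 15, 6, 10, 18, 5, 21, 20, 22, 11], [], [], [], [], [], [], [], [], [], [], [], [],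 [], [], [], [], [0, 1, 8, 12, 18, 15, 4, 11, 3, 21, 2, 13, 23, 7, 17, 5, 20, 14, 6, 9, 22, 16, 19, 10], [], [], [], [], [], [0, 1, 23, 3, 6, 5, 21, 10, 7, 22, 8, 12, 13, 11, 2, 9, 16, 17, 20, 18, 19, 4, 15, 14], [], [], [], [], [], [], [], [], [], [], [], [], [], [], [], [], [0, 1, 13, 7, 20, 9, 22, 14, 11, 19, 23, 3, 12, 10, 8, 18, 4, 2, 16, 6, 15, 21, 5, 17], [], [], [], [], [], [0, 1, 12, 11, 16, 18, 19, 17, 10, 15, 13, 7, 3, 14, 23, 6, 21, 8, 4, 20, 5, 22, 9, 2], [], [], [], [], [], [], [], [], [], [], [], [], [], [], [], [], [0, 1, 3, 10, 4, 6, 15, 2, 14, 5, 12, 11, 7, 17, 13, 20, 22, 23, 21, 16, 9, 19, 18, 8]],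
   [[], [], [], [], [], [], [], [], [], [], [0, 1, 2, 3, 4, 5, 6, 7, 8, 9, 10, 11, 12, 13, 14, 15, 16, 17, 18, 19, 20, 21, 22, 23], [], [], [], [], [], [], [], [], [], [], [0, 1, 23, 11, 22, 18, 16, 10, 13, 6, 17, 14, 7, 3, 2, 9, 21, 8, 20, 5, 4, 19, 15, 12], [], [], [], [], [], [], [], [], [], [], [0, 1, 12, 14, 15, 20, 21, 17, 3, 16, 8, 2, 10, 11, 23, 6, 19, 13, 4, 18, 22, 5, 9, 7], [], [], [], [], [], [], [], [], [], [], [0, 1, 7, 2, 9, 4, 19, 8, 11, 21, 13, 23, 17, 14, 12, 16, 5, 3, 22, 20, 15, 18, 6, 10], [], [], [], [], [], [], [], [], [], [], [0, 1, 10, 23, 6, 22, 5, 13, 14, 19, 3, 12, 8, 2, 7, 21, 18, 11, 15, 4, 9, 20, 16, 17], [], [], [], [], [], [], [], [], [], [], [0, 1, 17, 12, 16, 15, 18, 3, 2, 5, 11, 7, 13, 23, 10, 19, 20, 14, 9, 22, 6, 4, 21, 8], [], [], [], [],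 [], [], [], [], [], [], [0, 1, 8, 7, 21, 9, 20, 11, 23, 18, 14, 10, 3, 12, 17, 5, 4, 2, 6, 15, 16, 22, 19, 13], [], [], [], [], [], [], [], [], [], [], [0, 1, 13, 10, 19, 6, 4, 14, 12, 20, 2, 17, 11, 7, 8, 18, 22, 23, 16, 9, 21, 15, 5, 3], [], [], [], [], [], [], [], [], [], [], [0, 1, 3, 17, 5, 16, 22, 2, 7, 4, 23, 8, 14, 10, 13, 20, 15, 12, 21, 6, 19, 9, 18, 11], [], [], [], [], [], [], [], [], [], [], [0, 1, 11, 8, 18, 21, 15, 23, 10, 22, 12, 13, 2, 17, 3, 4, 9, 7, 19, 16, 5, 6, 20, 14], [], [], [], [], [], [], [], [], [], [], [0, 1, 14, 13, 20, 19, 9, 12, 17, 15, 7, 3, 23, 8, 11, 22, 6, 10, 5, 21, 18, 16, 4, 2]],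
   [[], [], [], [], [], [], [], [], [], [], [0, 1, 12, 14, 20, 15, 19, 23, 2, 18, 13, 3, 7, 11, 17, 9, 21, 8, 4, 16, 22, 5, 6, 10], [], [], [], [], [], [], [], [], [], [0, 1, 7, 2, 4, 9, 5, 12, 23, 20, 3, 11, 10, 14, 8, 6, 19, 13, 22, 21, 15, 18, 16, 17], [], [], [], [], [], [], [], [], [], [0, 1, 10, 23, 22, 6, 18, 7, 12, 4, 11, 14, 17, 2, 13, 16, 5, 3, 15, 19, 9, 20, 21, 8], [], [], [], [], [], [], [], [], [], [0, 1, 17, 12, 15, 16, 20, 10, 7, 22, 14, 2, 8, 23, 3, 21, 18, 11, 9, 5, 6, 4, 19, 13], [], [], [], [], [], [], [], [], [], [0, 1, 8, 7, 9, 21, 4, 17, 10, 15, 2, 23, 13, 12, 11, 19, 20, 14, 6, 18, 16, 22, 5, 3], [], [], [], [], [], [], [], [], [], [0, 1, 13, 10, 6, 19, 22, 8, 17, 9, 23, 12, 3, 7, 14, 5, 4, 2, 16, 20, 21, 15, 18, 11], [], [], [], [], [], [], [], [], [],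 [0, 1, 3, 17, 16, 5, 15, 13, 8, 6, 12, 7, 11, 10, 2, 18, 22, 23, 21, 4, 19, 9, 20, 14], [], [], [], [], [], [], [], [], [], [0, 1, 11, 8, 21, 18, 9, 3, 13, 16, 7, 10, 14, 17, 23, 20, 15, 12, 19, 22, 5, 6, 4, 2], [], [], [], [], [], [], [], [], [], [0, 1, 14, 13, 19, 20, 6, 11, 3, 21, 10, 17, 2, 8, 12, 4, 9, 7, 5, 15, 18, 16, 22, 23], [], [], [], [], [], [], [], [], [], [0, 1, 2, 3, 5, 4, 16, 14, 11, 19, 17, 8, 23, 13, 7, 22, 6, 10, 18, 9, 20, 21, 15, 12], [], [], [], [], [], [], [], [], [], [0, 1, 23, 11, 18, 22, 21, 2, 14, 5, 8, 13, 12, 3, 10, 15, 16, 17, 20, 6, 4, 19, 9, 7]],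
   [[], [], [], [], [], [], [], [], [], [], [0, 1, 7, 17, 22, 9, 16, 10, 12, 4, 11, 14, 23, 3, 8, 18, 5, 2, 20, 21, 6, 15, 19, 13], [], [], [], [], [], [], [], [], [0, 1, 10, 8, 15, 6, 21, 17, 7, 22, 14, 2, 12, 11, 13, 20, 18, 23, 4, 19, 16, 9, 5, 3], [], [], [], [], [], [], [], [], [0, 1, 17, 13, 9, 16, 19, 8, 10, 15, 2, 23, 7, 14, 3, 4, 20, 12, 22, 5, 21, 6, 18, 11], [], [], [], [], [], [], [], [], [0, 1, 8, 3, 6, 21, 5, 13, 17, 9, 23, 12, 10, 2, 11, 22, 4, 7, 15, 18, 19, 16, 20, 14], [], [], [], [], [], [], [], [], [0, 1, 13, 11, 16, 19, 18, 3, 8, 6, 12, 7, 17, 23, 14, 15, 22, 10, 9, 20, 5, 21, 4, 2], [], [], [], [], [], [], [], [], [0, 1, 3, 14, 21, 5, 20, 11, 13, 16, 7, 10, 8, 12, 2, 9, 15, 17, 6, 4, 18, 19, 22, 23], [], [], [], [], [], [], [], [], [], [], [], [], [], [],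 [], [], [], [], [], [0, 1, 11, 2, 19, 18, 4, 14, 3, 21, 10, 17, 13, 7, 23, 6, 9, 8, 16, 22, 20, 5, 15, 12], [], [], [], [], [], [], [], [], [0, 1, 14, 23, 5, 20, 22, 2, 11, 19, 17, 8, 3, 10, 12, 16, 6, 13, 21, 15, 4, 18, 9, 7], [], [], [], [], [], [], [], [], [0, 1, 2, 12, 18, 4, 15, 23, 14, 5, 8, 13, 11, 17, 7, 21, 16, 3, 19, 9, 22, 20, 6, 10], [], [], [], [], [], [], [], [], [0, 1, 23, 7, 20, 22, 9, 12, 2, 18, 13, 3, 14, 8, 10, 19, 21, 11, 5, 6, 15, 4, 16, 17], [], [], [], [], [], [], [], [], [0, 1, 12, 10, 4, 15, 6, 7, 23, 20, 3, 11, 2, 13, 17, 5, 19, 14, 18, 16, 9, 22, 21, 8]],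
   [[], [], [], [], [], [], [], [], [], [], [0, 1, 23, 8, 6, 18, 21, 13, 7, 20, 3, 17, 10, 14, 2, 4, 15, 12, 22, 5, 19, 9, 16, 11], [], [], [], [], [], [], [], [0, 1, 12, 13, 16, 20, 19, 3, 10, 4, 11, 8, 17, 2, 23, 22, 9, 7, 15, 18, 5, 6, 21, 14], [], [], [], [], [], [], [], [0, 1, 7, 3, 21, 4, 5, 11, 17, 22, 14, 13, 8, 23, 12, 15, 6, 10, 9, 20, 18, 16, 19, 2], [], [], [], [], [], [], [], [0, 1, 10, 11, 19, 22, 18, 14, 8, 15, 2, 3, 13, 12, 7, 9, 16, 17, 6, 4, 20, 21, 5, 23], [], [], [], [], [], [], [], [], [], [], [], [], [], [], [], [], [], [], [0, 1, 17, 14, 5, 15, 20, 2, 13, 9, 23, 11, 3, 7, 10, 6, 21, 8, 16, 22, 4, 19, 18, 12], [], [], [], [], [], [], [], [0, 1, 8, 2, 18, 9, 4, 23, 3, 6, 12, 14, 11, 10, 17, 16, 19, 13, 21, 15, 22, 5, 20, 7], [], [], [], [], [], [], [], [0,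 1, 13, 23, 20, 6, 22, 12, 11, 16, 7, 2, 14, 17, 8, 21, 5, 3, 19, 9, 15, 18, 4, 10], [], [], [], [], [], [], [], [0, 1, 3, 12, 4, 16, 15, 7, 14, 21, 10, 23, 2, 8, 13, 19, 18, 11, 5, 6, 9, 20, 22, 17], [], [], [], [], [], [], [], [], [], [], [], [], [], [], [], [], [], [], [0, 1, 11, 7, 22, 21, 9, 10, 2, 19, 17, 12, 23, 13, 3, 5, 20, 14, 18, 16, 6, 4, 15, 8], [], [], [], [], [], [], [], [0, 1, 14, 10, 15, 19, 6, 17, 23, 5, 8, 7, 12, 3, 11, 18, 4, 2, 20, 21, 16, 22, 9, 13], [], [], [], [], [], [], [], [0, 1, 2, 17, 9, 5, 16, 8, 12, 18, 13, 10, 7, 11, 14, 20, 22, 23, 4, 19, 21, 15, 6, 3]],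
   [[], [], [], [], [], [], [], [], [], [], [0, 1, 10, 2, 19, 4, 5, 11, 23, 22, 14, 8, 13, 17, 12, 20, 9, 7, 6, 15, 16, 18, 21, 3], [], [], [], [], [], [], [0, 1, 17, 23, 5, 22, 18, 14, 12, 15, 2, 13, 3, 8, 7, 4, 6, 10, 16, 9, 21, 20, 19, 11], [], [], [], [], [], [], [0, 1, 8, 12, 18, 15, 20, 2, 7, 9, 23, 3, 11, 13, 10, 22, 16, 17, 21, 6, 19, 4, 5, 14], [], [], [], [], [], [], [], [], [], [], [], [], [], [], [], [], [], [0, 1, 13, 7, 20, 9, 4, 23, 10, 6, 12, 11, 14, 3, 17, 15, 21, 8, 19, 16, 5, 22, 18, 2], [], [], [], [], [], [], [0, 1, 3, 10, 4, 6, 22, 12, 17, 16, 7, 14, 2, 11, 8, 9, 19, 13, 5, 21, 18, 15, 20, 23], [], [], [], [], [], [], [0, 1, 11, 17, 22, 16, 15, 7, 8, 21, 10, 2, 23, 14, 13, 6, 5, 3, 18, 19, 20, 9, 4, 12], [], [], [], [], [], [], [], [], [], [], [], [], [],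 [], [], [], [], [0, 1, 14, 8, 15, 21, 9, 10, 13, 19, 17, 23, 12, 2, 3, 16, 18, 11, 20, 5, 4, 6, 22, 7], [], [], [], [], [], [], [0, 1, 2, 13, 9, 19, 6, 17, 3, 5, 8, 12, 7, 23, 11, 21, 20, 14, 4, 18, 22, 16, 15, 10], [], [], [], [], [], [], [0, 1, 23, 3, 6, 5, 16, 8, 11, 18, 13, 7, 10, 12, 14, 19, 4, 2, 22, 20, 15, 21, 9, 17], [], [], [], [], [], [], [], [], [], [], [], [], [], [], [], [], [], [0, 1, 12, 11, 16, 18, 21, 13, 14, 20, 3, 10, 17, 7, 2, 5, 22, 23, 15, 4, 9, 19, 6, 8], [], [], [], [], [], [], [0, 1, 7, 14, 21, 20, 19, 3, 2, 4, 11, 17, 8, 10, 23, 18, 15, 12, 9, 22, 6, 5, 16, 13]],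
   [[], [], [], [], [], [], [], [], [], [], [0, 1, 13, 12, 16, 20, 15, 3, 10, 6, 17, 2, 11, 8, 7, 22, 18, 23, 19, 9, 21, 4, 5, 14], [], [], [], [], [], [0, 1, 3, 7, 21, 4, 9, 11, 17, 16, 8, 23, 14, 13, 10, 15, 20, 12, 5, 6, 19, 22, 18, 2], [], [], [], [], [], [0, 1, 11, 10, 19, 22, 6, 14, 8, 21, 13, 12, 2, 3, 17, 9, 4, 7, 18, 16, 5, 15, 20, 23], [], [], [], [], [], [], [], [], [], [], [], [], [], [], [], [], [0, 1, 14, 17, 5, 15, 16, 2, 13, 19, 3, 7, 23, 11, 8, 6, 22, 10, 20, 21, 18, 9, 4, 12], [], [], [], [], [], [0, 1, 2, 8, 18, 9, 21, 23, 3, 5, 11, 10, 12, 14, 13, 16, 15, 17, 4, 19, 20, 6, 22, 7], [], [], [], [], [], [], [], [], [], [], [], [], [], [], [], [], [0, 1, 23, 13, 20, 6, 19, 12, 11, 18, 14, 17, 7, 2, 3, 21, 9, 8, 22, 5, 4, 16, 15, 10], [], [], [], [], [], [0, 1,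 12, 3, 4, 16, 5, 7, 14, 20, 2, 8, 10, 23, 11, 19, 6, 13, 15, 18, 22, 21, 9, 17], [], [], [], [], [], [], [], [], [], [], [], [], [], [], [], [], [0, 1, 7, 11, 22, 21, 18, 10, 2, 4, 23, 13, 17, 12, 14, 5, 16, 3, 9, 20, 15, 19, 6, 8], [], [], [], [], [], [0, 1, 10, 14, 15, 19, 20, 17, 23, 22, 12, 3, 8, 7, 2, 18, 21, 11, 6, 4, 9, 5, 16, 13], [], [], [], [], [], [], [], [], [], [], [], [], [], [], [], [], [0, 1, 17, 2, 9, 5, 4, 8, 12, 15, 7, 11, 13, 10, 23, 20, 19, 14, 16, 22, 6, 18, 21, 3], [], [], [], [], [], [0, 1, 8, 23, 6, 18, 22, 13, 7, 9, 10, 14, 3, 17, 12, 4, 5, 2, 21, 15, 16, 20, 19, 11]],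
   [[], [], [], [], [], [], [], [], [], [], [0, 1, 11, 7, 21, 22, 9, 14, 13, 19, 8, 12, 3, 2, 23, 6, 4, 10, 16, 18, 5, 20, 15, 17], [], [], [], [], [0, 1, 14, 10, 19, 15, 6, 2, 3, 5, 13, 7, 11, 23, 12, 16, 22, 17, 21, 20, 18, 4, 9, 8], [], [], [], [], [], [], [], [], [], [], [], [], [], [], [], [0, 1, 2, 17, 5, 9, 16, 23, 11, 18, 3, 10, 14, 12, 7, 21, 15, 8, 19, 4, 20, 22, 6, 13], [], [], [], [], [0, 1, 23, 8, 18, 6, 21, 12, 14, 20, 11, 17, 2, 7, 10, 19, 9, 13, 5, 22, 4, 15, 16, 3], [], [], [], [], [], [], [], [], [], [], [], [], [], [], [], [0, 1, 12, 13, 20, 16, 19, 7, 2, 4, 14, 8, 23, 10, 17, 5, 6, 3, 18, 15, 22, 9, 21, 11], [], [], [], [], [0, 1, 7, 3, 4, 21, 5, 10, 23, 22, 2, 13, 12, 17, 8, 18, 16, 11, 20, 9, 15, 6, 19, 14], [], [], [], [], [], [], [], [], [], [], [], [],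 [], [], [], [0, 1, 10, 11, 22, 19, 18, 17, 12, 15, 23, 3, 7, 8, 13, 20, 21, 14, 4, 6, 9, 16, 5, 2], [], [], [], [], [0, 1, 17, 14, 15, 5, 20, 8, 7, 9, 12, 11, 10, 13, 3, 4, 19, 2, 22, 16, 6, 21, 18, 23], [], [], [], [], [], [], [], [], [], [], [], [], [], [], [], [0, 1, 8, 2, 9, 18, 4, 13, 10, 6, 7, 14, 17, 3, 11, 22, 5, 23, 15, 21, 16, 19, 20, 12], [], [], [], [], [0, 1, 13, 23, 6, 20, 22, 3, 17, 16, 10, 2, 8, 11, 14, 15, 18, 12, 9, 19, 21, 5, 4, 7], [], [], [], [], [], [], [], [], [], [], [], [], [], [], [], [0, 1, 3, 12, 16, 4, 15, 11, 8, 21, 17, 23, 13, 14, 2, 9, 20, 7, 6, 5, 19, 18, 22, 10]],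
   [[], [], [], [], [], [], [], [], [], [], [0, 1, 3, 23, 5, 6, 18, 17, 11, 16, 2, 7, 14, 12, 10, 19, 20, 13, 21, 4, 15, 22, 9, 8], [], [], [], [0, 1, 11, 12, 18, 16, 20, 8, 14, 21, 23, 10, 2, 7, 17, 5, 4, 3, 19, 22, 9, 15, 6, 13], [], [], [], [], [], [], [], [], [], [], [], [], [], [], [0, 1, 14, 7, 20, 21, 4, 13, 2, 19, 12, 17, 23, 10, 8, 18, 22, 11, 5, 15, 6, 9, 16, 3], [], [], [], [0, 1, 2, 10, 4, 19, 22, 3, 23, 5, 7, 8, 12, 17, 13, 20, 15, 14, 18, 9, 16, 6, 21, 11], [], [], [], [], [], [], [], [], [], [], [], [], [], [], [0, 1, 23, 17, 22, 5, 15, 11, 12, 18, 10, 13, 7, 8, 3, 4, 9, 2, 20, 6, 21, 16, 19, 14], [], [], [], [], [], [], [], [], [], [], [], [], [], [], [0, 1, 12, 8, 15, 18, 9, 14, 7, 20, 17, 3, 10, 13, 11, 22, 6, 23, 4, 16, 19, 21, 5, 2], [], [], [], [0, 1, 7, 13,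 9, 20, 6, 2, 10, 4, 8, 11, 17, 3, 14, 15, 16, 12, 22, 21, 5, 19, 18, 23], [], [], [], [], [], [], [], [], [], [], [], [], [], [], [0, 1, 10, 3, 6, 4, 16, 23, 17, 22, 13, 14, 8, 11, 2, 9, 21, 7, 15, 19, 18, 5, 20, 12], [], [], [], [], [], [], [], [], [], [], [], [], [], [], [0, 1, 17, 11, 16, 22, 21, 12, 8, 15, 3, 2, 13, 14, 23, 6, 19, 10, 9, 5, 20, 18, 4, 7], [], [], [], [0, 1, 8, 14, 21, 15, 19, 7, 13, 9, 11, 23, 3, 2, 12, 16, 5, 17, 6, 18, 4, 20, 22, 10], [], [], [], [], [], [], [], [], [], [], [], [], [], [], [0, 1, 13, 2, 19, 9, 5, 10, 3, 6, 14, 12, 11, 23, 7, 21, 18, 8, 16, 20, 22, 4, 15, 17]],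
   [[], [], [], [], [], [], [], [], [], [], [0, 1, 14, 10, 15, 19, 4, 8, 3, 21, 12, 23, 17, 7, 13, 16, 22, 11, 5, 20, 9, 6, 18, 2], [], [], [0, 1, 2, 17, 9, 5, 22, 13, 11, 19, 7, 12, 8, 10, 3, 21, 15, 14, 18, 4, 6, 16, 20, 23], [], [], [], [], [], [], [], [], [], [], [], [], [], [0, 1, 23, 8, 6, 18, 15, 3, 14, 5, 10, 7, 13, 17, 11, 19, 9, 2, 20, 22, 16, 21, 4, 12], [], [], [], [], [], [], [], [], [], [], [], [], [], [0, 1, 12, 13, 16, 20, 9, 11, 2, 18, 17, 10, 3, 8, 14, 5, 6, 23, 4, 15, 21, 19, 22, 7], [], [], [0, 1, 7, 3, 21, 4, 6, 14, 23, 20, 8, 17, 11, 13, 2, 18, 16, 12, 22, 9, 19, 5, 15, 10], [], [], [], [], [], [], [], [], [], [], [], [], [], [0, 1, 10, 11, 19, 22, 16, 2, 12, 4, 13, 8, 14, 3, 23, 20, 21, 7, 15, 6, 5, 18, 9, 17], [], [], [], [], [], [], [], [], [], [], [],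 [], [], [0, 1, 17, 14, 5, 15, 21, 23, 7, 22, 3, 13, 2, 11, 12, 4, 19, 10, 9, 16, 18, 20, 6, 8], [], [], [], [], [], [], [], [], [], [], [], [], [], [0, 1, 8, 2, 18, 9, 19, 12, 10, 15, 11, 3, 23, 14, 7, 22, 5, 17, 6, 21, 20, 4, 16, 13], [], [], [0, 1, 13, 23, 20, 6, 5, 7, 17, 9, 14, 11, 12, 2, 10, 15, 18, 8, 16, 19, 4, 22, 21, 3], [], [], [], [], [], [], [], [], [], [], [], [], [], [0, 1, 3, 12, 4, 16, 18, 10, 8, 6, 2, 14, 7, 23, 17, 9, 20, 13, 21, 5, 22, 15, 19, 11], [], [], [], [], [], [], [], [], [], [], [], [], [], [0, 1, 11, 7, 22, 21, 20, 17, 13, 16, 23, 2, 10, 12, 8, 6, 4, 3, 19, 18, 15, 9, 5, 14]],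
   [[], [], [], [], [], [], [], [], [], [], [0, 1, 17, 13, 9, 16, 20, 2, 14, 5, 7, 10, 8, 23, 11, 21, 6, 3, 15, 22, 18, 19, 4, 12], [], [0, 1, 8, 3, 6, 21, 4, 23, 2, 18, 10, 17, 13, 12, 14, 19, 16, 11, 9, 15, 20, 5, 22, 7], [], [], [], [], [], [], [], [], [], [], [], [], [0, 1, 13, 11, 16, 19, 22, 12, 23, 20, 17, 8, 3, 7, 2, 5, 21, 14, 6, 9, 4, 18, 15, 10], [], [], [], [], [], [], [], [], [], [], [], [], [0, 1, 3, 14, 21, 5, 15, 7, 12, 4, 8, 13, 11, 10, 23, 18, 19, 2, 16, 6, 22, 20, 9, 17], [], [], [], [], [], [], [], [], [], [], [], [], [0, 1, 11, 2, 19, 18, 9, 10, 7, 22, 13, 3, 14, 17, 12, 20, 5, 23, 21, 16, 15, 4, 6, 8], [], [], [], [], [], [], [], [], [], [], [], [], [0, 1, 14, 23, 5, 20, 6, 17, 10, 15, 3, 11, 2, 8, 7, 4, 18, 12, 19, 21, 9, 22, 16, 13], [], [0, 1, 2, 12, 18,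 4, 16, 8, 17, 9, 11, 14, 23, 13, 10, 22, 20, 7, 5, 19, 6, 15, 21, 3], [], [], [], [], [], [], [], [], [], [], [], [], [0, 1, 23, 7, 20, 22, 21, 13, 8, 6, 14, 2, 12, 3, 17, 15, 4, 10, 18, 5, 16, 9, 19, 11], [], [], [], [], [], [], [], [], [], [], [], [], [0, 1, 12, 10, 4, 15, 19, 3, 13, 16, 2, 23, 7, 11, 8, 9, 22, 17, 20, 18, 21, 6, 5, 14], [], [], [], [], [], [], [], [], [], [], [], [], [0, 1, 7, 17, 22, 9, 5, 11, 3, 21, 23, 12, 10, 14, 13, 6, 15, 8, 4, 20, 19, 16, 18, 2], [], [], [], [], [], [], [], [], [], [], [], [], [0, 1, 10, 8, 15, 6, 18, 14, 11, 19, 12, 7, 17, 2, 3, 16, 9, 13, 22, 4, 5, 21, 20, 23]],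
   [[], [], [], [], [], [], [], [], [], [], [0, 1, 8, 11, 18, 21, 22, 12, 17, 15, 23, 13, 2, 10, 3, 5, 19, 14, 9, 6, 4, 16, 20, 7], [0, 1, 13, 14, 20, 19, 15, 7, 8, 9, 12, 3, 23, 17, 11, 18, 5, 2, 6, 16, 22, 21, 4, 10], [], [], [], [], [], [], [], [], [], [], [], [0, 1, 3, 2, 4, 5, 9, 10, 13, 6, 7, 11, 12, 8, 14, 20, 18, 23, 16, 21, 15, 19, 22, 17], [], [], [], [], [], [], [], [], [], [], [], [0, 1, 11, 23, 22, 18, 6, 17, 3, 16, 10, 14, 7, 13, 2, 4, 20, 12, 21, 19, 9, 5, 15, 8], [], [], [], [], [], [], [], [], [], [], [], [0, 1, 14, 12, 15, 20, 16, 8, 11, 21, 17, 2, 10, 3, 23, 22, 4, 7, 19, 5, 6, 18, 9, 13], [], [], [], [], [], [], [], [], [], [], [], [0, 1, 2, 7, 9, 4, 21, 13, 14, 19, 8, 23, 17, 11, 12, 15, 22, 10, 5, 18, 16, 20, 6, 3], [], [], [], [], [], [], [], [], [], [],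 [], [0, 1, 23, 10, 6, 22, 19, 3, 2, 5, 13, 12, 8, 14, 7, 9, 15, 17, 18, 20, 21, 4, 16, 11], [], [], [], [], [], [], [], [], [], [], [], [0, 1, 12, 17, 16, 15, 5, 11, 23, 18, 3, 7, 13, 2, 10, 6, 9, 8, 20, 4, 19, 22, 21, 14], [], [], [], [], [], [], [], [], [], [], [], [0, 1, 7, 8, 21, 9, 18, 14, 12, 20, 11, 10, 3, 23, 17, 16, 6, 13, 4, 22, 5, 15, 19, 2], [], [], [], [], [], [], [], [], [], [], [], [0, 1, 10, 13, 19, 6, 20, 2, 7, 4, 14, 17, 11, 12, 8, 21, 16, 3, 22, 15, 18, 9, 5, 23], [], [], [], [], [], [], [], [], [], [], [], [0, 1, 17, 3, 5, 16, 4, 23, 10, 22, 2, 8, 14, 7, 13, 19, 21, 11, 15, 9, 20, 6, 18, 12]]]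

set_option maxRecDepth 100000 in
/-- All matrices of determinant one, each with the offset of the later matrix it is obtained from by a generator. -/
def chainN : List (List ℕ × ℕ) :=
  [([5, 5, 9, 7], 21),
   ([7, 5, 9, 5], 21),
   ([4, 4, 10, 2], 26),
   ([3, 0, 10, 4], 30),
   ([4, 0, 10, 3], 44),
   ([9, 5, 4, 6], 72),
   ([4, 1, 0, 3], 73),
   ([6, 9, 0, 2], 76),
   ([2, 9, 0, 6], 82),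
   ([5, 8, 10, 3], 84),
   ([9, 7, 6, 6], 88),
   ([2, 6, 0, 6], 91),
   ([6, 7, 6, 9], 93),
   ([3, 1, 0, 4], 103),
   ([3, 8, 10, 5], 105),
   ([6, 6, 0, 2], 107),
   ([6, 5, 4, 9], 108),
   ([2, 7, 2, 2], 109),
   ([5, 0, 9, 9], 109),
   ([4, 7, 10, 4], 112),
   ([2, 9, 4, 2], 114),
   ([2, 4, 9, 2], 115),
   ([7, 9, 9, 7], 114),
   ([9, 0, 9, 5], 123),
   ([0, 5, 2, 0], 122),
   ([2, 4, 10, 4], 128),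
   ([3, 4, 9, 5], 129),
   ([6, 0, 4, 2], 132),
   ([5, 2, 10, 2], 132),
   ([10, 2, 7, 7], 132),
   ([5, 2, 4, 4], 132),
   ([0, 6, 9, 3], 135),
   ([5, 4, 9, 3], 135),
   ([6, 9, 5, 4], 135),
   ([10, 4, 8, 0], 135),
   ([2, 0, 4, 6], 138),
   ([2, 6, 9, 0], 137),
   ([2, 4, 5, 5], 137),
   ([0, 2, 5, 7], 138),
   ([3, 9, 9, 9], 141),
   ([6, 0, 8, 2], 141),
   ([2, 2, 5, 0], 140),
   ([4, 4, 0, 3], 140),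
   ([2, 0, 0, 6], 142),
   ([5, 9, 5, 7], 147),
   ([0, 9, 6, 2], 148),
   ([6, 4, 0, 2], 147),
   ([8, 8, 1, 8], 149),
   ([4, 0, 3, 3], 150),
   ([10, 3, 7, 0], 149),
   ([3, 0, 0, 4], 150),
   ([7, 9, 5, 5], 152),
   ([9, 7, 4, 2], 152),
   ([6, 6, 2, 4], 151),
   ([0, 8, 4, 5], 152),
   ([4, 8, 0, 3], 153),
   ([7, 6, 7, 3], 152),
   ([7, 1, 9, 3], 152),
   ([9, 9, 9, 3], 153),
   ([0, 5, 2, 2], 154),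
   ([2, 8, 0, 6], 153),
   ([10, 5, 8, 3], 154),
   ([3, 4, 0, 4], 154),
   ([5, 10, 9, 5], 154),
   ([6, 3, 0, 2], 155),
   ([7, 2, 7, 10], 158),
   ([0, 8, 4, 9], 157),
   ([3, 1, 9, 7], 157),
   ([6, 6, 8, 10], 156),
   ([6, 5, 10, 3], 157),
   ([2, 7, 0, 6], 164),
   ([2, 0, 2, 6], 166),
   ([7, 4, 9, 10], 166),
   ([5, 3, 10, 4], 168),
   ([6, 8, 0, 2], 169),
   ([3, 6, 7, 7], 171),
   ([9, 9, 6, 0], 174),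
   ([5, 10, 4, 6], 177),
   ([4, 6, 2, 6], 177),
   ([4, 9, 0, 3], 178),
   ([0, 3, 7, 10], 178),
   ([2, 4, 0, 6], 179),
   ([8, 0, 1, 7], 180),
   ([6, 7, 0, 2], 181),
   ([0, 2, 5, 2], 181),
   ([6, 1, 6, 3], 182),
   ([4, 2, 4, 5], 186),
   ([7, 10, 6, 4], 186),
   ([4, 1, 8, 5], 186),
   ([4, 4, 7, 10], 185),
   ([2, 3, 0, 6], 187),
   ([0, 6, 9, 2], 187),
   ([9, 8, 4, 0], 187),
   ([5, 8, 4, 0], 188),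
   ([10, 3, 6, 3], 189),
   ([7, 0, 1, 8], 188),
   ([3, 9, 0, 4], 190),
   ([3, 5, 8, 10], 190),
   ([5, 5, 8, 6], 191),
   ([3, 1, 6, 6], 190),
   ([3, 5, 10, 6], 190),
   ([4, 10, 6, 7], 190),
   ([2, 8, 7, 1], 189),
   ([0, 6, 9, 5], 193),
   ([6, 0, 0, 2], 194),
   ([5, 2, 5, 0], 195),
   ([0, 9, 6, 9], 194),
   ([7, 9, 6, 0], 194),
   ([7, 2, 5, 0], 194),
   ([9, 9, 4, 9], 194),
   ([6, 0, 2, 2], 193),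
   ([6, 10, 4, 5], 195),
   ([2, 5, 2, 0], 196),
   ([5, 6, 9, 0], 196),
   ([4, 4, 6, 9], 197),
   ([6, 0, 5, 2], 197),
   ([3, 8, 0, 4], 198),
   ([0, 4, 8, 10], 198),
   ([8, 7, 8, 3], 198),
   ([0, 7, 3, 4], 197),
   ([4, 3, 10, 5], 198),
   ([4, 0, 0, 3], 198),
   ([1, 8, 4, 0], 198),
   ([0, 2, 5, 5], 199),
   ([2, 7, 4, 9], 201),
   ([4, 9, 5, 6], 201),
   ([1, 8, 7, 2], 200),
   ([2, 2, 9, 4], 200),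
   ([7, 2, 9, 9], 199),
   ([9, 4, 6, 4], 201),
   ([3, 0, 3, 4], 201),
   ([4, 7, 3, 0], 203),
   ([10, 4, 7, 4], 202),
   ([6, 3, 5, 10], 205),
   ([2, 9, 6, 0], 208),
   ([4, 2, 9, 2], 209),
   ([5, 0, 7, 9], 208),
   ([9, 2, 9, 7], 208),
   ([0, 5, 2, 9], 207),
   ([3, 3, 6, 10], 208),
   ([3, 7, 8, 8], 209),
   ([5, 1, 8, 4], 208),
   ([5, 4, 5, 2], 213),
   ([0, 9, 6, 7], 212),
   ([10, 6, 8, 6], 212),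
   ([2, 0, 8, 6], 213),
   ([9, 0, 7, 5], 214),
   ([9, 5, 2, 0], 213),
   ([3, 6, 9, 0], 213),
   ([6, 5, 8, 5], 213),
   ([2, 0, 5, 6], 212),
   ([7, 10, 7, 7], 212),
   ([0, 8, 4, 1], 211),
   ([2, 2, 10, 5], 212),
   ([10, 4, 9, 7], 214),
   ([10, 3, 5, 6], 216),
   ([9, 5, 8, 7], 218),
   ([1, 9, 7, 9], 219),
   ([7, 6, 4, 2], 219),
   ([6, 0, 10, 2], 219),
   ([4, 2, 5, 0], 218),
   ([10, 2, 6, 9], 218),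
   ([7, 7, 1, 9], 217),
   ([1, 9, 4, 4], 217),
   ([2, 8, 4, 0], 219),
   ([2, 3, 9, 3], 220),
   ([7, 0, 9, 8], 219),
   ([9, 3, 0, 5], 219),
   ([9, 3, 6, 7], 220),
   ([1, 5, 5, 4], 220),
   ([2, 4, 8, 0], 221),
   ([4, 6, 4, 9], 223),
   ([5, 5, 7, 5], 224),
   ([2, 0, 6, 6], 224),
   ([4, 6, 9, 0], 223),
   ([8, 10, 5, 5], 223),
   ([6, 6, 5, 7], 224),
   ([5, 7, 0, 9], 224),
   ([4, 8, 6, 4], 225),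
   ([7, 3, 4, 5], 228),
   ([6, 10, 10, 4], 229),
   ([9, 9, 8, 2], 229),
   ([8, 2, 5, 0], 229),
   ([0, 3, 7, 7], 231),
   ([9, 6, 4, 4], 231),
   ([2, 5, 0, 6], 232),
   ([0, 6, 9, 0], 232),
   ([9, 5, 0, 5], 231),
   ([9, 7, 0, 5], 232),
   ([2, 9, 2, 4], 231),
   ([7, 8, 9, 1], 231),
   ([5, 9, 10, 5], 233),
   ([5, 7, 6, 2], 234),
   ([1, 6, 6, 4], 233),
   ([6, 2, 0, 2], 233),
   ([8, 8, 9, 5], 234),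
   ([7, 4, 2, 6], 234),
   ([1, 8, 3, 3], 234),
   ([2, 6, 10, 3], 233),
   ([3, 3, 7, 0], 233),
   ([3, 7, 0, 4], 234),
   ([0, 4, 8, 0], 234),
   ([8, 7, 0, 7], 233),
   ([9, 0, 6, 5], 235),
   ([5, 5, 4, 2], 238),
   ([4, 2, 2, 4], 238),
   ([0, 8, 4, 2], 238),
   ([4, 5, 0, 3], 238),
   ([7, 9, 7, 6], 237),
   ([0, 3, 7, 3], 237),
   ([9, 3, 4, 10], 237),
   ([9, 9, 7, 1], 237),
   ([9, 3, 2, 2], 237),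
   ([4, 10, 2, 8], 236),
   ([2, 2, 0, 6], 236),
   ([2, 2, 8, 3], 237),
   ([8, 3, 1, 6], 237),
   ([0, 4, 8, 7], 238),
   ([9, 5, 6, 1], 238),
   ([6, 1, 0, 2], 240),
   ([0, 2, 5, 8], 240),
   ([5, 3, 0, 9], 241),
   ([6, 6, 6, 8], 240),
   ([9, 2, 6, 10], 243),
   ([7, 10, 4, 9], 243),
   ([9, 7, 8, 10], 243),
   ([4, 9, 4, 1], 243),
   ([7, 2, 10, 3], 243),
   ([8, 10, 2, 4], 243),
   ([5, 5, 3, 1], 242),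
   ([7, 3, 6, 9], 242),
   ([4, 8, 8, 8], 242),
   ([4, 0, 7, 3], 241),
   ([4, 8, 2, 7], 242),
   ([2, 1, 0, 6], 243),
   ([0, 6, 9, 4], 243),
   ([9, 9, 0, 5], 242),
   ([9, 5, 9, 10], 242),
   ([0, 5, 2, 6], 241),
   ([9, 10, 4, 7], 241),
   ([5, 3, 4, 7], 242),
   ([9, 5, 7, 4], 242),
   ([10, 4, 6, 8], 242),
   ([7, 4, 1, 7], 241),
   ([0, 2, 5, 3], 241),
   ([8, 5, 6, 8], 241),
   ([3, 6, 10, 2], 241),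
   ([7, 7, 8, 5], 240),
   ([3, 6, 0, 4], 241),
   ([3, 2, 8, 2], 241),
   ([5, 0, 8, 9], 242),
   ([3, 9, 6, 0], 241),
   ([7, 5, 8, 9], 241),
   ([1, 4, 4, 6], 241),
   ([3, 2, 10, 7], 240),
   ([4, 6, 6, 1], 240),
   ([2, 6, 7, 5], 239),
   ([4, 6, 0, 3], 240),
   ([0, 3, 7, 2], 240),
   ([7, 10, 0, 8], 239),
   ([7, 8, 2, 4], 242),
   ([0, 6, 9, 7], 242),
   ([8, 0, 9, 7], 243),
   ([1, 7, 3, 0], 242),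
   ([6, 5, 0, 2], 243),
   ([0, 2, 5, 4], 243),
   ([5, 2, 0, 9], 242),
   ([5, 8, 5, 6], 242),
   ([0, 9, 6, 3], 241),
   ([7, 2, 6, 5], 241),
   ([7, 6, 5, 6], 241),
   ([9, 0, 4, 5], 241),
   ([6, 5, 2, 0], 240),
   ([4, 5, 7, 9], 242),
   ([6, 4, 4, 1], 244),
   ([8, 5, 7, 10], 244),
   ([2, 3, 2, 9], 244),
   ([5, 1, 9, 2], 244),
   ([0, 6, 9, 8], 244),
   ([9, 2, 0, 5], 243),
   ([4, 0, 2, 3], 243),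
   ([5, 8, 9, 8], 243),
   ([4, 0, 6, 3], 243),
   ([2, 3, 7, 0], 242),
   ([6, 3, 1, 8], 242),
   ([6, 5, 5, 8], 241),
   ([3, 5, 0, 4], 242),
   ([0, 4, 8, 2], 242),
   ([8, 10, 8, 6], 242),
   ([0, 7, 3, 1], 241),
   ([8, 6, 6, 6], 241),
   ([4, 10, 10, 6], 242),
   ([6, 7, 7, 1], 241),
   ([4, 7, 0, 3], 241),
   ([7, 4, 8, 0], 241),
   ([1, 7, 4, 7], 240),
   ([2, 6, 4, 7], 242),
   ([2, 1, 9, 5], 241),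
   ([6, 0, 6, 2], 241),
   ([0, 2, 5, 0], 241),
   ([5, 9, 0, 9], 240),
   ([5, 0, 6, 9], 240),
   ([1, 9, 6, 0], 239),
   ([5, 0, 4, 9], 240),
   ([4, 9, 2, 2], 240),
   ([8, 4, 6, 10], 244),
   ([2, 5, 4, 5], 244),
   ([4, 5, 5, 1], 244),
   ([1, 7, 7, 6], 243),
   ([2, 0, 9, 6], 243),
   ([7, 6, 9, 0], 242),
   ([9, 6, 6, 9], 244),
   ([6, 9, 7, 7], 244),
   ([1, 9, 5, 2], 243),
   ([3, 8, 3, 1], 243),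
   ([0, 4, 8, 3], 244),
   ([8, 10, 0, 7], 243),
   ([8, 3, 3, 4], 243),
   ([4, 3, 3, 8], 245),
   ([10, 5, 7, 8], 244),
   ([0, 3, 7, 0], 244),
   ([8, 8, 4, 0], 244),
   ([6, 8, 5, 5], 246),
   ([5, 5, 0, 9], 246),
   ([6, 4, 6, 6], 245),
   ([2, 7, 6, 5], 247),
   ([4, 9, 9, 4], 248),
   ([5, 6, 7, 2], 247),
   ([9, 4, 9, 9], 247),
   ([0, 5, 2, 7], 246),
   ([3, 0, 6, 4], 247),
   ([6, 4, 2, 7], 247),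
   ([3, 4, 8, 0], 247),
   ([5, 7, 8, 7], 246),
   ([3, 7, 3, 0], 246),
   ([3, 0, 7, 4], 246),
   ([7, 7, 0, 8], 246),
   ([4, 1, 4, 4], 245),
   ([1, 4, 5, 10], 246),
   ([5, 10, 5, 8], 246),
   ([0, 9, 6, 1], 245),
   ([10, 7, 8, 9], 245),
   ([2, 9, 8, 9], 246),
   ([6, 0, 9, 2], 247),
   ([3, 2, 5, 0], 246),
   ([9, 2, 7, 9], 246),
   ([9, 7, 2, 9], 245),
   ([3, 3, 9, 2], 245),
   ([6, 10, 8, 8], 245),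
   ([2, 9, 5, 1], 244),
   ([8, 8, 8, 4], 244),
   ([0, 7, 3, 3], 243),
   ([7, 3, 7, 0], 244),
   ([0, 8, 4, 8], 243),
   ([1, 5, 6, 9], 243),
   ([5, 4, 10, 6], 243),
   ([5, 2, 6, 7], 242),
   ([8, 6, 1, 5], 242),
   ([2, 0, 10, 6], 242),
   ([8, 6, 9, 0], 242),
   ([1, 5, 3, 5], 241),
   ([7, 5, 2, 0], 241),
   ([9, 0, 8, 5], 242),
   ([8, 5, 5, 6], 242),
   ([7, 7, 4, 1], 243),
   ([6, 4, 10, 5], 243),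
   ([10, 5, 9, 9], 244),
   ([10, 4, 5, 1], 246),
   ([1, 8, 9, 7], 247),
   ([9, 7, 1, 7], 247),
   ([3, 0, 2, 4], 246),
   ([10, 3, 4, 9], 246),
   ([5, 6, 1, 8], 245),
   ([10, 3, 9, 5], 246),
   ([1, 9, 8, 7], 246),
   ([8, 7, 2, 6], 246),
   ([5, 10, 3, 4], 245),
   ([7, 9, 10, 2], 245),
   ([3, 4, 4, 2], 244),
   ([10, 2, 5, 0], 244),
   ([6, 9, 1, 9], 243),
   ([8, 5, 4, 4], 244),
   ([7, 10, 3, 6], 243),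
   ([2, 8, 6, 8], 243),
   ([4, 0, 9, 3], 243),
   ([5, 3, 7, 0], 242),
   ([9, 3, 9, 8], 242),
   ([0, 5, 2, 8], 241),
   ([3, 7, 6, 7], 242),
   ([6, 7, 2, 8], 242),
   ([7, 1, 5, 4], 241),
   ([3, 0, 8, 4], 241),
   ([5, 4, 8, 0], 240),
   ([3, 3, 3, 7], 240),
   ([4, 6, 8, 4], 240),
   ([4, 9, 7, 5], 240),
   ([3, 7, 7, 2], 239),
   ([7, 5, 6, 6], 241),
   ([6, 6, 9, 0], 241),
   ([3, 5, 5, 5], 240),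
   ([1, 10, 5, 7], 240),
   ([5, 7, 5, 5], 240),
   ([0, 9, 6, 4], 239),
   ([4, 8, 10, 1], 239),
   ([6, 4, 7, 3], 238),
   ([7, 3, 5, 7], 239),
   ([9, 4, 4, 8], 238),
   ([3, 9, 4, 5], 238),
   ([4, 5, 4, 8], 238),
   ([1, 7, 8, 2], 238),
   ([7, 6, 10, 4], 237),
   ([8, 2, 2, 2], 237),
   ([5, 0, 3, 9], 236),
   ([7, 7, 6, 3], 236),
   ([4, 4, 8, 0], 236),
   ([4, 7, 7, 7], 235),
   ([4, 4, 2, 5], 236),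
   ([2, 10, 0, 6], 237),
   ([0, 6, 9, 6], 237),
   ([9, 0, 0, 5], 236),
   ([9, 7, 9, 1], 236),
   ([0, 5, 2, 4], 235),
   ([9, 1, 4, 3], 235),
   ([5, 9, 4, 3], 236),
   ([9, 7, 7, 8], 236),
   ([10, 5, 6, 2], 236),
   ([7, 8, 1, 6], 235),
   ([6, 2, 6, 4], 235),
   ([0, 2, 5, 9], 234),
   ([8, 8, 6, 2], 234),
   ([9, 5, 3, 3], 234),
   ([5, 9, 2, 6], 233),
   ([3, 3, 10, 3], 233),
   ([7, 0, 8, 8], 232),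
   ([3, 3, 0, 4], 233),
   ([0, 4, 8, 4], 233),
   ([8, 0, 0, 7], 232),
   ([3, 10, 8, 5], 232),
   ([5, 6, 8, 1], 233),
   ([3, 6, 6, 5], 232),
   ([7, 9, 8, 1], 232),
   ([1, 3, 4, 2], 232),
   ([3, 10, 10, 8], 231),
   ([4, 2, 6, 6], 231),
   ([2, 4, 7, 9], 230),
   ([4, 2, 0, 3], 231),
   ([0, 3, 7, 6], 231),
   ([7, 3, 0, 8], 230),
   ([5, 4, 4, 10], 231),
   ([7, 1, 2, 2], 232),
   ([2, 2, 2, 8], 232),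
   ([0, 6, 9, 9], 231),
   ([5, 10, 8, 3], 231),
   ([8, 3, 9, 9], 231),
   ([1, 6, 3, 8], 230),
   ([3, 4, 6, 1], 230),
   ([3, 8, 8, 7], 229),
   ([6, 1, 2, 6], 229),
   ([7, 5, 5, 10], 228),
   ([6, 10, 0, 2], 229),
   ([0, 2, 5, 10], 229),
   ([5, 8, 0, 9], 228),
   ([5, 3, 5, 1], 228),
   ([0, 9, 6, 8], 227),
   ([7, 6, 6, 10], 227),
   ([7, 10, 5, 1], 227),
   ([9, 2, 4, 1], 227),
   ([6, 10, 2, 9], 226),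
   ([3, 1, 4, 9], 227),
   ([1, 8, 8, 10], 226),
   ([4, 1, 7, 2], 226),
   ([8, 10, 10, 3], 226),
   ([2, 4, 3, 1], 225),
   ([6, 9, 4, 8], 227),
   ([8, 8, 7, 3], 227),
   ([2, 1, 2, 7], 227),
   ([2, 7, 7, 3], 227),
   ([5, 7, 9, 4], 226),
   ([0, 6, 9, 10], 226),
   ([9, 4, 0, 5], 225),
   ([9, 10, 2, 6], 225),
   ([4, 7, 2, 1], 224),
   ([5, 3, 9, 10], 224),
   ([4, 7, 6, 8], 224),
   ([2, 1, 7, 4], 223),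
   ([6, 8, 1, 7], 223),
   ([6, 10, 5, 3], 222),
   ([6, 8, 3, 6], 223),
   ([10, 2, 8, 5], 223),
   ([3, 2, 0, 4], 223),
   ([0, 4, 8, 5], 223),
   ([8, 2, 8, 9], 223),
   ([0, 7, 3, 9], 222),
   ([8, 9, 6, 0], 222),
   ([8, 9, 4, 6], 223),
   ([4, 6, 10, 7], 223),
   ([6, 1, 7, 5], 222),
   ([4, 3, 0, 3], 222),
   ([0, 3, 7, 5], 222),
   ([7, 2, 0, 8], 221),
   ([7, 8, 8, 3], 221),
   ([1, 6, 4, 3], 220),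
   ([5, 4, 2, 4], 221),
   ([2, 4, 4, 3], 221),
   ([2, 10, 9, 7], 220),
   ([8, 0, 6, 7], 220),
   ([9, 7, 3, 0], 219),
   ([6, 5, 6, 7], 219),
   ([0, 2, 5, 6], 219),
   ([5, 4, 0, 9], 218),
   ([5, 6, 6, 3], 218),
   ([1, 8, 6, 5], 217),
   ([5, 6, 4, 5], 218),
   ([4, 5, 2, 0], 218),
   ([3, 4, 7, 6], 219),
   ([4, 2, 8, 7], 218),
   ([8, 7, 7, 9], 219),
   ([8, 7, 6, 4], 220),
   ([2, 3, 4, 1], 220),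
   ([4, 1, 5, 7], 220),
   ([1, 6, 7, 10], 219),
   ([2, 9, 9, 8], 219),
   ([7, 10, 9, 2], 218),
   ([9, 8, 0, 5], 218),
   ([2, 8, 2, 3], 217),
   ([9, 8, 6, 3], 218),
   ([6, 3, 7, 0], 218),
   ([1, 8, 5, 8], 217),
   ([3, 5, 3, 9], 217),
   ([0, 4, 8, 6], 218),
   ([8, 2, 0, 7], 217),
   ([8, 6, 3, 1], 217),
   ([6, 6, 3, 5], 216),
   ([4, 10, 3, 5], 218),
   ([10, 6, 7, 1], 217),
   ([0, 3, 7, 4], 217),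
   ([8, 0, 4, 7], 217),
   ([5, 9, 7, 4], 217),
   ([2, 6, 6, 2], 217),
   ([4, 7, 9, 5], 216),
   ([6, 2, 5, 0], 217),
   ([5, 0, 0, 9], 217),
   ([6, 9, 6, 0], 216),
   ([1, 2, 4, 9], 216),
   ([4, 9, 6, 0], 216),
   ([2, 2, 7, 2], 215),
   ([3, 7, 10, 9], 215),
   ([7, 2, 8, 4], 214),
   ([8, 4, 4, 9], 215),
   ([2, 5, 6, 10], 215),
   ([6, 10, 3, 7], 215),
   ([4, 5, 9, 6], 215),
   ([5, 1, 7, 6], 214),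
   ([9, 6, 9, 0], 214),
   ([0, 5, 2, 5], 213),
   ([3, 8, 6, 9], 214),
   ([6, 9, 2, 5], 214),
   ([7, 7, 5, 2], 213),
   ([3, 1, 8, 3], 213),
   ([5, 2, 8, 10], 212),
   ([8, 3, 0, 7], 212),
   ([3, 4, 3, 8], 211),
   ([4, 0, 8, 3], 211),
   ([4, 3, 7, 0], 211),
   ([3, 8, 7, 8], 210),
   ([7, 0, 0, 8], 210),
   ([4, 8, 4, 0], 209),
   ([7, 0, 6, 8], 210),
   ([1, 3, 5, 5], 210),
   ([5, 5, 5, 3], 210),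
   ([0, 9, 6, 6], 209),
   ([10, 8, 8, 1], 209),
   ([2, 7, 8, 1], 210),
   ([6, 5, 9, 4], 211),
   ([3, 10, 5, 6], 210),
   ([9, 4, 7, 2], 210),
   ([9, 9, 2, 7], 209),
   ([3, 0, 9, 4], 209),
   ([6, 4, 8, 0], 209),
   ([2, 7, 5, 7], 208),
   ([8, 0, 8, 7], 208),
   ([0, 7, 3, 0], 207),
   ([7, 7, 7, 4], 208),
   ([0, 8, 4, 4], 207),
   ([1, 4, 6, 3], 207),
   ([5, 10, 10, 7], 207),
   ([5, 8, 6, 1], 206),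
   ([8, 9, 1, 4], 206),
   ([2, 9, 10, 7], 206),
   ([8, 9, 9, 2], 206),
   ([1, 4, 3, 2], 205),
   ([9, 2, 5, 0], 205),
   ([7, 9, 2, 9], 204),
   ([9, 2, 8, 8], 205),
   ([8, 8, 5, 1], 205),
   ([8, 4, 3, 3], 204),
   ([7, 3, 3, 3], 205),
   ([7, 0, 4, 8], 204),
   ([6, 9, 10, 6], 204),
   ([10, 6, 6, 7], 204),
   ([7, 1, 1, 5], 203),
   ([10, 6, 9, 0], 204),
   ([9, 0, 3, 5], 204),
   ([5, 5, 2, 0], 203),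
   ([1, 6, 8, 5], 203),
   ([8, 5, 2, 0], 203),
   ([5, 6, 3, 6], 202),
   ([7, 10, 10, 5], 202),
   ([3, 6, 4, 1], 201),
   ([10, 5, 5, 7], 201),
   ([1, 7, 9, 9], 202),
   ([9, 9, 1, 6], 202),
   ([3, 8, 2, 2], 201),
   ([10, 4, 4, 5], 201),
   ([5, 1, 1, 7], 200),
   ([1, 8, 10, 4], 200),
   ([9, 7, 10, 3], 200),
   ([1, 7, 2, 4], 199),
   ([4, 9, 1, 8], 199),
   ([1, 9, 9, 5], 200),
   ([9, 5, 1, 8], 200),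
   ([8, 7, 10, 2], 200),
   ([2, 6, 3, 4], 199),
   ([10, 2, 4, 2], 199),
   ([5, 0, 1, 9], 198),
   ([8, 5, 1, 9], 200),
   ([4, 4, 3, 6], 199),
   ([6, 8, 9, 3], 199),
   ([9, 3, 7, 0], 199),
   ([9, 8, 2, 8], 198),
   ([3, 7, 9, 3], 198),
   ([6, 7, 8, 4], 198),
   ([2, 8, 5, 4], 197),
   ([8, 4, 8, 0], 197),
   ([0, 7, 3, 7], 196),
   ([8, 4, 7, 5], 197),
   ([7, 5, 7, 2], 197),
   ([0, 8, 4, 6], 196),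
   ([1, 10, 6, 6], 196),
   ([6, 6, 4, 6], 196),
   ([9, 0, 5, 5], 195),
   ([5, 7, 10, 1], 195),
   ([5, 5, 6, 4], 194),
   ([10, 1, 7, 3], 194),
   ([3, 9, 7, 3], 195),
   ([5, 7, 4, 8], 195),
   ([4, 5, 8, 2], 195),
   ([4, 8, 7, 6], 194),
   ([8, 2, 10, 4], 194),
   ([2, 2, 3, 9], 193),
   ([6, 3, 4, 4], 195),
   ([8, 0, 7, 7], 195),
   ([2, 10, 2, 5], 195),
   ([2, 5, 7, 7], 195),
   ([5, 2, 9, 6], 194),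
   ([0, 6, 9, 1], 194),
   ([9, 6, 0, 5], 193),
   ([9, 1, 2, 4], 193),
   ([4, 3, 2, 10], 192),
   ([5, 9, 9, 1], 192),
   ([4, 3, 6, 2], 192),
   ([2, 10, 7, 8], 191),
   ([6, 2, 1, 6], 191),
   ([6, 4, 5, 9], 190),
   ([6, 2, 3, 3], 191),
   ([3, 3, 2, 6], 191),
   ([10, 3, 8, 8], 190),
   ([3, 10, 0, 4], 190),
   ([0, 4, 8, 8], 190),
   ([8, 4, 0, 7], 189),
   ([8, 5, 8, 1], 189),
   ([0, 7, 3, 6], 188),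
   ([8, 1, 6, 5], 188),
   ([8, 1, 4, 2], 189),
   ([4, 2, 10, 8], 189),
   ([6, 6, 7, 9], 188),
   ([4, 10, 0, 3], 188),
   ([0, 3, 7, 9], 188),
   ([7, 6, 0, 8], 187),
   ([7, 1, 8, 6], 187),
   ([1, 5, 4, 10], 186),
   ([5, 10, 2, 2], 187),
   ([2, 2, 4, 10], 187),
   ([2, 8, 9, 9], 186),
   ([8, 3, 6, 1], 186),
   ([9, 9, 3, 8], 185),
   ([6, 1, 8, 7], 185),
   ([2, 6, 5, 10], 184),
   ([6, 10, 6, 1], 184),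
   ([0, 2, 5, 1], 184),
   ([5, 10, 0, 9], 183),
   ([5, 1, 6, 8], 183),
   ([1, 7, 6, 10], 182),
   ([5, 1, 4, 1], 183),
   ([4, 1, 2, 9], 183),
   ([3, 1, 7, 10], 184),
   ([4, 9, 8, 10], 183),
   ([8, 10, 7, 2], 184),
   ([10, 3, 3, 1], 183),
   ([8, 10, 6, 9], 184),
   ([2, 1, 4, 8], 184),
   ([4, 8, 5, 2], 184),
   ([1, 5, 7, 3], 183),
   ([2, 7, 9, 10], 183),
   ([7, 3, 9, 4], 182),
   ([9, 10, 0, 5], 182),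
   ([2, 6, 2, 1], 181),
   ([9, 10, 6, 8], 182),
   ([6, 8, 7, 4], 182),
   ([1, 7, 5, 3], 181),
   ([3, 2, 3, 6], 181),
   ([3, 6, 5, 3], 181),
   ([2, 8, 8, 5], 180),
   ([0, 4, 8, 9], 180),
   ([8, 5, 0, 7], 179),
   ([8, 9, 3, 9], 179),
   ([6, 0, 3, 2], 178),
   ([4, 3, 4, 6], 179),
   ([4, 6, 3, 2], 179),
   ([10, 7, 7, 5], 178),
   ([0, 3, 7, 8], 178),
   ([7, 5, 0, 8], 177),
   ([8, 3, 4, 3], 177),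
   ([5, 4, 7, 8], 177),
   ([2, 4, 6, 7], 177),
   ([4, 3, 9, 7], 176),
   ([6, 7, 3, 0], 176),
   ([6, 7, 5, 6], 177),
   ([5, 6, 0, 9], 177),
   ([6, 3, 6, 5], 176),
   ([1, 1, 4, 5], 176),
   ([4, 5, 6, 5], 176),
   ([2, 0, 7, 6], 175),
   ([3, 4, 10, 10], 175),
   ([7, 6, 8, 7], 174),
   ([8, 7, 4, 5], 175),
   ([7, 9, 3, 4], 174),
   ([2, 3, 6, 4], 174),
   ([6, 4, 3, 4], 174),
   ([4, 1, 9, 8], 174),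
   ([5, 7, 7, 10], 173),
   ([9, 8, 9, 2], 173),
   ([0, 5, 2, 3], 172),
   ([3, 5, 6, 3], 173),
   ([6, 3, 2, 3], 173),
   ([7, 0, 5, 8], 172),
   ([3, 9, 8, 6], 172),
   ([5, 8, 8, 2], 171),
   ([8, 6, 0, 7], 171),
   ([3, 1, 3, 5], 170),
   ([4, 7, 8, 6], 170),
   ([4, 10, 7, 4], 170),
   ([3, 5, 7, 1], 169),
   ([7, 4, 0, 8], 169),
   ([4, 4, 4, 7], 168),
   ([7, 4, 6, 2], 169),
   ([6, 2, 9, 5], 169),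
   ([1, 2, 5, 0], 169),
   ([5, 0, 5, 9], 169),
   ([0, 9, 6, 0], 168),
   ([4, 9, 10, 9], 168),
   ([6, 0, 7, 2], 167),
   ([10, 9, 8, 4], 167),
   ([2, 5, 8, 4], 168),
   ([4, 9, 3, 7], 168),
   ([6, 10, 9, 6], 168),
   ([3, 7, 5, 1], 167),
   ([9, 6, 7, 6], 167),
   ([9, 0, 2, 5], 166),
   ([3, 8, 9, 6], 166),
   ([6, 9, 8, 3], 166),
   ([2, 5, 5, 2], 165),
   ([8, 3, 8, 10], 165),
   ([0, 7, 3, 8], 164),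
   ([8, 3, 7, 0], 165),
   ([7, 0, 7, 8], 165),
   ([0, 8, 4, 0], 164),
   ([1, 3, 6, 8], 164),
   ([6, 8, 4, 0], 164),
   ([5, 5, 10, 8], 164),
   ([5, 3, 6, 6], 163),
   ([8, 1, 1, 3], 163),
   ([2, 7, 10, 8], 163),
   ([8, 1, 9, 4], 163),
   ([1, 3, 3, 10], 162),
   ([9, 4, 5, 6], 162),
   ([7, 2, 2, 7], 161),
   ([9, 4, 8, 0], 162),
   ([8, 0, 5, 7], 162),
   ([8, 7, 3, 0], 161),
   ([7, 7, 3, 0], 162),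
   ([7, 4, 4, 4], 161),
   ([6, 3, 10, 7], 161),
   ([10, 7, 6, 1], 161),
   ([7, 5, 1, 4], 160),
   ([10, 7, 9, 2], 161),
   ([9, 2, 3, 2], 161),
   ([5, 0, 2, 9], 160),
   ([1, 5, 8, 8], 160),
   ([8, 8, 2, 9], 160),
   ([5, 1, 3, 3], 159),
   ([7, 3, 10, 6], 159),
   ([3, 3, 4, 8], 158),
   ([10, 6, 5, 2], 158),
   ([6, 7, 1, 5], 157),
   ([1, 6, 9, 0], 158),
   ([9, 0, 1, 5], 158),
   ([3, 5, 2, 0], 157),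
   ([8, 5, 10, 5], 157),
   ([2, 0, 3, 6], 156),
   ([10, 5, 4, 1], 156),
   ([5, 7, 1, 6], 155),
   ([1, 7, 10, 5], 155),
   ([9, 9, 10, 4], 155),
   ([1, 6, 2, 2], 154),
   ([4, 5, 1, 7], 154),
   ([10, 4, 10, 3], 155),
   ([10, 3, 2, 4], 155),
   ([3, 1, 1, 8], 154),
   ([1, 9, 10, 3], 154),
   ([9, 5, 10, 2], 154),
   ([1, 8, 2, 6], 153),
   ([10, 2, 3, 4], 153),
   ([4, 2, 1, 9], 152),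
   ([2, 8, 10, 2], 152),
   ([8, 5, 9, 3], 152),
   ([1, 9, 3, 6], 151),
   ([9, 3, 5, 3], 151),
   ([7, 0, 2, 8], 150),
   ([9, 3, 8, 4], 151),
   ([8, 4, 5, 4], 151),
   ([8, 0, 3, 7], 150),
   ([1, 10, 7, 5], 150),
   ([7, 5, 3, 7], 150),
   ([7, 2, 4, 6], 149),
   ([6, 6, 10, 1], 149),
   ([4, 6, 5, 5], 148),
   ([10, 1, 6, 4], 148),
   ([7, 3, 1, 10], 147),
   ([3, 9, 10, 1], 147),
   ([7, 3, 8, 2], 147),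
   ([1, 10, 4, 8], 146),
   ([8, 2, 7, 6], 146),
   ([10, 4, 3, 9], 145),
   ([8, 2, 6, 3], 146),
   ([2, 10, 4, 4], 146),
   ([4, 4, 5, 8], 146),
   ([1, 4, 7, 7], 145),
   ([2, 5, 9, 1], 145),
   ([7, 7, 9, 6], 144),
   ([9, 1, 0, 5], 144),
   ([2, 4, 2, 10], 143),
   ([9, 1, 6, 2], 144),
   ([6, 2, 7, 8], 144),
   ([1, 6, 5, 9], 143),
   ([3, 10, 3, 3], 143),
   ([3, 3, 5, 9], 143),
   ([2, 6, 8, 8], 142),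
   ([0, 4, 8, 1], 142),
   ([8, 8, 0, 7], 141),
   ([8, 1, 3, 6], 141),
   ([6, 5, 3, 10], 140),
   ([4, 10, 4, 2], 141),
   ([4, 2, 3, 10], 141),
   ([10, 8, 7, 9], 140),
   ([0, 3, 7, 1], 140),
   ([7, 9, 0, 8], 139),
   ([8, 6, 4, 10], 139),
   ([5, 10, 7, 1], 139),
   ([2, 2, 6, 1], 139),
   ([4, 10, 9, 9], 138),
   ([6, 1, 3, 8], 138),
   ([8, 7, 5, 10], 137),
   ([6, 1, 5, 1], 138),
   ([5, 1, 0, 9], 138),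
   ([6, 8, 6, 10], 137),
   ([1, 0, 4, 1], 137),
   ([4, 1, 6, 10], 137),
   ([2, 9, 7, 10], 136),
   ([3, 1, 10, 0], 136),
   ([7, 10, 8, 10], 135),
   ([8, 10, 4, 1], 136),
   ([7, 2, 3, 1], 135),
   ([2, 1, 6, 9], 135),
   ([6, 9, 3, 1], 135),
   ([4, 8, 9, 10], 135),
   ([5, 2, 7, 3], 134),
   ([9, 10, 9, 4], 134),
   ([0, 5, 2, 1], 133),
   ([3, 2, 6, 8], 134),
   ([6, 8, 2, 1], 134),
   ([7, 4, 5, 3], 133),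
   ([3, 6, 8, 9], 133),
   ([5, 3, 8, 5], 132),
   ([8, 9, 0, 7], 132),
   ([3, 9, 3, 2], 131),
   ([4, 3, 8, 9], 131),
   ([4, 6, 7, 8], 131),
   ([3, 2, 7, 5], 130),
   ([7, 8, 0, 8], 130),
   ([4, 0, 4, 3], 129),
   ([7, 8, 6, 7], 130),
   ([6, 7, 9, 7], 130),
   ([3, 0, 5, 4], 129),
   ([1, 1, 5, 6], 129),
   ([5, 6, 5, 4], 129),
   ([0, 9, 6, 5], 128),
   ([4, 5, 10, 10], 128),
   ([6, 5, 7, 6], 127),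
   ([10, 10, 8, 7], 127),
   ([2, 3, 8, 7], 128),
   ([4, 5, 3, 4], 128),
   ([6, 4, 9, 8], 128),
   ([3, 4, 5, 7], 127),
   ([9, 8, 7, 10], 127),
   ([9, 2, 2, 3], 126),
   ([3, 5, 9, 8], 126),
   ([6, 3, 8, 6], 126),
   ([2, 3, 5, 8], 125),
   ([8, 6, 8, 2], 125),
   ([0, 7, 3, 5], 124),
   ([8, 6, 7, 4], 125),
   ([7, 4, 7, 1], 125),
   ([0, 8, 4, 7], 124),
   ([1, 2, 6, 2], 124),
   ([6, 2, 4, 7], 124),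
   ([9, 5, 5, 9], 123),
   ([5, 0, 10, 9], 123),
   ([5, 9, 6, 0], 122),
   ([10, 9, 7, 2], 122),
   ([8, 4, 1, 2], 121),
   ([2, 5, 10, 9], 121),
   ([8, 4, 9, 6], 121),
   ([1, 2, 3, 7], 120),
   ([9, 6, 5, 1], 120),
   ([7, 6, 2, 5], 119),
   ([9, 6, 8, 3], 120),
   ([8, 3, 5, 2], 120),
   ([8, 10, 3, 8], 119),
   ([1, 3, 7, 0], 119),
   ([7, 0, 3, 8], 119),
   ([7, 8, 4, 0], 118),
   ([6, 8, 10, 8], 118),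
   ([4, 0, 5, 3], 117),
   ([10, 8, 6, 6], 117),
   ([7, 9, 1, 3], 116),
   ([10, 8, 9, 4], 117),
   ([9, 4, 3, 10], 117),
   ([5, 6, 2, 7], 116),
   ([1, 4, 8, 0], 116),
   ([8, 0, 2, 7], 116),
   ([5, 7, 3, 0], 115),
   ([7, 7, 10, 7], 115),
   ([3, 0, 4, 4], 114),
   ([10, 7, 5, 8], 114),
   ([6, 1, 1, 4], 113),
   ([1, 5, 9, 2], 114),
   ([9, 2, 1, 4], 114),
   ([3, 2, 2, 9], 113),
   ([8, 8, 10, 6], 113),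
   ([2, 9, 3, 3], 112),
   ([10, 6, 4, 8], 112),
   ([5, 2, 1, 5], 111),
   ([1, 6, 10, 6], 111),
   ([9, 0, 10, 5], 111),
   ([1, 5, 2, 0], 110),
   ([10, 5, 3, 6], 110),
   ([4, 1, 1, 6], 109),
   ([10, 5, 10, 4], 110),
   ([10, 4, 2, 2], 110),
   ([3, 9, 1, 7], 109),
   ([0, 1, 10, 3], 109),
   ([10, 3, 1, 7], 109),
   ([2, 4, 1, 8], 108),
   ([10, 3, 10, 2], 109),
   ([10, 2, 2, 6], 109),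
   ([3, 4, 1, 9], 108),
   ([10, 2, 9, 3], 109),
   ([9, 3, 3, 6], 109),
   ([5, 3, 2, 8], 108),
   ([1, 10, 8, 4], 108),
   ([8, 4, 2, 8], 108),
   ([5, 4, 3, 7], 107),
   ([7, 5, 10, 1], 107),
   ([3, 7, 4, 6], 106),
   ([10, 1, 5, 5], 106),
   ([6, 4, 1, 10], 105),
   ([10, 1, 8, 2], 106),
   ([8, 2, 4, 8], 106),
   ([7, 6, 3, 9], 105),
   ([2, 10, 6, 3], 105),
   ([6, 3, 3, 9], 105),
   ([4, 4, 9, 1], 105),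
   ([5, 8, 7, 7], 104),
   ([9, 1, 9, 6], 104),
   ([0, 5, 2, 10], 103),
   ([3, 10, 6, 2], 104),
   ([6, 2, 2, 10], 104),
   ([7, 8, 5, 9], 103),
   ([3, 3, 8, 1], 103),
   ([5, 9, 8, 8], 102),
   ([8, 1, 0, 7], 102),
   ([3, 6, 3, 10], 101),
   ([4, 10, 8, 1], 101),
   ([4, 2, 7, 1], 101),
   ([3, 10, 7, 9], 100),
   ([7, 1, 0, 8], 100),
   ([4, 7, 4, 10], 99),
   ([7, 1, 6, 1], 100),
   ([6, 1, 9, 9], 100),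
   ([3, 8, 5, 10], 99),
   ([1, 0, 5, 1], 99),
   ([5, 1, 5, 10], 99),
   ([0, 9, 6, 10], 98),
   ([4, 1, 10, 0], 98),
   ([6, 10, 7, 10], 97),
   ([10, 0, 8, 10], 97),
   ([2, 1, 8, 10], 98),
   ([4, 1, 3, 1], 98),
   ([6, 9, 9, 10], 98),
   ([3, 1, 5, 2], 97),
   ([9, 10, 7, 3], 97),
   ([9, 4, 2, 1], 96),
   ([3, 2, 9, 10], 96),
   ([6, 8, 8, 9], 96),
   ([2, 1, 5, 3], 95),
   ([8, 9, 8, 5], 95),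
   ([0, 7, 3, 2], 94),
   ([8, 9, 7, 8], 95),
   ([7, 8, 7, 5], 95),
   ([0, 8, 4, 3], 94),
   ([1, 1, 6, 7], 94),
   ([6, 7, 4, 3], 94),
   ([9, 7, 5, 4], 93),
   ([5, 6, 10, 10], 93),
   ([5, 4, 6, 5], 92),
   ([10, 10, 7, 6], 92),
   ([8, 7, 1, 1], 91),
   ([2, 3, 10, 10], 91),
   ([8, 7, 9, 8], 91),
   ([1, 1, 3, 4], 90),
   ([9, 8, 5, 7], 90),
   ([7, 10, 2, 3], 89),
   ([9, 8, 8, 6], 90),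
   ([8, 6, 5, 8], 90),
   ([8, 2, 3, 5], 89),
   ([1, 2, 7, 4], 89),
   ([7, 4, 3, 5], 89),
   ([7, 1, 4, 7], 88),
   ([6, 2, 10, 9], 88),
   ([4, 7, 5, 9], 87),
   ([10, 9, 6, 0], 87),
   ([7, 2, 1, 2], 86),
   ([10, 9, 9, 6], 87),
   ([9, 6, 3, 7], 87),
   ([5, 1, 2, 5], 86),
   ([1, 3, 8, 3], 86),
   ([8, 3, 2, 5], 86),
   ([5, 2, 3, 8], 85),
   ([7, 0, 10, 8], 85),
   ([3, 8, 4, 0], 84),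
   ([10, 8, 5, 3], 84),
   ([6, 6, 1, 3], 83),
   ([1, 4, 9, 4], 84),
   ([9, 4, 1, 3], 84),
   ([3, 10, 2, 7], 83),
   ([8, 0, 10, 7], 83),
   ([2, 7, 3, 0], 82),
   ([10, 7, 4, 4], 82),
   ([5, 8, 1, 4], 81),
   ([1, 5, 10, 7], 81),
   ([9, 2, 10, 6], 81),
   ([1, 4, 2, 9], 80),
   ([10, 6, 3, 3], 80),
   ([4, 8, 1, 5], 79),
   ([10, 6, 10, 5], 80),
   ([10, 5, 2, 0], 80),
   ([3, 6, 1, 6], 79),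
   ([0, 1, 10, 4], 79),
   ([10, 4, 1, 6], 79),
   ([2, 2, 1, 7], 78),
   ([10, 3, 0, 10], 78),
   ([1, 7, 1, 8], 77),
   ([0, 1, 10, 2], 79),
   ([10, 2, 1, 8], 79),
   ([2, 6, 1, 9], 78),
   ([1, 10, 9, 3], 78),
   ([9, 3, 1, 9], 78),
   ([3, 6, 2, 8], 77),
   ([8, 4, 10, 1], 77),
   ([2, 8, 3, 7], 76),
   ([10, 1, 4, 6], 76),
   ([5, 5, 1, 10], 75),
   ([2, 10, 8, 2], 76),
   ([8, 2, 1, 10], 76),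
   ([4, 8, 3, 9], 75),
   ([6, 3, 9, 1], 75),
   ([3, 9, 5, 8], 74),
   ([9, 1, 7, 7], 74),
   ([9, 6, 2, 10], 73),
   ([3, 10, 9, 1], 73),
   ([6, 2, 8, 1], 73),
   ([2, 10, 5, 9], 72),
   ([8, 1, 8, 8], 72),
   ([0, 7, 3, 10], 71),
   ([8, 1, 7, 1], 72),
   ([7, 1, 7, 9], 72),
   ([0, 8, 4, 10], 71),
   ([1, 0, 6, 1], 71),
   ([6, 1, 4, 10], 71),
   ([9, 9, 5, 10], 70),
   ([5, 1, 10, 0], 70),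
   ([5, 10, 6, 10], 69),
   ([10, 0, 7, 10], 69),
   ([8, 10, 1, 0], 68),
   ([2, 1, 10, 0], 68),
   ([8, 10, 9, 10], 68),
   ([1, 0, 3, 1], 67),
   ([9, 10, 5, 2], 67),
   ([7, 3, 2, 1], 66),
   ([9, 10, 8, 9], 67),
   ([8, 9, 5, 3], 67),
   ([8, 5, 3, 2], 66),
   ([1, 1, 7, 8], 66),
   ([7, 8, 3, 2], 66),
   ([7, 5, 4, 3], 65),
   ([6, 7, 10, 10], 65),
   ([4, 3, 5, 4], 64),
   ([10, 10, 6, 5], 64),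
   ([7, 6, 1, 1], 63),
   ([10, 10, 9, 8], 64),
   ([9, 8, 3, 4], 64),
   ([5, 7, 2, 3], 63),
   ([1, 2, 8, 6], 63),
   ([8, 6, 2, 3], 63),
   ([5, 8, 3, 5], 62),
   ([7, 4, 10, 9], 62),
   ([3, 5, 4, 7], 61),
   ([10, 9, 5, 9], 61),
   ([6, 0, 1, 2], 60),
   ([1, 3, 9, 6], 61),
   ([9, 6, 1, 2], 61),
   ([3, 7, 2, 5], 60),
   ([8, 3, 10, 8], 60),
   ([2, 5, 3, 8], 59),
   ([10, 8, 4, 0], 59),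
   ([5, 3, 1, 3], 58),
   ([1, 4, 10, 8], 58),
   ([9, 4, 10, 7], 58),
   ([1, 3, 2, 7], 57),
   ([10, 7, 3, 0], 57),
   ([4, 4, 1, 4], 56),
   ([10, 7, 10, 6], 57),
   ([10, 6, 2, 9], 57),
   ([3, 3, 1, 5], 56),
   ([0, 1, 10, 5], 56),
   ([10, 5, 1, 5], 56),
   ([2, 0, 1, 6], 55),
   ([10, 4, 0, 10], 55),
   ([1, 6, 1, 7], 54),
   ([0, 10, 1, 8], 54),
   ([1, 9, 0, 1], 53),
   ([1, 10, 10, 2], 54),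
   ([10, 2, 0, 10], 54),
   ([1, 8, 1, 9], 53),
   ([9, 3, 10, 1], 53),
   ([1, 9, 2, 8], 52),
   ([10, 1, 3, 7], 52),
   ([4, 6, 1, 10], 51),
   ([2, 10, 10, 1], 51),
   ([8, 2, 9, 1], 51),
   ([1, 10, 3, 9], 50),
   ([9, 1, 5, 8], 50),
   ([7, 7, 2, 10], 49),
   ([9, 1, 8, 1], 50),
   ([8, 1, 5, 9], 50),
   ([8, 8, 3, 10], 49),
   ([1, 0, 7, 1], 49),
   ([7, 1, 3, 10], 49),
   ([7, 9, 4, 10], 48),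
   ([6, 1, 10, 0], 48),
   ([4, 10, 5, 10], 47),
   ([10, 0, 6, 10], 47),
   ([7, 10, 1, 0], 46),
   ([10, 0, 9, 10], 47),
   ([9, 10, 3, 1], 47),
   ([5, 2, 2, 1], 46),
   ([1, 1, 8, 9], 46),
   ([8, 9, 2, 1], 46),
   ([5, 3, 3, 2], 45),
   ([7, 8, 10, 10], 45),
   ([3, 2, 4, 3], 44),
   ([10, 10, 5, 4], 44),
   ([6, 5, 1, 1], 43),
   ([1, 2, 9, 8], 44),
   ([9, 8, 1, 1], 44),
   ([3, 4, 2, 3], 43),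
   ([8, 6, 10, 9], 43),
   ([2, 3, 3, 5], 42),
   ([10, 9, 4, 7], 42),
   ([5, 9, 1, 2], 41),
   ([1, 3, 10, 9], 41),
   ([9, 6, 10, 8], 41),
   ([1, 2, 2, 5], 40),
   ([10, 8, 3, 8], 40),
   ([4, 0, 1, 3], 39),
   ([10, 8, 10, 7], 40),
   ([10, 7, 2, 7], 40),
   ([3, 0, 1, 4], 39),
   ([0, 1, 10, 6], 39),
   ([10, 6, 1, 4], 39),
   ([2, 9, 1, 5], 38),
   ([10, 5, 0, 10], 38),
   ([1, 5, 1, 6], 37),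
   ([0, 10, 1, 7], 37),
   ([1, 8, 0, 1], 36),
   ([1, 10, 0, 1], 36),
   ([10, 2, 10, 1], 36),
   ([0, 10, 1, 9], 35),
   ([10, 1, 2, 8], 35),
   ([3, 7, 1, 10], 34),
   ([10, 1, 9, 1], 35),
   ([9, 1, 3, 9], 35),
   ([5, 8, 2, 10], 34),
   ([1, 0, 8, 1], 34),
   ([8, 1, 2, 10], 34),
   ([5, 9, 3, 10], 33),
   ([7, 1, 10, 0], 33),
   ([3, 10, 4, 10], 32),
   ([10, 0, 5, 10], 32),
   ([6, 10, 1, 0], 31),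
   ([1, 1, 9, 10], 32),
   ([9, 10, 1, 0], 32),
   ([3, 1, 2, 1], 31),
   ([8, 9, 10, 10], 31),
   ([2, 1, 3, 2], 30),
   ([10, 10, 4, 3], 30),
   ([5, 4, 1, 1], 29),
   ([1, 2, 10, 10], 29),
   ([9, 8, 10, 9], 29),
   ([1, 1, 2, 3], 28),
   ([10, 9, 3, 5], 28),
   ([4, 7, 1, 2], 27),
   ([10, 9, 10, 8], 28),
   ([10, 8, 2, 5], 28),
   ([3, 8, 1, 3], 27),
   ([0, 1, 10, 7], 27),
   ([10, 7, 1, 3], 27),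
   ([2, 7, 1, 4], 26),
   ([10, 6, 0, 10], 26),
   ([1, 4, 1, 5], 25),
   ([0, 10, 1, 6], 25),
   ([1, 7, 0, 1], 24),
   ([0, 1, 10, 1], 25),
   ([10, 1, 1, 9], 25),
   ([2, 8, 1, 10], 24),
   ([1, 0, 9, 1], 24),
   ([9, 1, 1, 10], 24),
   ([3, 9, 2, 10], 23),
   ([8, 1, 10, 0], 23),
   ([2, 10, 3, 10], 22),
   ([10, 0, 4, 10], 22),
   ([5, 10, 1, 0], 21),
   ([1, 1, 10, 0], 21),
   ([9, 10, 10, 10], 21),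
   ([1, 0, 2, 1], 20),
   ([10, 10, 3, 2], 20),
   ([4, 3, 1, 1], 19),
   ([10, 10, 10, 9], 20),
   ([10, 9, 2, 3], 20),
   ([3, 5, 1, 2], 19),
   ([0, 1, 10, 8], 19),
   ([10, 8, 1, 2], 19),
   ([2, 5, 1, 3], 18),
   ([10, 7, 0, 10], 18),
   ([1, 3, 1, 4], 17),
   ([0, 10, 1, 5], 17),
   ([1, 6, 0, 1], 16),
   ([1, 0, 10, 1], 16),
   ([10, 1, 0, 10], 16),
   ([1, 9, 1, 10], 15),
   ([9, 1, 10, 0], 15),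
   ([1, 10, 2, 10], 14),
   ([10, 0, 3, 10], 14),
   ([4, 10, 1, 0], 13),
   ([10, 0, 10, 10], 14),
   ([10, 10, 2, 1], 14),
   ([3, 2, 1, 1], 13),
   ([0, 1, 10, 9], 13),
   ([10, 9, 1, 1], 13),
   ([2, 3, 1, 2], 12),
   ([10, 8, 0, 10], 12),
   ([1, 2, 1, 3], 11),
   ([0, 10, 1, 4], 11),
   ([1, 5, 0, 1], 10),
   ([10, 1, 10, 0], 11),
   ([0, 10, 1, 10], 10),
   ([10, 0, 2, 10], 10),
   ([3, 10, 1, 0], 9),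
   ([0, 1, 10, 10], 9),
   ([10, 10, 1, 0], 9),
   ([2, 1, 1, 1], 8),
   ([10, 9, 0, 10], 8),
   ([1, 1, 1, 2], 7),
   ([0, 10, 1, 3], 7),
   ([1, 4, 0, 1], 6),
   ([0, 1, 10, 0], 6),
   ([10, 0, 1, 10], 6),
   ([2, 10, 1, 0], 5),
   ([10, 10, 0, 10], 5),
   ([1, 0, 1, 1], 4),
   ([0, 10, 1, 2], 4),
   ([1, 3, 0, 1], 3),
   ([10, 0, 0, 10], 3),
   ([1, 10, 1, 0], 2),
   ([0, 10, 1, 1], 2),
   ([1, 2, 0, 1], 1),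
   ([0, 10, 1, 0], 1),
   ([1, 1, 0, 1], 0),
   ([1, 0, 0, 1], 0)]

set_option maxRecDepth 100000 in
/-- The position of each matrix in the chain, by first row and then second row. -/
def posN : List (List ℕ) :=
  [[0, 0, 0, 0, 0, 0, 0, 0, 0, 0, 0, 0, 0, 0, 0, 0, 0, 0, 0, 0, 0, 0, 0, 0, 0, 0, 0, 0, 0, 0, 0, 0, 0, 0, 0, 0, 0, 0, 0, 0, 0, 0, 0, 0, 0, 0, 0, 0, 0, 0, 0, 0, 0, 0, 0, 0, 0, 0, 0, 0, 0, 0, 0, 0, 0, 0, 0, 0, 0, 0, 0, 0, 0, 0, 0, 0, 0, 0, 0, 0, 0, 0, 0, 0, 0, 0, 0, 0, 0, 0, 0, 0, 0, 0, 0, 0, 0, 0, 0, 0, 0, 0, 0, 0, 0, 0, 0, 0, 0, 0, 0, 0, 0, 0, 0, 0, 0, 0, 0, 0, 0],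
   [0, 0, 0, 0, 0, 0, 0, 0, 0, 0, 0, 0, 0, 0, 0, 0, 0, 0, 0, 0, 0, 0, 0, 0, 0, 0, 0, 0, 0, 0, 0, 0, 0, 0, 0, 0, 0, 0, 0, 0, 0, 0, 0, 0, 0, 0, 0, 0, 0, 0, 0, 0, 0, 0, 0, 0, 0, 0, 0, 0, 0, 0, 0, 0, 0, 0, 0, 0, 0, 0, 0, 0, 0, 0, 0, 0, 0, 0, 0, 0, 0, 0, 0, 0, 0, 0, 0, 0, 0, 0, 0, 0, 0, 0, 0, 0, 0, 0, 0, 0, 0, 0, 0, 0, 0, 0, 0, 0, 0, 0, 1306, 1253, 1083, 971, 1078, 1155, 1209, 1246, 1271, 1288, 1299],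
   [0, 0, 0, 0, 0, 0, 0, 0, 0, 0, 0, 0, 0, 0, 0, 0, 0, 0, 0, 0, 0, 0, 0, 0, 0, 0, 0, 0, 0, 0, 0, 0, 0, 0, 0, 0, 0, 0, 0, 0, 0, 0, 0, 0, 0, 0, 0, 0, 0, 0, 0, 0, 0, 0, 0, 299, 689, 84, 244, 265, 123, 508, 38, 220, 428, 460, 0, 0, 0, 0, 0, 0, 0, 0, 0, 0, 0, 0, 0, 0, 0, 0, 0, 0, 0, 0, 0, 0, 0, 0, 0, 0, 0, 0, 0, 0, 0, 0, 0, 0, 0, 0, 0, 0, 0, 0, 0, 0, 0, 0, 0, 0, 0, 0, 0, 0, 0, 0, 0, 0, 0],
   [0, 0, 0, 0, 0, 0, 0, 0, 0, 0, 0, 0, 0, 0, 0, 0, 0, 0, 0, 0, 0, 0, 0, 0, 0, 0, 0, 0, 0, 0, 0, 0, 0, 0, 0, 0, 0, 0, 0, 0, 0, 0, 0, 0, 0, 0, 0, 0, 0, 0, 0, 0, 0, 0, 0, 0, 0, 0, 0, 0, 0, 0, 0, 0, 0, 0, 0, 0, 0, 0, 0, 0, 0, 0, 0, 0, 0, 320, 865, 258, 209, 535, 498, 446, 183, 720, 677, 80, 0, 0, 0, 0, 0, 0, 0, 0, 0, 0, 0, 0, 0, 0, 0, 0, 0, 0, 0, 0, 0, 0, 0, 0, 0, 0, 0, 0, 0, 0, 0, 0, 0],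
   [0, 0, 0, 0, 0, 0, 0, 0, 0, 0, 0, 0, 0, 0, 0, 0, 0, 0, 0, 0, 0, 0, 0, 0, 0, 0, 0, 0, 0, 0, 0, 0, 0, 0, 0, 0, 0, 0, 0, 0, 0, 0, 0, 0, 0, 0, 0, 0, 0, 0, 0, 0, 0, 0, 0, 0, 0, 0, 0, 0, 0, 0, 0, 0, 0, 0, 0, 0, 0, 0, 0, 0, 0, 0, 0, 0, 0, 0, 0, 0, 0, 0, 0, 0, 0, 0, 0, 0, 201, 858, 287, 315, 435, 490, 529, 217, 668, 713, 117, 0, 0, 0, 0, 0, 0, 0, 0, 0, 0, 0, 0, 0, 0, 0, 0, 0, 0, 0, 0, 0, 0],
   [0, 0, 0, 0, 0, 0, 0, 0, 0, 0, 0, 0, 0, 0, 0, 0, 0, 0, 0, 0, 0, 0, 24, 888, 59, 742, 421, 554, 238, 329, 387, 138, 995, 0, 0, 0, 0, 0, 0, 0, 0, 0, 0, 0, 0, 0, 0, 0, 0, 0, 0, 0, 0, 0, 0, 0, 0, 0, 0, 0, 0, 0, 0, 0, 0, 0, 0, 0, 0, 0, 0, 0, 0, 0, 0, 0, 0, 0, 0, 0, 0, 0, 0, 0, 0, 0, 0, 0, 0, 0, 0, 0, 0, 0, 0, 0, 0, 0, 0, 0, 0, 0, 0, 0, 0, 0, 0, 0, 0, 0, 0, 0, 0, 0, 0, 0, 0, 0, 0, 0, 0],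
   [0, 0, 0, 0, 0, 0, 0, 0, 0, 0, 0, 0, 0, 0, 0, 0, 0, 0, 0, 0, 0, 0, 0, 0, 0, 0, 0, 0, 0, 0, 0, 0, 0, 0, 0, 0, 0, 0, 0, 0, 0, 0, 0, 0, 0, 0, 0, 0, 0, 0, 0, 0, 0, 0, 0, 0, 0, 0, 0, 0, 0, 0, 0, 0, 0, 0, 0, 0, 0, 0, 0, 0, 0, 0, 0, 0, 0, 0, 0, 0, 0, 0, 0, 0, 0, 0, 0, 0, 0, 0, 0, 0, 0, 0, 0, 0, 0, 0, 0, 186, 655, 91, 31, 235, 103, 418, 261, 278, 451, 478, 0, 0, 0, 0, 0, 0, 0, 0, 0, 0, 0],
   [0, 0, 0, 0, 0, 0, 0, 0, 0, 0, 0, 0, 0, 0, 0, 0, 0, 0, 0, 0, 0, 0, 0, 0, 0, 0, 0, 0, 0, 0, 0, 0, 0, 581, 289, 1027, 351, 119, 920, 671, 634, 773, 492, 1104, 0, 0, 0, 0, 0, 0, 0, 0, 0, 0, 0, 0, 0, 0, 0, 0, 0, 0, 0, 0, 0, 0, 0, 0, 0, 0, 0, 0, 0, 0, 0, 0, 0, 0, 0, 0, 0, 0, 0, 0, 0, 0, 0, 0, 0, 0, 0, 0, 0, 0, 0, 0, 0, 0, 0, 0, 0, 0, 0, 0, 0, 0, 0, 0, 0, 0, 0, 0, 0, 0, 0, 0, 0, 0, 0, 0, 0],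
   [0, 0, 0, 0, 0, 0, 0, 0, 0, 0, 0, 0, 0, 0, 0, 0, 0, 0, 0, 0, 0, 0, 0, 0, 0, 0, 0, 0, 0, 0, 0, 0, 0, 0, 0, 0, 0, 0, 0, 0, 0, 0, 0, 0, 776, 152, 206, 1030, 583, 54, 637, 923, 353, 66, 1107, 0, 0, 0, 0, 0, 0, 0, 0, 0, 0, 0, 0, 0, 0, 0, 0, 0, 0, 0, 0, 0, 0, 0, 0, 0, 0, 0, 0, 0, 0, 0, 0, 0, 0, 0, 0, 0, 0, 0, 0, 0, 0, 0, 0, 0, 0, 0, 0, 0, 0, 0, 0, 0, 0, 0, 0, 0, 0, 0, 0, 0, 0, 0, 0, 0, 0],
   [0, 0, 0, 0, 0, 0, 0, 0, 0, 0, 0, 0, 0, 0, 0, 0, 0, 0, 0, 0, 0, 0, 0, 0, 0, 0, 0, 0, 0, 0, 0, 0, 0, 0, 0, 0, 0, 0, 0, 0, 0, 0, 0, 0, 0, 0, 0, 0, 0, 0, 0, 0, 0, 0, 0, 0, 0, 0, 0, 0, 0, 0, 0, 0, 0, 0, 759, 340, 45, 268, 402, 906, 570, 143, 463, 106, 1013, 0, 0, 0, 0, 0, 0, 0, 0, 0, 0, 0, 0, 0, 0, 0, 0, 0, 0, 0, 0, 0, 0, 0, 0, 0, 0, 0, 0, 0, 0, 0, 0, 0, 0, 0, 0, 0, 0, 0, 0, 0, 0, 0, 0],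
   [0, 0, 0, 0, 0, 0, 0, 0, 0, 0, 0, 1317, 1315, 1311, 1304, 1293, 1276, 1251, 1214, 1160, 1218, 1296, 0, 0, 0, 0, 0, 0, 0, 0, 0, 0, 0, 0, 0, 0, 0, 0, 0, 0, 0, 0, 0, 0, 0, 0, 0, 0, 0, 0, 0, 0, 0, 0, 0, 0, 0, 0, 0, 0, 0, 0, 0, 0, 0, 0, 0, 0, 0, 0, 0, 0, 0, 0, 0, 0, 0, 0, 0, 0, 0, 0, 0, 0, 0, 0, 0, 0, 0, 0, 0, 0, 0, 0, 0, 0, 0, 0, 0, 0, 0, 0, 0, 0, 0, 0, 0, 0, 0, 0, 0, 0, 0, 0, 0, 0, 0, 0, 0, 0, 0],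
   [0, 1319, 0, 0, 0, 0, 0, 0, 0, 0, 0, 0, 1310, 0, 0, 0, 0, 0, 0, 0, 0, 0, 0, 1265, 0, 0, 0, 0, 0, 0, 0, 0, 0, 0, 1117, 0, 0, 0, 0, 0, 0, 0, 0, 0, 0, 876, 0, 0, 0, 0, 0, 0, 0, 0, 0, 0, 1011, 0, 0, 0, 0, 0, 0, 0, 0, 0, 0, 1108, 0, 0, 0, 0, 0, 0, 0, 0, 0, 0, 1177, 0, 0, 0, 0, 0, 0, 0, 0, 0, 0, 1224, 0, 0, 0, 0, 0, 0, 0, 0, 0, 0, 1256, 0, 0, 0, 0, 0, 0, 0, 0, 0, 0, 1278, 0, 0, 0, 0, 0, 0, 0, 0, 0],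
   [0, 1318, 0, 0, 0, 0, 0, 0, 0, 0, 0, 0, 0, 1303, 0, 0, 0, 0, 0, 0, 0, 0, 0, 0, 0, 1240, 0, 0, 0, 0, 0, 0, 0, 0, 0, 0, 0, 1040, 0, 0, 0, 0, 0, 0, 0, 0, 0, 0, 0, 730, 0, 0, 0, 0, 0, 0, 0, 0, 0, 0, 0, 904, 0, 0, 0, 0, 0, 0, 0, 0, 0, 0, 0, 1031, 0, 0, 0, 0, 0, 0, 0, 0, 0, 0, 0, 1123, 0, 0, 0, 0, 0, 0, 0, 0, 0, 0, 0, 1187, 0, 0, 0, 0, 0, 0, 0, 0, 0, 0, 0, 1231, 1263, 0, 0, 0, 0, 0, 0, 0, 0, 0, 0],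
   [0, 1316, 0, 0, 0, 0, 0, 0, 0, 0, 0, 0, 0, 0, 1292, 0, 0, 0, 0, 0, 0, 0, 0, 0, 0, 0, 0, 1203, 0, 0, 0, 0, 0, 0, 0, 0, 0, 0, 0, 0, 933, 0, 0, 0, 0, 0, 0, 0, 0, 0, 0, 0, 0, 543, 0, 757, 0, 0, 0, 0, 0, 0, 0, 0, 0, 0, 0, 0, 924, 0, 0, 0, 0, 0, 0, 0, 0, 0, 0, 0, 0, 1046, 0, 0, 0, 0, 0, 0, 0, 0, 0, 0, 0, 0, 1133, 0, 0, 0, 0, 0, 0, 0, 0, 0, 0, 0, 0, 1194, 0, 0, 0, 0, 0, 0, 0, 0, 0, 0, 0, 0, 1238],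
   [0, 1312, 0, 0, 0, 0, 0, 0, 0, 0, 0, 0, 0, 0, 0, 1275, 0, 0, 0, 0, 0, 0, 0, 0, 0, 0, 0, 0, 0, 1149, 0, 0, 0, 0, 0, 0, 0, 0, 0, 0, 0, 0, 0, 784, 0, 0, 441, 0, 0, 0, 0, 0, 0, 0, 0, 0, 0, 0, 0, 0, 568, 0, 0, 0, 0, 0, 0, 0, 0, 0, 0, 0, 0, 0, 777, 0, 0, 939, 0, 0, 0, 0, 0, 0, 0, 0, 0, 0, 0, 0, 0, 1056, 0, 0, 0, 0, 0, 0, 0, 0, 0, 0, 0, 0, 0, 1140, 0, 0, 0, 0, 0, 0, 0, 0, 0, 0, 0, 0, 0, 1201, 0],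
   [0, 1305, 0, 0, 0, 0, 0, 0, 0, 0, 0, 0, 0, 0, 0, 0, 1250, 0, 0, 0, 0, 0, 0, 0, 0, 0, 0, 0, 0, 0, 0, 1072, 0, 0, 0, 590, 0, 0, 0, 0, 0, 0, 0, 0, 0, 0, 0, 0, 0, 0, 253, 0, 0, 0, 0, 0, 0, 0, 0, 0, 0, 0, 0, 0, 0, 338, 0, 0, 0, 584, 0, 0, 0, 0, 0, 0, 0, 0, 0, 0, 0, 0, 0, 0, 847, 0, 0, 0, 949, 0, 0, 0, 0, 0, 0, 0, 0, 0, 0, 0, 0, 0, 0, 1063, 0, 0, 0, 0, 0, 0, 0, 0, 0, 0, 0, 0, 0, 0, 1147, 0, 0],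
   [0, 1294, 0, 0, 0, 0, 0, 0, 0, 0, 0, 0, 0, 0, 0, 0, 0, 1213, 0, 0, 0, 0, 965, 0, 0, 0, 0, 0, 0, 0, 0, 0, 0, 0, 0, 0, 0, 0, 360, 0, 0, 0, 0, 0, 0, 0, 0, 0, 0, 0, 0, 0, 0, 0, 680, 0, 0, 0, 0, 169, 0, 0, 0, 0, 0, 0, 0, 0, 0, 0, 0, 0, 0, 0, 0, 354, 0, 0, 0, 0, 702, 0, 0, 0, 0, 0, 0, 0, 0, 0, 0, 0, 0, 0, 0, 0, 798, 0, 0, 0, 0, 956, 0, 0, 0, 0, 0, 0, 0, 0, 0, 0, 0, 0, 0, 0, 0, 1070, 0, 0, 0],
   [0, 1277, 0, 0, 0, 0, 0, 0, 0, 0, 0, 0, 0, 0, 0, 0, 0, 0, 1159, 0, 0, 0, 0, 0, 814, 0, 0, 0, 0, 0, 0, 0, 0, 0, 0, 0, 0, 0, 0, 0, 0, 454, 0, 0, 0, 0, 0, 501, 0, 0, 0, 0, 0, 0, 0, 0, 0, 0, 0, 0, 0, 0, 0, 0, 854, 0, 0, 0, 0, 0, 193, 0, 0, 0, 0, 0, 0, 0, 0, 0, 0, 0, 0, 0, 0, 0, 0, 520, 0, 0, 0, 0, 0, 604, 0, 0, 0, 0, 0, 805, 0, 0, 0, 0, 0, 0, 0, 0, 0, 0, 0, 0, 0, 0, 0, 0, 963, 0, 0, 0, 0],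
   [0, 1252, 0, 0, 0, 0, 0, 0, 0, 0, 0, 0, 0, 0, 0, 0, 0, 0, 0, 1082, 0, 0, 0, 0, 0, 0, 617, 0, 0, 0, 0, 0, 0, 263, 0, 0, 0, 0, 0, 0, 0, 0, 0, 0, 0, 0, 0, 0, 0, 0, 0, 295, 0, 0, 0, 0, 0, 0, 709, 0, 0, 0, 0, 0, 0, 0, 0, 0, 0, 0, 0, 0, 0, 0, 0, 0, 692, 0, 0, 0, 0, 0, 0, 308, 0, 0, 0, 0, 0, 0, 409, 0, 0, 0, 0, 0, 0, 0, 0, 0, 0, 0, 0, 0, 0, 0, 0, 0, 610, 0, 0, 0, 0, 0, 0, 812, 0, 0, 0, 0, 0],
   [0, 1215, 0, 0, 0, 0, 0, 0, 0, 0, 0, 0, 0, 0, 0, 0, 0, 0, 0, 0, 1164, 0, 0, 0, 0, 0, 0, 0, 821, 0, 0, 0, 0, 0, 0, 0, 197, 0, 0, 0, 0, 0, 0, 0, 122, 0, 0, 0, 0, 0, 0, 0, 0, 0, 0, 0, 0, 0, 0, 0, 0, 0, 0, 527, 0, 0, 0, 0, 0, 0, 0, 511, 0, 0, 0, 0, 0, 0, 0, 126, 0, 0, 0, 0, 0, 0, 0, 0, 0, 0, 0, 0, 0, 0, 0, 0, 0, 0, 469, 0, 0, 0, 0, 0, 0, 0, 368, 0, 0, 0, 0, 0, 0, 0, 615, 0, 0, 0, 0, 0, 0],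
   [0, 1161, 0, 0, 0, 0, 0, 0, 0, 0, 0, 0, 0, 0, 0, 0, 0, 0, 0, 0, 0, 1280, 0, 0, 0, 0, 0, 0, 0, 0, 1166, 0, 0, 0, 0, 0, 0, 0, 0, 826, 0, 0, 0, 0, 0, 0, 0, 0, 163, 0, 0, 0, 0, 0, 0, 0, 0, 313, 0, 0, 0, 0, 0, 0, 0, 0, 302, 0, 0, 0, 0, 0, 0, 0, 0, 0, 0, 0, 0, 0, 0, 0, 0, 0, 0, 0, 157, 0, 0, 0, 0, 0, 0, 0, 0, 374, 0, 0, 0, 0, 0, 0, 0, 0, 619, 0, 0, 0, 0, 0, 0, 0, 0, 819, 0, 0, 0, 0, 0, 0, 0],
   [0, 1216, 0, 0, 0, 0, 0, 0, 0, 0, 0, 1314, 0, 0, 0, 0, 0, 0, 0, 0, 0, 0, 0, 0, 0, 0, 0, 0, 0, 0, 0, 0, 1282, 0, 0, 0, 0, 0, 0, 0, 0, 0, 1171, 0, 0, 0, 0, 0, 0, 0, 0, 0, 841, 0, 0, 0, 0, 0, 0, 0, 0, 0, 400, 0, 0, 0, 0, 0, 0, 0, 0, 0, 638, 0, 0, 0, 0, 0, 0, 0, 0, 0, 832, 0, 0, 0, 0, 0, 0, 0, 0, 0, 980, 0, 0, 0, 0, 0, 0, 0, 0, 0, 1086, 0, 0, 0, 0, 0, 0, 0, 0, 0, 1162, 0, 0, 0, 0, 0, 0, 0, 0],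
   [0, 0, 0, 0, 0, 0, 43, 0, 0, 0, 0, 0, 0, 0, 0, 0, 0, 1157, 0, 0, 0, 0, 0, 0, 0, 0, 0, 0, 71, 0, 0, 0, 0, 0, 0, 0, 0, 0, 0, 809, 0, 0, 0, 0, 0, 0, 0, 0, 0, 0, 35, 0, 0, 0, 0, 0, 0, 0, 0, 0, 0, 150, 0, 0, 0, 0, 0, 0, 0, 0, 0, 0, 173, 0, 0, 0, 0, 0, 0, 0, 0, 0, 0, 732, 0, 0, 0, 0, 0, 0, 0, 0, 0, 0, 145, 0, 0, 0, 0, 0, 0, 0, 0, 0, 0, 309, 0, 0, 0, 0, 0, 0, 0, 0, 0, 0, 358, 0, 0, 0, 0],
   [0, 0, 0, 0, 0, 0, 234, 0, 0, 0, 0, 0, 1301, 0, 0, 0, 0, 0, 0, 0, 0, 0, 0, 0, 0, 0, 0, 0, 0, 475, 0, 0, 0, 0, 0, 1235, 0, 0, 0, 0, 0, 0, 0, 0, 0, 0, 0, 0, 0, 0, 0, 0, 700, 0, 0, 0, 0, 0, 1025, 0, 0, 0, 0, 0, 0, 0, 0, 0, 0, 0, 0, 0, 0, 0, 0, 883, 0, 0, 0, 0, 0, 484, 0, 0, 0, 0, 0, 0, 0, 0, 0, 0, 0, 0, 0, 0, 0, 0, 1017, 0, 0, 0, 0, 0, 297, 0, 0, 0, 0, 0, 1115, 0, 0, 0, 0, 0, 0, 0, 0, 0, 0],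
   [0, 0, 0, 0, 0, 0, 214, 0, 0, 0, 0, 0, 0, 0, 0, 0, 0, 0, 1080, 0, 0, 0, 0, 0, 0, 0, 0, 0, 0, 0, 450, 0, 0, 0, 0, 0, 0, 0, 0, 0, 0, 0, 649, 0, 0, 0, 0, 0, 0, 0, 0, 0, 0, 0, 682, 41, 0, 0, 0, 0, 0, 0, 0, 0, 0, 0, 0, 869, 0, 0, 0, 0, 0, 0, 0, 0, 0, 0, 0, 545, 0, 0, 0, 0, 0, 0, 0, 0, 0, 0, 0, 215, 0, 0, 0, 0, 0, 0, 0, 0, 0, 0, 0, 127, 0, 0, 0, 0, 0, 0, 0, 0, 0, 0, 0, 153, 0, 0, 0, 0, 0],
   [0, 0, 0, 0, 0, 0, 90, 0, 0, 0, 0, 0, 0, 1290, 0, 0, 0, 0, 0, 0, 0, 0, 0, 0, 0, 0, 0, 0, 0, 0, 0, 276, 0, 0, 0, 0, 0, 0, 1198, 0, 0, 0, 0, 0, 0, 518, 0, 0, 0, 0, 0, 0, 0, 0, 0, 0, 0, 0, 0, 0, 0, 0, 0, 918, 0, 0, 0, 0, 0, 0, 737, 0, 0, 0, 0, 0, 0, 283, 0, 0, 0, 0, 0, 0, 0, 0, 0, 0, 0, 0, 0, 0, 0, 0, 0, 910, 0, 0, 0, 0, 0, 0, 165, 0, 0, 0, 0, 0, 0, 0, 0, 0, 0, 0, 0, 0, 0, 0, 0, 0, 1038],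
   [0, 0, 0, 0, 0, 0, 81, 0, 0, 0, 0, 0, 0, 0, 0, 0, 0, 0, 0, 973, 0, 0, 0, 0, 0, 0, 0, 0, 0, 0, 0, 0, 851, 0, 472, 0, 0, 0, 0, 0, 0, 0, 0, 0, 0, 0, 0, 503, 0, 0, 0, 0, 0, 0, 0, 0, 0, 0, 0, 0, 37, 0, 0, 0, 0, 0, 0, 0, 0, 0, 0, 0, 0, 724, 0, 0, 0, 0, 0, 0, 0, 0, 0, 0, 0, 0, 444, 0, 170, 0, 0, 0, 0, 0, 0, 0, 0, 0, 0, 0, 0, 21, 0, 0, 0, 0, 0, 0, 0, 0, 0, 0, 0, 0, 25, 0, 0, 0, 0, 0, 0],
   [0, 0, 0, 0, 0, 0, 185, 0, 0, 0, 0, 0, 0, 0, 1273, 0, 0, 0, 0, 0, 0, 0, 112, 0, 0, 0, 0, 0, 0, 0, 0, 0, 0, 0, 0, 0, 0, 0, 0, 0, 0, 1144, 0, 0, 0, 0, 0, 0, 0, 306, 0, 0, 0, 0, 0, 0, 0, 771, 0, 0, 0, 0, 0, 0, 0, 0, 0, 0, 0, 0, 0, 0, 0, 0, 0, 0, 549, 0, 0, 0, 0, 0, 0, 0, 653, 0, 0, 0, 0, 0, 0, 0, 763, 0, 0, 0, 0, 0, 0, 0, 848, 0, 0, 0, 0, 0, 0, 0, 0, 0, 0, 0, 0, 0, 0, 0, 0, 0, 0, 931, 0],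
   [0, 0, 0, 0, 0, 0, 11, 0, 0, 0, 0, 0, 0, 0, 0, 0, 0, 0, 0, 0, 1085, 0, 0, 706, 0, 0, 0, 0, 0, 0, 0, 0, 0, 0, 0, 0, 0, 622, 0, 0, 0, 0, 0, 0, 0, 0, 0, 0, 0, 0, 0, 296, 0, 0, 0, 0, 0, 0, 0, 0, 0, 0, 0, 0, 0, 687, 0, 0, 538, 0, 0, 0, 0, 0, 0, 0, 0, 0, 0, 0, 0, 0, 256, 0, 0, 0, 0, 0, 0, 0, 0, 0, 0, 0, 0, 0, 857, 0, 0, 36, 0, 0, 0, 0, 0, 0, 0, 0, 0, 0, 0, 0, 0, 198, 0, 0, 0, 0, 0, 0, 0],
   [0, 0, 0, 0, 0, 0, 70, 0, 0, 0, 0, 0, 0, 0, 0, 1248, 0, 0, 0, 0, 0, 0, 0, 0, 17, 0, 0, 0, 0, 0, 0, 0, 0, 1067, 0, 0, 0, 0, 0, 0, 0, 0, 0, 0, 0, 0, 0, 0, 0, 0, 0, 0, 0, 124, 0, 0, 0, 0, 0, 0, 0, 0, 579, 0, 0, 0, 0, 0, 0, 0, 0, 325, 0, 0, 0, 0, 0, 0, 0, 0, 476, 0, 0, 0, 0, 0, 0, 0, 0, 572, 0, 0, 0, 0, 0, 0, 0, 0, 0, 0, 0, 0, 0, 0, 0, 0, 0, 0, 0, 703, 0, 0, 0, 0, 0, 0, 0, 0, 782, 0, 0],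
   [0, 0, 0, 0, 0, 0, 60, 0, 0, 0, 0, 0, 0, 0, 0, 0, 0, 0, 0, 0, 0, 1255, 0, 0, 0, 524, 0, 0, 0, 0, 0, 0, 0, 0, 0, 0, 0, 0, 0, 0, 1090, 0, 0, 0, 164, 0, 0, 0, 0, 0, 0, 0, 0, 0, 0, 0, 0, 0, 0, 632, 0, 0, 0, 0, 0, 0, 0, 0, 0, 0, 0, 0, 0, 0, 383, 0, 0, 0, 102, 0, 0, 0, 0, 0, 0, 0, 0, 0, 0, 0, 0, 0, 0, 712, 0, 0, 0, 0, 0, 0, 0, 0, 0, 0, 0, 0, 0, 0, 683, 0, 0, 0, 824, 0, 0, 0, 0, 0, 0, 0, 0],
   [0, 0, 0, 0, 0, 0, 8, 0, 0, 0, 0, 0, 0, 0, 0, 0, 1211, 0, 0, 0, 0, 0, 0, 0, 0, 0, 189, 0, 0, 0, 0, 0, 0, 0, 0, 0, 960, 0, 0, 0, 0, 0, 0, 0, 0, 0, 20, 0, 0, 0, 0, 0, 0, 0, 0, 0, 349, 0, 0, 0, 0, 0, 0, 0, 0, 0, 134, 0, 0, 0, 0, 0, 0, 0, 0, 0, 0, 0, 0, 0, 0, 0, 0, 0, 0, 0, 0, 878, 0, 0, 0, 0, 0, 0, 0, 0, 0, 342, 0, 0, 0, 0, 0, 0, 0, 0, 0, 521, 0, 0, 0, 0, 0, 0, 0, 0, 0, 588, 0, 0, 0],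
   [0, 0, 0, 0, 0, 0, 417, 0, 0, 0, 0, 1308, 0, 0, 0, 0, 0, 0, 0, 0, 0, 0, 0, 0, 0, 0, 0, 652, 0, 0, 0, 0, 0, 0, 0, 0, 0, 0, 0, 0, 0, 0, 0, 1260, 0, 0, 0, 0, 845, 0, 0, 0, 0, 0, 0, 0, 0, 0, 0, 0, 0, 0, 0, 0, 1102, 0, 0, 0, 0, 990, 0, 0, 0, 0, 0, 0, 0, 0, 0, 0, 0, 0, 0, 0, 0, 661, 0, 0, 0, 0, 1093, 0, 0, 0, 0, 0, 0, 0, 0, 0, 0, 0, 0, 0, 0, 0, 504, 0, 0, 0, 0, 1169, 0, 0, 0, 0, 0, 0, 0, 0, 0],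
   [0, 0, 0, 0, 50, 0, 0, 0, 0, 0, 0, 0, 0, 0, 0, 1208, 0, 0, 0, 0, 0, 0, 0, 0, 0, 0, 370, 0, 0, 0, 0, 0, 0, 0, 0, 0, 0, 130, 0, 0, 0, 0, 0, 0, 0, 0, 0, 0, 953, 0, 0, 0, 0, 0, 0, 0, 0, 0, 0, 903, 0, 0, 0, 0, 0, 0, 0, 0, 0, 0, 330, 0, 0, 0, 0, 0, 0, 0, 0, 0, 0, 335, 0, 0, 0, 0, 0, 0, 0, 0, 0, 0, 391, 0, 0, 0, 0, 0, 0, 0, 0, 0, 0, 577, 0, 0, 0, 0, 0, 0, 0, 0, 0, 0, 3, 0, 0, 0, 0, 0, 0],
   [0, 0, 0, 0, 13, 0, 0, 0, 0, 0, 0, 0, 0, 0, 0, 0, 0, 0, 0, 818, 0, 0, 0, 1233, 0, 0, 0, 0, 0, 0, 0, 0, 0, 0, 0, 0, 0, 0, 749, 0, 0, 0, 0, 0, 0, 0, 0, 0, 0, 0, 0, 0, 0, 468, 0, 0, 0, 1020, 0, 0, 0, 0, 0, 0, 0, 0, 0, 0, 0, 0, 0, 0, 99, 0, 0, 0, 0, 0, 0, 0, 0, 0, 0, 0, 0, 0, 0, 695, 0, 0, 0, 558, 0, 0, 0, 0, 0, 0, 0, 0, 0, 0, 0, 0, 0, 0, 67, 0, 0, 0, 879, 0, 0, 0, 0, 0, 0, 0, 0, 0, 0],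
   [0, 0, 0, 0, 489, 0, 0, 0, 0, 0, 0, 0, 1287, 0, 0, 0, 0, 0, 0, 0, 0, 0, 0, 0, 0, 0, 0, 0, 0, 0, 0, 958, 0, 0, 0, 0, 0, 0, 0, 710, 0, 0, 0, 0, 0, 0, 0, 1191, 0, 0, 0, 0, 0, 0, 0, 344, 0, 0, 0, 0, 0, 0, 0, 0, 0, 0, 0, 0, 0, 0, 0, 0, 0, 0, 889, 0, 0, 0, 0, 0, 0, 0, 898, 0, 0, 0, 0, 0, 0, 0, 249, 0, 0, 0, 0, 0, 0, 0, 0, 0, 0, 0, 0, 0, 0, 0, 0, 0, 0, 1023, 0, 0, 0, 0, 0, 0, 0, 254, 0, 0, 0],
   [0, 0, 0, 0, 434, 0, 0, 0, 0, 0, 0, 0, 0, 0, 0, 0, 1154, 0, 0, 0, 0, 0, 0, 0, 0, 0, 0, 0, 665, 0, 0, 0, 0, 0, 0, 0, 0, 0, 0, 0, 393, 0, 0, 0, 0, 0, 0, 0, 0, 0, 0, 0, 802, 0, 0, 0, 0, 0, 0, 0, 0, 0, 0, 0, 856, 0, 0, 0, 0, 0, 0, 0, 0, 0, 0, 0, 139, 199, 0, 0, 0, 0, 0, 0, 0, 0, 0, 0, 0, 999, 0, 0, 0, 0, 0, 0, 0, 0, 0, 0, 0, 347, 0, 0, 0, 0, 0, 0, 0, 0, 0, 0, 0, 432, 0, 0, 0, 0, 0, 0, 0],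
   [0, 0, 0, 0, 62, 0, 0, 0, 0, 0, 0, 0, 0, 0, 0, 0, 0, 0, 0, 0, 976, 0, 0, 0, 0, 1196, 0, 0, 0, 0, 0, 0, 0, 0, 0, 0, 0, 0, 0, 0, 0, 561, 0, 0, 0, 0, 378, 0, 0, 0, 0, 0, 0, 0, 0, 0, 0, 0, 0, 0, 0, 0, 913, 0, 0, 0, 0, 455, 0, 0, 0, 0, 0, 0, 0, 0, 0, 0, 0, 0, 0, 0, 0, 514, 0, 0, 0, 0, 332, 0, 0, 0, 0, 0, 0, 0, 0, 0, 0, 0, 0, 0, 0, 0, 26, 0, 0, 0, 0, 0, 0, 0, 0, 0, 0, 0, 0, 0, 0, 0, 733],
   [0, 0, 0, 0, 286, 0, 0, 0, 0, 0, 0, 0, 0, 1270, 0, 0, 0, 0, 0, 0, 0, 0, 807, 0, 0, 0, 0, 0, 0, 0, 0, 0, 0, 0, 0, 0, 0, 0, 0, 0, 0, 0, 528, 0, 0, 0, 0, 0, 0, 0, 0, 1137, 0, 0, 0, 0, 0, 0, 0, 0, 399, 0, 0, 0, 0, 0, 0, 0, 0, 743, 0, 0, 0, 0, 0, 0, 0, 0, 752, 0, 0, 0, 0, 0, 0, 0, 0, 0, 0, 0, 0, 0, 0, 0, 0, 0, 0, 0, 97, 0, 0, 0, 0, 0, 0, 0, 0, 916, 0, 0, 0, 0, 0, 0, 0, 0, 100, 0, 0, 0, 0],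
   [0, 0, 0, 0, 248, 0, 0, 0, 0, 0, 0, 0, 0, 0, 0, 0, 0, 1077, 0, 0, 0, 0, 0, 0, 0, 0, 0, 0, 0, 0, 1088, 0, 0, 0, 0, 0, 0, 0, 0, 0, 0, 0, 0, 1002, 0, 608, 0, 0, 0, 0, 0, 0, 0, 0, 0, 0, 0, 0, 711, 0, 0, 0, 0, 0, 0, 0, 0, 0, 0, 0, 0, 439, 0, 0, 0, 0, 0, 0, 0, 0, 0, 0, 0, 0, 75, 0, 0, 0, 0, 0, 0, 0, 0, 0, 0, 0, 0, 892, 0, 148, 0, 0, 0, 0, 0, 0, 0, 0, 0, 0, 0, 0, 246, 0, 0, 0, 0, 0, 0, 0, 0],
   [0, 0, 0, 0, 200, 0, 0, 0, 0, 0, 0, 0, 0, 0, 0, 0, 0, 0, 0, 0, 0, 1220, 0, 0, 0, 0, 0, 1142, 0, 0, 0, 0, 0, 334, 0, 0, 0, 0, 0, 0, 0, 0, 0, 0, 0, 0, 0, 0, 0, 0, 984, 0, 0, 0, 0, 0, 766, 0, 0, 0, 0, 0, 0, 0, 0, 0, 0, 0, 0, 0, 0, 0, 0, 388, 0, 0, 0, 0, 0, 396, 0, 0, 0, 0, 0, 0, 0, 0, 0, 0, 0, 0, 0, 0, 0, 0, 140, 0, 0, 0, 0, 0, 630, 0, 0, 0, 0, 0, 0, 0, 0, 0, 0, 0, 0, 0, 0, 0, 0, 546, 0],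
   [0, 0, 0, 0, 116, 0, 0, 0, 0, 0, 0, 0, 0, 0, 1245, 0, 0, 0, 0, 0, 0, 0, 0, 0, 612, 0, 0, 0, 0, 0, 0, 0, 0, 0, 314, 0, 0, 0, 0, 0, 0, 0, 0, 0, 1060, 0, 0, 0, 0, 0, 0, 0, 0, 0, 0, 0, 0, 0, 0, 0, 0, 0, 0, 0, 0, 1010, 0, 0, 0, 0, 0, 0, 0, 0, 0, 555, 0, 0, 0, 0, 0, 0, 0, 0, 0, 564, 0, 0, 0, 0, 0, 0, 0, 0, 0, 456, 0, 0, 0, 0, 0, 0, 0, 0, 0, 769, 0, 0, 0, 0, 0, 0, 0, 0, 0, 14, 0, 0, 0, 0, 0],
   [0, 0, 0, 0, 96, 0, 0, 0, 0, 0, 0, 0, 0, 0, 0, 0, 0, 0, 970, 0, 0, 0, 0, 0, 0, 0, 0, 0, 0, 0, 0, 0, 1258, 0, 0, 895, 0, 0, 0, 0, 0, 0, 0, 0, 0, 0, 0, 0, 0, 407, 0, 0, 0, 0, 0, 0, 0, 0, 0, 0, 0, 0, 0, 1097, 0, 0, 251, 0, 0, 0, 0, 0, 0, 0, 0, 0, 0, 0, 0, 0, 644, 0, 0, 0, 0, 0, 0, 0, 0, 0, 0, 0, 0, 0, 746, 0, 0, 0, 0, 0, 0, 0, 0, 0, 0, 0, 0, 0, 39, 0, 0, 839, 0, 0, 0, 0, 0, 0, 0, 0, 0],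
   [0, 0, 0, 0, 667, 0, 0, 0, 0, 0, 0, 1298, 0, 0, 0, 0, 0, 0, 0, 0, 0, 0, 0, 0, 0, 0, 0, 0, 0, 1065, 0, 0, 0, 0, 0, 0, 855, 0, 0, 0, 0, 0, 0, 0, 0, 0, 0, 0, 0, 0, 0, 0, 0, 0, 1228, 0, 0, 0, 0, 0, 0, 574, 0, 0, 0, 0, 0, 0, 996, 0, 0, 0, 0, 0, 0, 0, 0, 0, 0, 0, 0, 0, 0, 0, 0, 0, 1005, 0, 0, 0, 0, 0, 0, 437, 0, 0, 0, 0, 0, 0, 1100, 0, 0, 0, 0, 0, 0, 0, 0, 0, 0, 0, 0, 0, 0, 0, 0, 0, 442, 0, 0],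
   [0, 0, 0, 121, 0, 0, 0, 0, 0, 0, 0, 0, 0, 0, 1205, 0, 0, 0, 0, 0, 0, 0, 0, 0, 0, 280, 0, 0, 0, 0, 0, 0, 0, 0, 0, 0, 48, 0, 0, 0, 0, 0, 0, 0, 0, 0, 0, 900, 0, 0, 0, 0, 0, 0, 0, 0, 0, 0, 943, 0, 0, 0, 0, 0, 0, 0, 0, 0, 0, 282, 0, 0, 0, 0, 0, 0, 0, 0, 0, 0, 232, 0, 0, 0, 0, 0, 0, 0, 0, 0, 0, 562, 0, 0, 0, 0, 0, 0, 0, 0, 0, 0, 384, 0, 0, 0, 0, 0, 0, 0, 0, 0, 0, 4, 0, 0, 0, 0, 0, 0, 0],
   [0, 0, 0, 6, 0, 0, 0, 0, 0, 0, 0, 0, 0, 0, 0, 0, 0, 967, 0, 0, 0, 0, 0, 0, 0, 0, 0, 0, 0, 0, 0, 694, 0, 0, 1018, 0, 0, 0, 0, 0, 0, 0, 0, 0, 0, 0, 0, 0, 337, 0, 0, 0, 0, 0, 0, 0, 0, 0, 0, 0, 0, 0, 519, 0, 0, 0, 0, 0, 0, 0, 0, 0, 0, 0, 0, 0, 877, 0, 0, 470, 0, 0, 0, 0, 0, 0, 0, 0, 0, 0, 0, 0, 0, 88, 0, 0, 0, 0, 0, 0, 0, 0, 0, 0, 0, 0, 0, 739, 0, 0, 1014, 0, 0, 0, 0, 0, 0, 0, 0, 0, 0],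
   [0, 0, 0, 445, 0, 0, 0, 0, 0, 0, 0, 0, 0, 0, 0, 0, 0, 0, 0, 0, 823, 0, 0, 0, 0, 0, 205, 0, 0, 0, 0, 0, 0, 0, 0, 0, 0, 0, 0, 0, 0, 0, 0, 863, 0, 0, 0, 0, 0, 86, 0, 0, 0, 0, 0, 160, 0, 0, 0, 0, 0, 0, 0, 0, 0, 0, 0, 0, 0, 0, 0, 0, 443, 0, 0, 0, 0, 0, 1004, 0, 0, 0, 0, 0, 0, 0, 0, 0, 0, 0, 0, 0, 0, 0, 0, 515, 0, 0, 0, 0, 0, 135, 0, 0, 0, 0, 0, 0, 0, 0, 0, 0, 0, 0, 0, 0, 0, 0, 674, 0, 0],
   [0, 0, 0, 497, 0, 0, 0, 0, 0, 0, 0, 0, 1267, 0, 0, 0, 0, 0, 0, 0, 0, 0, 0, 0, 0, 0, 0, 0, 0, 0, 0, 0, 658, 0, 0, 0, 0, 0, 0, 0, 0, 318, 0, 0, 0, 0, 0, 0, 0, 0, 717, 0, 0, 0, 0, 0, 0, 0, 0, 1127, 0, 0, 0, 0, 0, 0, 0, 0, 660, 0, 0, 0, 0, 0, 0, 0, 0, 563, 0, 0, 0, 0, 0, 0, 0, 0, 0, 0, 0, 0, 0, 0, 0, 0, 0, 0, 0, 896, 0, 0, 0, 0, 0, 0, 0, 0, 725, 0, 0, 0, 0, 0, 0, 0, 0, 120, 0, 0, 0, 0, 0],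
   [0, 0, 0, 42, 0, 0, 0, 0, 0, 0, 0, 0, 0, 0, 0, 1151, 0, 0, 0, 0, 0, 0, 0, 0, 0, 0, 0, 416, 0, 0, 0, 0, 0, 0, 0, 0, 0, 0, 0, 626, 0, 0, 0, 0, 0, 0, 0, 0, 0, 0, 0, 754, 0, 0, 0, 0, 0, 0, 0, 0, 0, 0, 0, 846, 0, 0, 0, 0, 0, 0, 0, 0, 0, 0, 0, 114, 0, 0, 0, 0, 0, 0, 0, 0, 0, 0, 0, 89, 414, 0, 0, 0, 0, 0, 0, 0, 0, 0, 0, 0, 992, 0, 0, 0, 0, 0, 0, 0, 0, 0, 0, 0, 2, 0, 0, 0, 0, 0, 0, 0, 0],
   [0, 0, 0, 207, 0, 0, 0, 0, 0, 0, 0, 0, 0, 0, 0, 0, 0, 0, 815, 0, 0, 0, 513, 0, 0, 0, 0, 0, 0, 0, 0, 0, 0, 0, 0, 0, 0, 911, 0, 0, 0, 0, 0, 0, 0, 0, 0, 0, 0, 0, 0, 0, 408, 0, 0, 0, 307, 0, 0, 0, 0, 0, 0, 0, 0, 0, 0, 0, 0, 0, 0, 731, 0, 0, 0, 0, 0, 0, 0, 0, 0, 0, 0, 0, 0, 0, 273, 0, 0, 0, 646, 0, 0, 0, 0, 0, 0, 0, 0, 0, 0, 0, 0, 0, 0, 551, 0, 0, 0, 0, 0, 0, 0, 0, 0, 0, 0, 0, 0, 0, 907],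
   [0, 0, 0, 257, 0, 0, 0, 0, 0, 0, 0, 0, 0, 0, 0, 0, 0, 0, 0, 0, 0, 1168, 0, 0, 0, 0, 0, 0, 78, 0, 0, 0, 0, 0, 0, 718, 0, 0, 0, 0, 0, 0, 0, 0, 0, 0, 0, 0, 0, 0, 0, 0, 0, 171, 0, 0, 0, 0, 0, 0, 836, 0, 0, 0, 0, 0, 0, 255, 0, 0, 0, 0, 0, 0, 0, 0, 0, 0, 0, 0, 0, 0, 0, 0, 0, 897, 0, 0, 0, 0, 0, 0, 394, 0, 0, 0, 0, 0, 0, 174, 0, 0, 0, 0, 0, 0, 0, 0, 0, 0, 0, 0, 0, 0, 0, 0, 0, 495, 0, 0, 0],
   [0, 0, 0, 293, 0, 0, 0, 0, 0, 0, 0, 0, 0, 1242, 0, 0, 0, 0, 0, 0, 0, 0, 0, 481, 0, 0, 0, 0, 0, 0, 0, 0, 0, 131, 0, 0, 0, 0, 0, 0, 0, 0, 0, 0, 0, 0, 0, 0, 0, 0, 0, 0, 0, 0, 1007, 0, 0, 0, 0, 0, 0, 0, 0, 0, 1050, 0, 0, 0, 0, 0, 0, 0, 0, 0, 483, 0, 0, 0, 0, 0, 0, 0, 0, 0, 415, 0, 0, 0, 0, 0, 0, 0, 0, 0, 750, 0, 0, 0, 0, 0, 0, 0, 0, 0, 539, 0, 0, 0, 0, 0, 0, 0, 0, 0, 19, 0, 0, 0, 0, 0, 0],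
   [0, 0, 0, 55, 0, 0, 0, 0, 0, 0, 0, 0, 0, 0, 0, 0, 1074, 0, 0, 0, 0, 0, 0, 0, 0, 0, 0, 0, 0, 233, 0, 0, 0, 0, 0, 0, 0, 0, 0, 0, 0, 0, 1095, 0, 566, 0, 0, 0, 0, 0, 0, 0, 0, 0, 0, 0, 0, 701, 0, 0, 0, 0, 0, 0, 0, 0, 0, 0, 0, 0, 178, 0, 0, 0, 0, 0, 0, 0, 0, 0, 0, 0, 0, 647, 0, 0, 0, 0, 0, 0, 0, 0, 0, 0, 0, 0, 231, 0, 0, 0, 0, 0, 0, 0, 0, 0, 0, 0, 0, 885, 0, 403, 0, 0, 0, 0, 0, 0, 0, 0, 0],
   [0, 0, 0, 79, 0, 0, 0, 0, 0, 0, 0, 0, 0, 0, 0, 0, 0, 0, 0, 618, 0, 0, 0, 0, 304, 0, 0, 0, 0, 0, 0, 0, 0, 0, 0, 0, 0, 0, 0, 0, 764, 0, 0, 0, 0, 226, 0, 0, 0, 0, 0, 0, 0, 0, 0, 0, 0, 0, 0, 0, 0, 125, 0, 0, 0, 0, 544, 0, 0, 0, 0, 0, 0, 0, 0, 0, 0, 0, 0, 0, 0, 0, 395, 0, 0, 0, 0, 0, 0, 0, 0, 0, 0, 0, 0, 0, 0, 0, 696, 0, 0, 0, 0, 326, 0, 0, 0, 0, 0, 0, 0, 0, 0, 0, 0, 0, 0, 0, 0, 760, 0],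
   [0, 0, 0, 676, 0, 0, 0, 0, 0, 0, 0, 1284, 0, 0, 0, 0, 0, 0, 0, 0, 0, 0, 0, 0, 0, 0, 0, 0, 0, 0, 213, 0, 0, 0, 0, 0, 0, 0, 533, 0, 0, 0, 0, 0, 0, 0, 862, 0, 0, 0, 0, 0, 0, 0, 0, 0, 0, 0, 0, 0, 0, 0, 0, 0, 0, 1181, 0, 0, 0, 0, 0, 0, 0, 101, 0, 0, 0, 0, 0, 0, 0, 751, 0, 0, 0, 0, 0, 0, 0, 1003, 0, 0, 0, 0, 0, 0, 0, 0, 0, 0, 0, 0, 0, 0, 0, 0, 0, 0, 870, 0, 0, 0, 0, 0, 0, 0, 291, 0, 0, 0, 0],
   [0, 0, 0, 0, 0, 0, 0, 0, 0, 541, 0, 0, 0, 0, 0, 0, 0, 0, 0, 0, 624, 0, 0, 0, 0, 0, 0, 0, 0, 0, 0, 797, 0, 0, 0, 0, 0, 0, 0, 0, 0, 0, 412, 0, 0, 0, 0, 0, 0, 0, 0, 0, 0, 303, 0, 0, 0, 0, 0, 0, 0, 0, 0, 0, 758, 0, 0, 0, 0, 0, 0, 0, 0, 0, 0, 301, 0, 0, 0, 0, 0, 0, 0, 0, 0, 0, 136, 0, 0, 0, 0, 0, 0, 0, 0, 0, 0, 250, 0, 0, 0, 0, 0, 0, 0, 0, 0, 0, 18, 0, 0, 0, 0, 0, 0, 0, 0, 0, 0, 927, 0],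
   [0, 0, 0, 0, 0, 0, 0, 0, 0, 874, 0, 0, 0, 0, 0, 0, 0, 0, 614, 0, 0, 0, 0, 0, 0, 0, 0, 1055, 0, 0, 0, 0, 0, 0, 0, 0, 800, 0, 0, 0, 0, 0, 0, 0, 0, 693, 0, 0, 0, 0, 0, 0, 0, 0, 0, 0, 0, 0, 0, 0, 0, 0, 0, 0, 0, 1012, 0, 0, 0, 0, 0, 0, 0, 0, 691, 0, 0, 0, 0, 0, 0, 0, 0, 552, 0, 0, 0, 0, 0, 0, 0, 0, 141, 0, 0, 0, 0, 0, 0, 0, 0, 277, 0, 0, 0, 0, 0, 0, 0, 0, 1111, 0, 0, 0, 0, 0, 0, 0, 0, 0, 0],
   [0, 0, 0, 0, 0, 0, 0, 0, 0, 266, 0, 0, 0, 0, 0, 0, 962, 0, 0, 0, 0, 0, 0, 1186, 0, 0, 0, 0, 0, 0, 0, 0, 0, 0, 0, 0, 0, 0, 0, 0, 0, 1058, 0, 0, 0, 0, 0, 0, 30, 0, 0, 0, 0, 0, 0, 105, 0, 0, 0, 0, 0, 0, 0, 0, 0, 0, 0, 0, 0, 0, 0, 0, 0, 356, 0, 0, 0, 0, 0, 0, 886, 0, 0, 0, 0, 0, 0, 0, 0, 0, 0, 0, 0, 0, 0, 0, 0, 0, 559, 0, 0, 0, 0, 0, 0, 654, 0, 0, 0, 0, 0, 0, 28, 0, 0, 0, 0, 0, 0, 0, 0],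
   [0, 0, 0, 0, 0, 0, 0, 0, 0, 221, 0, 0, 0, 0, 1146, 0, 0, 0, 0, 0, 0, 0, 0, 0, 0, 0, 0, 0, 0, 0, 979, 0, 0, 0, 0, 1189, 0, 0, 0, 0, 0, 0, 0, 0, 0, 0, 0, 0, 0, 0, 0, 240, 0, 0, 0, 0, 462, 0, 0, 0, 0, 0, 0, 0, 0, 0, 0, 0, 0, 0, 0, 0, 780, 0, 0, 0, 0, 385, 0, 0, 0, 0, 0, 0, 0, 0, 0, 0, 0, 0, 0, 0, 0, 893, 0, 0, 0, 0, 0, 0, 0, 0, 0, 0, 0, 0, 0, 0, 0, 482, 0, 0, 0, 0, 73, 0, 0, 0, 0, 0, 0],
   [0, 0, 0, 0, 0, 0, 0, 0, 0, 509, 0, 0, 1237, 0, 0, 0, 0, 0, 0, 0, 0, 0, 0, 0, 0, 0, 502, 0, 0, 0, 0, 0, 0, 0, 0, 0, 0, 0, 0, 0, 982, 0, 0, 0, 0, 0, 0, 0, 0, 0, 0, 0, 0, 0, 448, 0, 0, 142, 0, 0, 0, 0, 0, 0, 0, 0, 0, 0, 0, 0, 0, 1035, 0, 0, 0, 0, 0, 0, 0, 0, 0, 0, 0, 0, 0, 723, 0, 0, 392, 0, 0, 0, 0, 0, 0, 0, 0, 0, 0, 0, 0, 0, 32, 0, 0, 0, 0, 0, 0, 0, 0, 0, 0, 0, 0, 0, 355, 0, 0, 0, 0],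
   [0, 0, 0, 0, 0, 0, 0, 0, 0, 323, 0, 0, 0, 0, 0, 0, 0, 0, 0, 0, 0, 1092, 603, 0, 0, 0, 0, 0, 0, 0, 0, 0, 0, 0, 229, 0, 0, 0, 0, 0, 0, 0, 0, 0, 0, 0, 204, 0, 0, 0, 0, 0, 0, 0, 0, 0, 0, 0, 569, 0, 0, 0, 0, 0, 0, 0, 0, 0, 0, 0, 642, 0, 0, 0, 0, 0, 0, 0, 0, 0, 0, 0, 172, 0, 0, 0, 0, 0, 0, 0, 0, 0, 0, 0, 98, 0, 0, 0, 0, 0, 0, 0, 0, 0, 0, 0, 0, 0, 0, 0, 0, 0, 0, 0, 0, 0, 0, 0, 779, 0, 0],
   [0, 0, 0, 0, 0, 0, 0, 0, 0, 728, 0, 0, 0, 0, 0, 0, 0, 0, 0, 372, 0, 0, 0, 0, 0, 0, 0, 0, 0, 948, 0, 0, 0, 0, 0, 0, 0, 0, 0, 606, 0, 0, 0, 0, 0, 0, 0, 0, 0, 512, 0, 0, 0, 0, 0, 0, 0, 0, 0, 905, 0, 0, 0, 0, 0, 0, 0, 0, 0, 510, 0, 0, 0, 0, 0, 0, 0, 0, 0, 327, 0, 0, 0, 0, 0, 0, 0, 0, 0, 438, 0, 0, 0, 0, 0, 0, 0, 0, 0, 113, 0, 0, 0, 0, 0, 0, 0, 0, 0, 0, 0, 0, 0, 0, 0, 0, 0, 0, 0, 0, 1034],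
   [0, 0, 0, 0, 0, 0, 0, 0, 0, 177, 0, 0, 0, 0, 0, 0, 0, 811, 0, 0, 0, 0, 0, 0, 0, 1132, 0, 0, 0, 0, 0, 0, 0, 951, 0, 0, 0, 0, 0, 0, 0, 0, 0, 0, 0, 0, 0, 0, 0, 0, 0, 0, 645, 0, 0, 0, 0, 0, 0, 0, 401, 0, 0, 0, 0, 0, 0, 0, 192, 0, 0, 0, 0, 0, 0, 0, 0, 0, 0, 0, 0, 0, 0, 0, 0, 0, 0, 740, 0, 0, 0, 0, 0, 0, 0, 333, 0, 0, 0, 0, 0, 0, 0, 477, 0, 0, 0, 0, 0, 0, 0, 641, 0, 0, 0, 0, 0, 0, 0, 0, 0],
   [0, 0, 0, 0, 0, 0, 0, 0, 0, 461, 0, 0, 0, 0, 0, 1069, 0, 0, 0, 0, 0, 0, 0, 0, 0, 0, 0, 0, 0, 0, 0, 0, 1223, 0, 0, 0, 0, 0, 1135, 0, 0, 0, 0, 0, 93, 0, 0, 0, 0, 0, 0, 0, 0, 0, 0, 0, 0, 0, 0, 0, 0, 267, 0, 0, 0, 0, 0, 586, 0, 0, 0, 0, 0, 0, 0, 0, 0, 0, 0, 0, 0, 0, 0, 0, 993, 0, 0, 0, 0, 0, 747, 0, 0, 0, 0, 0, 0, 0, 0, 0, 0, 0, 0, 0, 0, 0, 0, 281, 0, 0, 0, 0, 0, 9, 0, 0, 0, 0, 0, 0, 0],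
   [0, 0, 0, 0, 0, 0, 0, 0, 0, 300, 0, 0, 0, 1200, 0, 0, 0, 0, 0, 0, 0, 0, 0, 0, 0, 0, 0, 0, 431, 0, 0, 0, 0, 0, 0, 0, 0, 0, 0, 0, 0, 0, 0, 1226, 0, 0, 0, 423, 0, 0, 0, 0, 0, 0, 0, 0, 0, 0, 0, 0, 0, 0, 44, 0, 0, 0, 928, 0, 0, 0, 0, 0, 0, 0, 0, 0, 0, 0, 0, 0, 0, 537, 0, 0, 0, 0, 0, 0, 0, 0, 0, 0, 0, 0, 0, 0, 1000, 0, 0, 0, 659, 0, 0, 0, 0, 0, 0, 0, 0, 0, 0, 0, 0, 0, 0, 191, 0, 0, 0, 0, 0],
   [0, 0, 0, 0, 0, 0, 0, 0, 0, 690, 0, 1262, 0, 0, 0, 0, 0, 0, 0, 0, 0, 0, 0, 0, 681, 0, 0, 0, 0, 0, 0, 0, 0, 0, 0, 0, 0, 376, 0, 0, 0, 0, 0, 0, 0, 0, 0, 0, 0, 0, 77, 0, 0, 0, 0, 0, 0, 0, 0, 0, 0, 0, 0, 339, 0, 0, 0, 0, 0, 0, 0, 0, 0, 0, 0, 0, 1112, 0, 868, 0, 0, 0, 0, 0, 0, 0, 0, 0, 0, 0, 0, 452, 0, 0, 0, 0, 0, 0, 0, 0, 0, 0, 0, 0, 63, 0, 0, 0, 0, 0, 0, 0, 0, 0, 0, 0, 0, 585, 0, 0, 0],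
   [0, 0, 104, 0, 0, 0, 0, 0, 0, 0, 0, 0, 0, 1139, 0, 0, 0, 0, 0, 0, 0, 0, 0, 0, 110, 0, 0, 0, 0, 0, 0, 0, 0, 0, 0, 716, 0, 0, 0, 0, 0, 0, 0, 0, 0, 0, 27, 0, 0, 0, 0, 0, 0, 0, 0, 0, 0, 115, 0, 0, 0, 0, 0, 0, 0, 0, 0, 0, 298, 0, 0, 0, 0, 0, 0, 0, 0, 0, 0, 761, 0, 0, 0, 0, 0, 0, 0, 0, 0, 0, 40, 0, 0, 0, 0, 0, 0, 0, 0, 0, 0, 343, 0, 0, 0, 0, 0, 0, 0, 0, 0, 0, 159, 0, 0, 0, 0, 0, 0, 0, 0],
   [0, 0, 219, 0, 0, 0, 0, 0, 0, 0, 0, 0, 0, 0, 0, 955, 0, 0, 0, 0, 0, 0, 0, 0, 0, 0, 0, 0, 457, 0, 0, 0, 0, 0, 0, 0, 0, 0, 0, 0, 0, 871, 0, 0, 0, 0, 0, 0, 0, 0, 0, 0, 0, 0, 1109, 0, 873, 0, 0, 0, 0, 0, 0, 0, 0, 0, 0, 0, 0, 85, 0, 0, 0, 0, 0, 0, 0, 0, 0, 0, 0, 0, 496, 0, 0, 0, 0, 0, 0, 0, 0, 0, 0, 0, 0, 686, 0, 0, 0, 0, 0, 0, 0, 0, 0, 0, 0, 0, 1009, 0, 1180, 0, 0, 0, 0, 0, 0, 0, 0, 0, 0],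
   [0, 0, 194, 0, 0, 0, 0, 0, 0, 0, 0, 0, 0, 0, 0, 0, 0, 662, 0, 0, 0, 0, 0, 0, 0, 0, 0, 0, 0, 0, 0, 0, 997, 0, 0, 0, 664, 0, 0, 0, 0, 0, 0, 0, 0, 0, 0, 0, 0, 0, 0, 925, 0, 0, 0, 540, 0, 0, 0, 0, 0, 0, 0, 0, 0, 0, 0, 0, 0, 0, 427, 0, 0, 0, 0, 0, 0, 0, 0, 0, 0, 0, 0, 0, 0, 853, 0, 0, 0, 1101, 0, 0, 0, 0, 0, 0, 0, 0, 0, 0, 0, 0, 0, 0, 756, 0, 0, 0, 0, 0, 0, 0, 0, 0, 0, 0, 0, 0, 0, 1049, 0],
   [0, 0, 64, 0, 0, 0, 0, 0, 0, 0, 0, 0, 0, 0, 0, 0, 0, 0, 0, 284, 0, 0, 0, 0, 0, 744, 0, 0, 0, 0, 0, 0, 0, 0, 0, 0, 0, 0, 0, 0, 0, 0, 991, 0, 0, 0, 0, 0, 650, 0, 0, 0, 0, 0, 0, 0, 0, 0, 0, 0, 0, 0, 0, 0, 0, 133, 0, 0, 0, 0, 0, 729, 0, 0, 0, 0, 0, 526, 0, 0, 0, 0, 0, 0, 0, 0, 0, 0, 0, 0, 0, 0, 0, 0, 917, 0, 0, 0, 0, 0, 1096, 0, 0, 0, 0, 0, 0, 0, 0, 0, 0, 0, 0, 0, 0, 0, 0, 792, 0, 0, 0],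
   [0, 0, 46, 0, 0, 0, 0, 0, 0, 0, 0, 0, 0, 0, 0, 0, 0, 0, 0, 0, 0, 986, 0, 0, 0, 0, 0, 0, 0, 331, 0, 0, 0, 0, 0, 0, 0, 738, 0, 0, 0, 0, 0, 0, 0, 274, 0, 0, 0, 0, 0, 0, 0, 0, 0, 0, 0, 0, 0, 0, 0, 0, 0, 0, 663, 0, 0, 0, 0, 0, 0, 0, 324, 0, 0, 0, 0, 0, 0, 0, 404, 0, 0, 0, 0, 0, 0, 0, 578, 0, 0, 0, 0, 0, 0, 0, 0, 0, 0, 0, 0, 0, 0, 0, 0, 0, 0, 912, 0, 0, 0, 0, 0, 0, 0, 365, 0, 0, 0, 0, 0],
   [0, 0, 264, 0, 0, 0, 0, 0, 0, 0, 0, 0, 1193, 0, 0, 0, 0, 0, 0, 0, 0, 0, 272, 0, 0, 0, 0, 0, 0, 0, 0, 0, 0, 0, 0, 0, 0, 0, 0, 0, 0, 0, 0, 861, 0, 0, 0, 0, 0, 0, 0, 0, 0, 16, 0, 0, 0, 0, 0, 0, 0, 0, 0, 285, 0, 0, 0, 0, 0, 0, 0, 0, 0, 507, 0, 0, 0, 0, 0, 0, 0, 0, 0, 908, 0, 0, 0, 0, 0, 0, 0, 0, 0, 149, 0, 0, 0, 0, 0, 0, 0, 0, 0, 573, 0, 0, 0, 0, 0, 0, 0, 0, 0, 69, 0, 0, 0, 0, 0, 0, 0],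
   [0, 0, 15, 0, 0, 0, 0, 0, 0, 0, 0, 0, 0, 0, 1062, 0, 0, 0, 0, 0, 0, 0, 0, 0, 0, 0, 53, 0, 0, 0, 0, 0, 0, 0, 0, 0, 0, 0, 532, 0, 0, 0, 0, 0, 0, 0, 0, 0, 0, 0, 639, 0, 0, 0, 0, 0, 0, 0, 0, 0, 0, 0, 176, 0, 0, 0, 0, 0, 0, 0, 0, 0, 0, 0, 222, 0, 0, 0, 0, 0, 0, 0, 0, 0, 0, 0, 675, 0, 0, 0, 0, 0, 0, 0, 0, 0, 0, 0, 68, 398, 0, 0, 0, 0, 0, 0, 0, 0, 0, 0, 0, 835, 0, 0, 0, 0, 0, 0, 0, 0, 0],
   [0, 0, 83, 0, 0, 0, 0, 0, 0, 0, 0, 0, 0, 0, 0, 0, 804, 0, 0, 0, 0, 0, 0, 0, 0, 0, 0, 0, 0, 0, 389, 0, 0, 726, 0, 0, 0, 0, 0, 0, 0, 0, 0, 0, 0, 0, 0, 1032, 0, 0, 0, 0, 0, 0, 0, 0, 0, 0, 0, 0, 0, 727, 0, 0, 0, 0, 0, 0, 0, 0, 0, 0, 0, 0, 0, 12, 0, 0, 292, 0, 0, 0, 0, 0, 0, 0, 0, 0, 0, 0, 0, 0, 631, 0, 0, 0, 0, 0, 0, 0, 0, 0, 0, 0, 0, 0, 902, 0, 0, 0, 0, 0, 0, 0, 0, 0, 0, 0, 0, 0, 1126],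
   [0, 0, 74, 0, 0, 0, 0, 0, 0, 0, 0, 0, 0, 0, 0, 0, 0, 0, 485, 0, 0, 0, 0, 890, 0, 0, 0, 0, 0, 0, 0, 0, 0, 0, 0, 0, 0, 0, 0, 487, 0, 0, 0, 0, 778, 0, 0, 0, 0, 0, 0, 0, 0, 0, 0, 0, 0, 0, 0, 0, 322, 0, 0, 0, 0, 0, 0, 0, 0, 0, 0, 0, 0, 0, 0, 0, 875, 0, 0, 0, 0, 708, 0, 0, 0, 0, 0, 0, 0, 0, 0, 0, 0, 0, 0, 0, 0, 1024, 0, 0, 0, 0, 627, 0, 0, 0, 0, 0, 0, 0, 0, 0, 0, 0, 0, 0, 0, 0, 942, 0, 0],
   [0, 0, 7, 0, 0, 0, 0, 0, 0, 0, 0, 0, 0, 0, 0, 0, 0, 0, 0, 0, 380, 0, 0, 0, 0, 0, 0, 556, 0, 0, 0, 0, 0, 0, 884, 0, 0, 0, 0, 0, 0, 0, 0, 0, 0, 0, 0, 0, 0, 0, 0, 0, 473, 0, 0, 0, 0, 0, 0, 33, 0, 0, 0, 0, 0, 0, 542, 0, 0, 0, 0, 0, 0, 0, 0, 0, 0, 0, 0, 0, 0, 0, 0, 0, 312, 0, 0, 0, 0, 0, 0, 770, 0, 0, 0, 0, 0, 0, 0, 0, 0, 0, 0, 0, 0, 0, 0, 0, 0, 1019, 0, 0, 0, 0, 0, 0, 598, 0, 0, 0, 0],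
   [0, 0, 459, 0, 0, 0, 0, 0, 0, 0, 0, 1230, 0, 0, 0, 0, 0, 0, 0, 0, 0, 0, 0, 0, 0, 0, 0, 0, 0, 0, 0, 467, 0, 0, 0, 0, 0, 0, 0, 0, 550, 0, 0, 0, 0, 0, 0, 0, 0, 111, 0, 0, 0, 0, 0, 0, 0, 0, 486, 0, 0, 0, 0, 0, 0, 0, 0, 688, 0, 0, 0, 0, 0, 0, 0, 0, 0, 0, 0, 0, 0, 0, 0, 0, 0, 0, 0, 1015, 0, 0, 0, 0, 0, 0, 0, 0, 348, 0, 0, 0, 0, 0, 0, 0, 0, 765, 0, 0, 0, 0, 0, 0, 0, 0, 180, 0, 0, 0, 0, 0, 0],
   [0, 0, 0, 0, 0, 0, 0, 0, 565, 0, 0, 0, 0, 0, 0, 0, 0, 0, 0, 95, 0, 0, 0, 0, 0, 0, 0, 0, 0, 0, 828, 0, 0, 0, 0, 0, 0, 0, 0, 0, 0, 940, 0, 0, 0, 0, 0, 0, 0, 0, 0, 0, 597, 0, 0, 0, 0, 0, 0, 0, 0, 0, 0, 745, 0, 0, 0, 0, 0, 0, 0, 0, 0, 0, 567, 0, 0, 0, 0, 0, 0, 0, 0, 0, 0, 775, 0, 0, 0, 0, 0, 0, 0, 0, 0, 0, 433, 0, 0, 0, 0, 0, 0, 0, 0, 0, 0, 166, 0, 0, 0, 0, 0, 0, 0, 0, 0, 0, 1059, 0, 0],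
   [0, 0, 0, 0, 0, 0, 0, 0, 1006, 0, 0, 0, 0, 0, 0, 0, 600, 0, 0, 0, 0, 0, 0, 0, 449, 0, 0, 0, 0, 0, 0, 0, 0, 0, 0, 0, 0, 0, 0, 0, 0, 0, 0, 1178, 0, 0, 0, 0, 0, 0, 0, 1048, 0, 0, 0, 0, 0, 0, 0, 390, 0, 0, 0, 0, 0, 0, 0, 1008, 0, 0, 0, 0, 0, 0, 0, 0, 0, 0, 0, 0, 0, 0, 0, 0, 0, 0, 1106, 0, 0, 0, 0, 0, 0, 0, 679, 0, 0, 0, 0, 0, 0, 0, 57, 0, 0, 0, 0, 0, 0, 0, 1227, 0, 0, 0, 0, 0, 0, 0, 0, 0, 0],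
   [0, 0, 0, 0, 0, 0, 0, 0, 499, 0, 0, 0, 0, 1052, 0, 0, 0, 0, 0, 0, 0, 0, 0, 0, 0, 0, 0, 0, 0, 786, 0, 0, 0, 0, 882, 0, 0, 0, 0, 0, 0, 0, 0, 0, 0, 0, 0, 0, 0, 0, 834, 0, 0, 0, 0, 108, 0, 0, 0, 0, 0, 0, 0, 0, 0, 0, 0, 0, 0, 0, 0, 269, 0, 0, 0, 0, 0, 0, 0, 0, 0, 0, 0, 0, 0, 0, 0, 65, 0, 0, 0, 0, 547, 0, 0, 0, 0, 0, 0, 0, 0, 0, 0, 0, 0, 0, 0, 0, 128, 0, 0, 0, 0, 227, 0, 0, 0, 0, 0, 0, 0],
   [0, 0, 0, 0, 0, 0, 0, 0, 447, 0, 0, 0, 0, 0, 0, 0, 0, 0, 0, 0, 0, 838, 0, 1119, 0, 0, 0, 0, 0, 0, 0, 0, 0, 0, 0, 0, 596, 0, 0, 0, 0, 0, 0, 0, 0, 0, 0, 0, 0, 179, 0, 0, 0, 0, 0, 0, 0, 0, 0, 0, 0, 0, 405, 0, 0, 0, 0, 0, 0, 0, 0, 0, 0, 0, 0, 230, 0, 352, 0, 0, 0, 0, 0, 0, 0, 0, 0, 0, 0, 0, 840, 0, 0, 0, 0, 0, 0, 0, 0, 0, 0, 0, 0, 704, 0, 0, 0, 0, 0, 0, 0, 0, 0, 0, 0, 0, 801, 0, 0, 0, 0],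
   [0, 0, 0, 0, 0, 0, 0, 0, 753, 0, 0, 0, 0, 0, 0, 0, 0, 0, 243, 0, 0, 0, 0, 0, 0, 0, 0, 0, 196, 0, 0, 0, 0, 0, 0, 0, 0, 0, 1047, 0, 0, 0, 0, 0, 0, 0, 0, 0, 791, 0, 0, 0, 0, 0, 0, 0, 0, 0, 891, 0, 0, 0, 0, 0, 0, 0, 0, 0, 755, 0, 0, 0, 0, 0, 0, 0, 0, 0, 922, 0, 0, 0, 0, 0, 0, 0, 0, 0, 294, 0, 0, 0, 0, 0, 0, 0, 0, 0, 0, 0, 0, 0, 0, 0, 0, 0, 0, 0, 0, 72, 0, 0, 0, 0, 0, 0, 0, 0, 0, 1136, 0],
   [0, 0, 0, 0, 0, 0, 0, 0, 721, 0, 0, 0, 0, 0, 0, 794, 0, 0, 0, 0, 0, 0, 361, 0, 0, 0, 0, 0, 0, 0, 0, 0, 0, 0, 0, 0, 0, 0, 0, 0, 833, 0, 0, 0, 0, 0, 0, 1125, 0, 0, 0, 0, 0, 0, 0, 0, 0, 0, 0, 0, 0, 0, 0, 0, 0, 458, 0, 0, 0, 0, 0, 0, 397, 0, 0, 0, 0, 0, 0, 636, 0, 0, 0, 0, 0, 0, 0, 0, 0, 0, 0, 0, 0, 0, 0, 0, 0, 252, 0, 0, 0, 0, 0, 0, 1, 0, 0, 0, 0, 0, 0, 983, 0, 0, 0, 0, 0, 0, 0, 0, 0],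
   [0, 0, 0, 0, 0, 0, 0, 0, 678, 0, 0, 0, 1129, 0, 0, 0, 0, 0, 0, 0, 0, 0, 0, 0, 0, 0, 0, 935, 0, 0, 0, 0, 0, 0, 0, 0, 0, 0, 0, 0, 0, 0, 989, 0, 0, 0, 158, 0, 0, 0, 0, 0, 0, 0, 0, 0, 0, 0, 0, 0, 0, 270, 0, 0, 0, 0, 0, 0, 0, 0, 0, 0, 0, 0, 0, 0, 464, 0, 0, 0, 56, 0, 0, 0, 0, 0, 0, 0, 0, 0, 0, 0, 0, 0, 0, 734, 0, 0, 0, 310, 0, 0, 0, 0, 0, 0, 0, 0, 0, 0, 0, 0, 0, 0, 410, 0, 0, 0, 0, 0, 0],
   [0, 0, 0, 0, 0, 0, 0, 0, 336, 0, 0, 0, 0, 0, 0, 0, 0, 0, 0, 0, 162, 0, 0, 0, 0, 0, 0, 0, 0, 0, 0, 0, 1173, 790, 0, 0, 0, 0, 0, 0, 0, 0, 0, 0, 0, 364, 0, 0, 0, 0, 0, 0, 0, 0, 0, 0, 0, 557, 0, 0, 0, 0, 0, 0, 0, 0, 0, 0, 0, 413, 0, 0, 0, 0, 0, 0, 0, 0, 0, 0, 0, 582, 0, 0, 0, 0, 0, 0, 0, 0, 0, 0, 0, 247, 0, 0, 0, 0, 0, 0, 0, 0, 0, 0, 0, 849, 0, 0, 0, 0, 0, 0, 0, 0, 0, 0, 0, 952, 0, 0, 0],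
   [0, 0, 0, 0, 0, 0, 0, 0, 899, 0, 0, 0, 0, 0, 0, 0, 0, 426, 0, 0, 0, 0, 0, 0, 0, 0, 260, 0, 0, 0, 0, 0, 0, 0, 0, 1124, 0, 0, 0, 0, 0, 0, 0, 0, 941, 0, 0, 0, 0, 0, 0, 0, 0, 0, 0, 0, 0, 0, 0, 0, 0, 0, 0, 0, 998, 0, 0, 0, 0, 0, 0, 0, 0, 901, 0, 0, 0, 0, 0, 0, 0, 0, 1029, 0, 0, 0, 0, 0, 0, 0, 0, 500, 0, 0, 0, 0, 0, 0, 0, 0, 190, 0, 0, 0, 0, 0, 0, 0, 0, 0, 0, 0, 0, 0, 0, 0, 0, 0, 0, 0, 1190],
   [0, 0, 0, 0, 0, 0, 0, 0, 866, 0, 0, 0, 0, 0, 945, 0, 0, 0, 0, 0, 0, 0, 0, 0, 0, 0, 0, 0, 0, 0, 0, 592, 0, 0, 0, 0, 0, 736, 0, 0, 0, 0, 0, 0, 0, 0, 0, 0, 0, 0, 0, 0, 0, 0, 1179, 0, 0, 0, 0, 0, 51, 0, 0, 0, 0, 0, 107, 0, 0, 0, 0, 0, 0, 0, 0, 0, 0, 0, 0, 0, 0, 0, 0, 208, 0, 0, 0, 0, 0, 440, 0, 0, 0, 0, 0, 0, 0, 0, 0, 0, 0, 0, 0, 0, 0, 0, 22, 0, 0, 0, 0, 0, 377, 0, 0, 0, 0, 0, 0, 0, 0],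
   [0, 0, 0, 0, 0, 0, 0, 0, 259, 0, 0, 1183, 0, 0, 0, 0, 0, 0, 0, 0, 0, 0, 0, 0, 0, 1042, 0, 0, 0, 0, 0, 0, 0, 0, 0, 0, 0, 0, 0, 382, 0, 0, 0, 0, 0, 0, 0, 0, 0, 0, 0, 0, 0, 224, 0, 0, 465, 0, 0, 0, 0, 0, 0, 0, 0, 0, 0, 0, 0, 0, 87, 0, 0, 0, 0, 0, 0, 0, 0, 0, 0, 0, 0, 0, 151, 0, 0, 0, 0, 0, 0, 0, 0, 0, 0, 0, 0, 0, 880, 0, 0, 522, 0, 0, 0, 0, 0, 0, 0, 0, 0, 0, 0, 0, 0, 607, 0, 0, 0, 0, 0],
   [0, 0, 0, 0, 0, 0, 0, 436, 0, 0, 0, 0, 0, 0, 0, 0, 0, 0, 82, 0, 0, 0, 0, 0, 0, 0, 0, 0, 0, 950, 0, 0, 0, 0, 0, 0, 0, 0, 0, 0, 831, 0, 0, 0, 0, 0, 0, 0, 0, 0, 0, 536, 0, 0, 0, 0, 0, 0, 0, 0, 0, 0, 788, 0, 0, 0, 0, 0, 0, 0, 0, 0, 0, 505, 0, 0, 0, 0, 0, 0, 0, 0, 0, 0, 651, 0, 0, 0, 0, 0, 0, 0, 0, 0, 0, 580, 0, 0, 0, 0, 0, 0, 0, 0, 0, 0, 262, 0, 0, 0, 0, 0, 0, 0, 0, 0, 0, 1066, 0, 0, 0],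
   [0, 0, 0, 0, 0, 0, 0, 1001, 0, 0, 0, 0, 0, 0, 781, 0, 0, 0, 0, 0, 0, 0, 0, 0, 0, 0, 0, 0, 0, 0, 0, 0, 1225, 0, 0, 0, 0, 0, 0, 860, 0, 0, 0, 0, 0, 0, 673, 0, 0, 0, 0, 0, 0, 0, 0, 0, 0, 0, 0, 0, 0, 0, 0, 0, 1175, 0, 0, 0, 0, 0, 0, 672, 0, 0, 0, 0, 0, 0, 1105, 0, 0, 0, 0, 0, 0, 0, 0, 0, 0, 0, 0, 0, 0, 0, 0, 0, 1103, 0, 0, 0, 0, 0, 0, 783, 0, 0, 0, 0, 0, 0, 1259, 0, 0, 0, 0, 0, 0, 0, 0, 0, 0],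
   [0, 0, 0, 0, 0, 0, 0, 530, 0, 0, 0, 0, 0, 0, 0, 0, 0, 0, 0, 0, 0, 1094, 0, 0, 411, 0, 0, 0, 0, 0, 0, 0, 0, 0, 0, 0, 0, 0, 1045, 0, 0, 0, 0, 0, 0, 0, 0, 0, 0, 0, 0, 0, 988, 0, 0, 182, 0, 0, 0, 0, 0, 0, 0, 0, 0, 0, 0, 0, 0, 844, 0, 0, 0, 0, 0, 0, 0, 0, 0, 0, 0, 0, 0, 842, 0, 0, 0, 0, 0, 0, 0, 0, 0, 0, 0, 0, 0, 491, 0, 0, 1170, 0, 0, 0, 0, 0, 0, 0, 0, 0, 0, 0, 0, 0, 648, 0, 0, 0, 0, 0, 0],
   [0, 0, 0, 0, 0, 0, 0, 560, 0, 0, 0, 0, 0, 0, 0, 0, 0, 216, 0, 0, 0, 0, 0, 0, 0, 0, 0, 1057, 0, 0, 0, 0, 0, 0, 0, 0, 0, 317, 0, 0, 0, 0, 0, 0, 0, 0, 0, 722, 0, 0, 0, 0, 0, 0, 0, 0, 0, 937, 0, 0, 0, 0, 0, 0, 0, 0, 0, 684, 0, 0, 0, 0, 0, 0, 0, 0, 0, 774, 0, 0, 0, 0, 0, 0, 0, 0, 0, 0, 0, 0, 0, 0, 0, 0, 0, 0, 0, 0, 772, 0, 0, 0, 0, 0, 0, 0, 0, 0, 453, 0, 0, 0, 0, 0, 0, 0, 0, 0, 1143, 0, 0],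
   [0, 0, 0, 0, 0, 0, 0, 669, 0, 0, 0, 0, 0, 930, 0, 0, 0, 0, 0, 0, 0, 0, 0, 0, 0, 0, 0, 0, 0, 0, 981, 0, 0, 0, 0, 0, 595, 0, 0, 0, 0, 0, 0, 0, 0, 0, 0, 0, 0, 0, 0, 0, 0, 548, 0, 0, 0, 0, 0, 830, 0, 0, 0, 0, 0, 0, 0, 0, 0, 0, 0, 0, 0, 0, 0, 0, 305, 0, 0, 0, 0, 0, 635, 0, 0, 0, 0, 0, 633, 0, 0, 0, 0, 0, 0, 0, 0, 0, 0, 0, 0, 0, 0, 0, 0, 932, 0, 0, 0, 0, 0, 1089, 0, 0, 0, 0, 0, 0, 0, 0, 0],
   [0, 0, 0, 0, 0, 0, 0, 714, 0, 0, 0, 0, 0, 0, 0, 0, 0, 0, 0, 0, 625, 0, 605, 0, 0, 0, 0, 0, 0, 0, 0, 0, 0, 0, 0, 1122, 0, 0, 0, 0, 0, 0, 0, 0, 0, 0, 0, 0, 381, 0, 0, 0, 0, 0, 0, 0, 0, 0, 0, 0, 0, 363, 0, 0, 0, 0, 0, 0, 0, 0, 0, 0, 0, 0, 245, 0, 0, 0, 0, 0, 0, 0, 0, 0, 0, 0, 0, 275, 0, 670, 0, 0, 0, 0, 0, 0, 0, 0, 0, 0, 0, 0, 825, 0, 0, 0, 0, 0, 0, 0, 0, 0, 0, 0, 0, 808, 0, 0, 0, 0, 0],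
   [0, 0, 0, 0, 0, 0, 0, 748, 0, 0, 0, 0, 0, 0, 0, 0, 357, 0, 0, 0, 0, 0, 0, 0, 0, 1134, 0, 0, 0, 0, 0, 0, 0, 0, 531, 0, 0, 0, 0, 0, 0, 0, 0, 0, 0, 0, 0, 0, 0, 0, 0, 0, 0, 0, 867, 0, 0, 0, 0, 0, 0, 0, 0, 1044, 0, 0, 0, 0, 0, 0, 0, 0, 290, 0, 0, 0, 0, 0, 0, 0, 0, 921, 0, 0, 0, 0, 0, 0, 0, 0, 919, 0, 0, 0, 0, 0, 0, 0, 0, 359, 0, 0, 0, 0, 0, 0, 0, 0, 0, 0, 0, 0, 0, 0, 0, 0, 0, 0, 0, 1197, 0],
   [0, 0, 0, 0, 0, 0, 0, 202, 0, 0, 0, 0, 1037, 0, 0, 0, 0, 0, 0, 0, 0, 0, 0, 0, 0, 0, 0, 0, 375, 0, 0, 0, 0, 789, 0, 0, 0, 0, 0, 0, 0, 0, 0, 0, 0, 0, 0, 0, 0, 735, 0, 0, 0, 0, 0, 0, 0, 0, 0, 0, 0, 0, 0, 0, 0, 872, 0, 0, 0, 0, 517, 0, 0, 0, 0, 0, 0, 0, 0, 0, 0, 0, 0, 0, 0, 0, 516, 0, 0, 0, 0, 118, 0, 0, 0, 0, 0, 0, 0, 0, 0, 0, 0, 0, 0, 0, 0, 1039, 0, 0, 0, 0, 621, 0, 0, 0, 0, 0, 0, 0, 0],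
   [0, 0, 0, 0, 0, 0, 0, 859, 0, 0, 0, 0, 0, 0, 0, 0, 0, 0, 0, 47, 0, 0, 0, 0, 0, 0, 0, 0, 0, 0, 0, 799, 0, 0, 0, 0, 0, 0, 0, 0, 0, 0, 0, 1176, 321, 0, 0, 0, 0, 0, 0, 0, 0, 0, 0, 0, 594, 0, 0, 0, 0, 0, 0, 0, 0, 0, 0, 0, 429, 0, 0, 0, 0, 0, 0, 0, 0, 0, 0, 0, 474, 0, 0, 0, 0, 0, 0, 0, 0, 0, 0, 0, 350, 0, 0, 0, 0, 0, 0, 0, 0, 0, 0, 0, 195, 0, 0, 0, 0, 0, 0, 0, 0, 0, 0, 0, 959, 0, 0, 0, 0],
   [0, 0, 0, 0, 0, 0, 0, 894, 0, 0, 0, 0, 0, 0, 0, 587, 0, 0, 0, 0, 0, 0, 0, 1188, 0, 0, 0, 0, 0, 0, 0, 0, 0, 0, 0, 0, 0, 0, 0, 0, 0, 0, 715, 0, 0, 0, 0, 0, 0, 0, 494, 0, 0, 0, 0, 0, 0, 0, 1121, 0, 0, 0, 0, 0, 0, 0, 493, 0, 0, 0, 0, 0, 0, 0, 0, 0, 0, 0, 0, 0, 0, 0, 0, 0, 0, 1028, 0, 0, 0, 0, 0, 0, 0, 1026, 0, 0, 0, 0, 0, 0, 0, 589, 0, 0, 0, 0, 0, 0, 0, 0, 0, 0, 0, 0, 0, 0, 0, 0, 0, 0, 1234],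
   [0, 0, 0, 0, 0, 0, 0, 316, 0, 0, 0, 1114, 0, 0, 0, 0, 0, 0, 0, 0, 0, 0, 0, 0, 0, 0, 228, 0, 0, 0, 0, 0, 0, 0, 0, 0, 0, 0, 0, 0, 0, 938, 0, 0, 0, 881, 0, 0, 0, 0, 0, 0, 0, 0, 0, 0, 0, 0, 0, 0, 175, 0, 0, 0, 0, 0, 0, 0, 0, 0, 0, 0, 0, 0, 0, 699, 0, 0, 0, 697, 0, 0, 0, 0, 0, 0, 0, 0, 0, 0, 0, 0, 0, 0, 288, 0, 0, 0, 0, 0, 0, 0, 0, 0, 0, 0, 0, 0, 0, 1116, 0, 0, 0, 471, 0, 0, 0, 0, 0, 0, 0],
   [0, 0, 0, 0, 0, 419, 0, 0, 0, 0, 0, 0, 0, 0, 0, 0, 806, 0, 0, 0, 0, 0, 0, 0, 0, 0, 0, 768, 0, 0, 0, 0, 0, 0, 0, 0, 0, 0, 602, 0, 0, 0, 0, 0, 0, 0, 0, 0, 0, 271, 0, 0, 0, 0, 0, 0, 0, 0, 0, 0, 640, 0, 0, 0, 0, 0, 0, 0, 0, 0, 0, 203, 0, 0, 0, 0, 0, 0, 0, 0, 0, 0, 146, 0, 0, 0, 0, 0, 0, 0, 0, 0, 0, 362, 0, 0, 0, 0, 0, 0, 0, 0, 0, 0, 23, 0, 0, 0, 0, 0, 0, 0, 0, 0, 0, 964, 0, 0, 0, 0, 0],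
   [0, 0, 0, 0, 0, 850, 0, 0, 0, 0, 0, 0, 0, 0, 0, 0, 0, 0, 0, 0, 0, 1257, 0, 0, 0, 0, 657, 0, 0, 0, 0, 0, 0, 0, 0, 0, 0, 0, 0, 0, 0, 0, 1222, 0, 0, 0, 0, 422, 0, 0, 0, 0, 0, 0, 0, 0, 0, 0, 0, 0, 0, 0, 0, 1172, 0, 0, 0, 0, 852, 0, 0, 0, 0, 0, 0, 0, 0, 0, 0, 0, 0, 0, 0, 0, 1098, 0, 0, 0, 0, 1174, 0, 0, 0, 0, 0, 0, 0, 0, 0, 0, 0, 0, 0, 0, 0, 994, 0, 0, 0, 0, 1281, 0, 0, 0, 0, 0, 0, 0, 0, 0, 0],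
   [0, 0, 0, 0, 0, 279, 0, 0, 0, 0, 0, 0, 0, 0, 0, 957, 0, 0, 0, 0, 0, 0, 0, 0, 0, 915, 0, 0, 0, 0, 0, 0, 0, 0, 0, 796, 0, 0, 0, 0, 0, 0, 0, 0, 0, 466, 0, 0, 0, 0, 0, 0, 0, 0, 0, 591, 0, 0, 0, 0, 0, 0, 0, 0, 0, 0, 0, 0, 0, 0, 0, 0, 0, 0, 0, 0, 223, 0, 0, 0, 0, 0, 0, 0, 0, 0, 345, 0, 0, 0, 0, 0, 0, 0, 0, 0, 593, 0, 0, 0, 0, 0, 0, 0, 0, 0, 137, 0, 0, 0, 0, 0, 0, 0, 0, 0, 1071, 0, 0, 0, 0],
   [0, 0, 0, 0, 0, 167, 0, 0, 0, 0, 0, 0, 0, 0, 0, 0, 0, 0, 0, 0, 1087, 0, 0, 0, 212, 0, 0, 0, 0, 0, 0, 0, 0, 0, 0, 0, 0, 0, 0, 978, 0, 0, 0, 0, 0, 0, 0, 0, 0, 0, 0, 0, 0, 0, 210, 0, 0, 0, 827, 0, 0, 0, 0, 0, 0, 0, 0, 0, 0, 0, 0, 0, 0, 168, 0, 0, 0, 628, 0, 0, 0, 0, 0, 0, 0, 0, 0, 0, 0, 0, 0, 0, 829, 0, 0, 0, 0, 0, 0, 0, 0, 0, 0, 0, 0, 0, 0, 386, 0, 0, 0, 1165, 0, 0, 0, 0, 0, 0, 0, 0, 0],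
   [0, 0, 0, 0, 0, 479, 0, 0, 0, 0, 0, 0, 0, 0, 1064, 0, 0, 0, 0, 0, 0, 0, 0, 1022, 0, 0, 0, 0, 0, 0, 0, 0, 0, 0, 0, 0, 0, 0, 0, 0, 0, 0, 0, 947, 0, 0, 0, 0, 0, 0, 0, 0, 406, 0, 0, 0, 0, 0, 0, 0, 0, 785, 0, 0, 0, 0, 0, 0, 0, 0, 129, 0, 0, 0, 0, 0, 0, 0, 0, 575, 0, 0, 0, 0, 0, 0, 0, 0, 787, 0, 0, 0, 0, 0, 0, 0, 0, 0, 0, 0, 0, 0, 0, 0, 0, 0, 0, 0, 328, 0, 0, 0, 0, 0, 0, 0, 0, 1148, 0, 0, 0],
   [0, 0, 0, 0, 0, 187, 0, 0, 0, 0, 0, 0, 0, 0, 0, 0, 0, 0, 0, 620, 0, 0, 147, 0, 0, 0, 0, 0, 0, 0, 0, 0, 0, 0, 0, 0, 430, 0, 0, 0, 0, 0, 0, 0, 0, 0, 0, 0, 0, 0, 5, 0, 0, 0, 0, 0, 0, 0, 0, 0, 0, 0, 0, 0, 926, 0, 0, 218, 0, 0, 0, 0, 0, 0, 0, 0, 0, 0, 0, 0, 0, 241, 0, 0, 0, 0, 0, 0, 0, 0, 0, 0, 0, 0, 0, 156, 0, 0, 0, 0, 0, 0, 0, 0, 0, 0, 0, 0, 0, 237, 0, 0, 820, 0, 0, 0, 0, 0, 0, 0, 0],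
   [0, 0, 0, 0, 0, 656, 0, 0, 0, 0, 0, 0, 0, 1141, 0, 0, 0, 0, 0, 0, 0, 0, 0, 0, 0, 0, 0, 0, 0, 0, 0, 0, 1099, 0, 0, 0, 0, 0, 0, 0, 1054, 0, 0, 0, 0, 0, 0, 0, 184, 0, 0, 0, 0, 0, 0, 0, 934, 0, 0, 0, 0, 0, 0, 0, 0, 0, 0, 0, 0, 0, 0, 0, 0, 0, 0, 311, 0, 0, 0, 0, 0, 0, 0, 767, 0, 0, 0, 0, 0, 0, 0, 936, 0, 0, 0, 0, 0, 0, 0, 553, 0, 0, 0, 0, 0, 0, 0, 0, 0, 0, 0, 0, 0, 0, 0, 0, 0, 0, 1202, 0, 0],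
   [0, 0, 0, 0, 0, 188, 0, 0, 0, 0, 0, 0, 0, 0, 0, 0, 0, 0, 369, 0, 0, 0, 0, 0, 0, 0, 0, 0, 0, 0, 0, 346, 0, 506, 0, 0, 0, 0, 0, 0, 0, 0, 0, 0, 0, 0, 52, 0, 0, 0, 0, 0, 0, 0, 0, 0, 0, 0, 0, 1033, 0, 0, 0, 0, 0, 0, 0, 0, 0, 0, 0, 0, 10, 0, 0, 0, 0, 0, 0, 0, 0, 0, 0, 0, 0, 424, 0, 0, 0, 0, 0, 0, 0, 0, 0, 0, 0, 0, 225, 0, 420, 0, 0, 0, 0, 0, 0, 0, 0, 0, 0, 0, 0, 616, 0, 0, 0, 0, 0, 0, 0],
   [0, 0, 0, 0, 0, 523, 0, 0, 0, 0, 0, 0, 1195, 0, 0, 0, 0, 0, 0, 0, 0, 0, 0, 0, 0, 0, 0, 0, 0, 0, 629, 0, 0, 0, 0, 0, 0, 1131, 0, 0, 0, 0, 0, 0, 92, 0, 0, 0, 0, 0, 0, 0, 0, 0, 0, 0, 0, 0, 0, 0, 0, 0, 1041, 0, 0, 0, 0, 0, 0, 525, 0, 0, 0, 0, 0, 0, 0, 0, 0, 0, 0, 0, 0, 0, 0, 0, 0, 914, 0, 0, 0, 0, 0, 0, 1043, 0, 0, 0, 0, 0, 0, 741, 0, 0, 0, 0, 0, 0, 0, 0, 0, 0, 0, 0, 0, 0, 0, 0, 0, 1239, 0],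
   [0, 0, 0, 0, 0, 236, 0, 0, 0, 0, 0, 0, 0, 0, 0, 0, 0, 611, 0, 0, 0, 0, 0, 0, 0, 0, 0, 0, 0, 576, 0, 0, 0, 0, 0, 0, 0, 0, 0, 0, 0, 685, 0, 0, 0, 0, 0, 0, 0, 0, 0, 0, 0, 109, 0, 0, 0, 0, 0, 0, 0, 0, 0, 0, 0, 1110, 76, 0, 0, 0, 0, 0, 0, 0, 0, 0, 0, 0, 211, 0, 0, 0, 0, 0, 0, 0, 0, 0, 0, 0, 181, 0, 0, 0, 0, 0, 0, 0, 0, 0, 0, 0, 58, 0, 0, 0, 0, 0, 0, 0, 0, 0, 0, 0, 813, 0, 0, 0, 0, 0, 0],
   [0, 0, 0, 0, 0, 705, 0, 0, 0, 0, 0, 1232, 0, 0, 0, 0, 0, 0, 0, 0, 0, 0, 0, 0, 0, 0, 0, 0, 480, 0, 0, 0, 0, 0, 1185, 0, 0, 0, 0, 0, 0, 0, 0, 0, 0, 0, 0, 0, 0, 0, 0, 239, 0, 0, 0, 0, 0, 1118, 0, 0, 0, 0, 0, 0, 0, 0, 0, 0, 0, 0, 0, 0, 0, 0, 707, 0, 0, 0, 0, 0, 1021, 0, 0, 0, 0, 0, 0, 0, 0, 0, 0, 0, 0, 0, 0, 0, 0, 1120, 0, 0, 0, 0, 0, 887, 0, 0, 0, 0, 0, 0, 0, 0, 0, 0, 0, 0, 0, 0, 0, 0, 1264],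
   [0, 0, 0, 0, 0, 0, 0, 0, 0, 0, 1313, 0, 0, 0, 0, 0, 0, 0, 0, 0, 0, 1307, 0, 0, 0, 0, 0, 0, 0, 0, 0, 0, 1297, 0, 0, 0, 0, 0, 0, 0, 0, 0, 0, 1283, 0, 0, 0, 0, 0, 0, 0, 0, 0, 0, 1261, 0, 0, 0, 0, 0, 0, 0, 0, 0, 0, 1229, 0, 0, 0, 0, 0, 0, 0, 0, 0, 0, 1182, 0, 0, 0, 0, 0, 0, 0, 0, 0, 0, 1113, 0, 0, 0, 0, 0, 0, 0, 0, 0, 0, 1016, 0, 0, 0, 0, 0, 0, 0, 0, 0, 0, 1184, 0, 0, 0, 0, 0, 0, 0, 0, 0, 0, 1285],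
   [0, 0, 0, 0, 0, 0, 0, 0, 0, 0, 1279, 0, 0, 0, 0, 0, 0, 0, 0, 0, 1254, 0, 0, 0, 0, 0, 0, 0, 0, 0, 1219, 0, 0, 0, 0, 0, 0, 0, 0, 0, 1167, 0, 0, 0, 0, 0, 0, 0, 0, 0, 1091, 0, 0, 0, 0, 0, 0, 0, 0, 0, 985, 0, 0, 0, 0, 0, 0, 0, 0, 0, 837, 0, 0, 0, 0, 0, 0, 0, 0, 0, 643, 0, 0, 0, 0, 0, 0, 0, 0, 0, 987, 0, 0, 0, 0, 0, 0, 0, 0, 0, 1221, 0, 0, 0, 0, 0, 0, 0, 0, 0, 1295, 0, 0, 0, 0, 0, 0, 0, 0, 0, 0],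
   [0, 0, 0, 0, 0, 0, 0, 0, 0, 0, 1163, 0, 0, 0, 0, 0, 0, 0, 0, 1084, 0, 0, 0, 0, 0, 0, 0, 0, 975, 0, 0, 0, 0, 0, 0, 0, 0, 822, 0, 0, 0, 0, 0, 0, 0, 0, 623, 0, 0, 0, 0, 0, 0, 0, 0, 379, 0, 0, 0, 0, 0, 0, 0, 0, 0, 0, 0, 0, 0, 0, 0, 0, 0, 0, 0, 161, 0, 0, 0, 0, 0, 0, 0, 0, 29, 0, 0, 0, 0, 0, 0, 0, 0, 488, 0, 0, 0, 0, 0, 0, 0, 0, 977, 0, 0, 0, 0, 0, 0, 0, 0, 1217, 0, 0, 0, 0, 0, 0, 0, 0, 0],
   [0, 0, 0, 0, 0, 0, 0, 0, 0, 0, 1081, 0, 0, 0, 0, 0, 0, 0, 972, 0, 0, 0, 0, 0, 0, 0, 817, 0, 0, 0, 0, 0, 0, 0, 698, 0, 0, 0, 0, 0, 0, 0, 0, 0, 0, 0, 0, 0, 0, 0, 0, 0, 0, 371, 0, 0, 0, 0, 0, 0, 0, 155, 0, 0, 0, 0, 0, 0, 0, 94, 0, 0, 0, 0, 0, 0, 0, 49, 0, 0, 0, 0, 0, 0, 0, 0, 0, 0, 0, 0, 0, 0, 0, 0, 0, 0, 666, 0, 0, 0, 0, 0, 0, 0, 373, 0, 0, 0, 0, 0, 0, 0, 974, 0, 0, 0, 0, 0, 0, 0, 0],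
   [0, 0, 0, 0, 0, 0, 0, 0, 0, 0, 1158, 0, 0, 0, 0, 0, 0, 1079, 0, 0, 0, 0, 0, 0, 969, 0, 0, 0, 0, 0, 0, 0, 0, 0, 0, 0, 0, 0, 0, 0, 0, 0, 843, 0, 0, 0, 0, 0, 0, 613, 0, 0, 0, 0, 0, 0, 367, 0, 0, 0, 0, 0, 0, 0, 0, 0, 0, 0, 0, 0, 0, 0, 0, 0, 242, 0, 0, 0, 0, 0, 0, 132, 0, 0, 0, 0, 0, 0, 34, 0, 0, 0, 0, 0, 0, 0, 0, 0, 0, 0, 0, 0, 0, 0, 0, 0, 154, 0, 0, 0, 0, 0, 0, 816, 0, 0, 0, 0, 0, 0, 0],
   [0, 0, 0, 0, 0, 0, 0, 0, 0, 0, 1212, 0, 0, 0, 0, 0, 1156, 0, 0, 0, 0, 0, 1076, 0, 0, 0, 0, 0, 0, 0, 0, 0, 0, 0, 0, 0, 0, 0, 0, 966, 0, 0, 0, 0, 0, 810, 0, 0, 0, 0, 0, 0, 0, 0, 0, 0, 0, 0, 0, 0, 0, 0, 609, 0, 0, 0, 0, 0, 425, 0, 0, 0, 0, 0, 0, 0, 0, 0, 0, 0, 0, 0, 0, 0, 0, 319, 0, 0, 0, 0, 0, 61, 0, 0, 0, 0, 0, 0, 0, 0, 0, 0, 0, 0, 0, 0, 0, 0, 366, 0, 0, 0, 0, 0, 968, 0, 0, 0, 0, 0, 0],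
   [0, 0, 0, 0, 0, 0, 0, 0, 0, 0, 1249, 0, 0, 0, 0, 1210, 0, 0, 0, 0, 0, 0, 0, 0, 0, 0, 0, 0, 0, 0, 0, 1153, 0, 0, 0, 0, 1073, 0, 0, 0, 0, 0, 0, 0, 0, 0, 0, 0, 0, 0, 0, 0, 961, 0, 0, 0, 0, 803, 0, 0, 0, 0, 0, 0, 0, 0, 0, 0, 0, 0, 0, 0, 0, 599, 0, 0, 0, 0, 534, 0, 0, 0, 0, 0, 0, 0, 0, 0, 0, 0, 0, 0, 0, 0, 144, 0, 0, 0, 0, 601, 0, 0, 0, 0, 0, 0, 0, 0, 0, 0, 0, 0, 0, 0, 0, 1075, 0, 0, 0, 0, 0],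
   [0, 0, 0, 0, 0, 0, 0, 0, 0, 0, 1274, 0, 0, 0, 1247, 0, 0, 0, 0, 0, 0, 0, 0, 0, 0, 0, 0, 0, 0, 1207, 0, 0, 0, 1150, 0, 0, 0, 0, 0, 0, 0, 0, 0, 0, 0, 0, 0, 0, 1068, 0, 0, 0, 0, 0, 0, 0, 0, 0, 0, 0, 0, 0, 0, 954, 0, 0, 0, 793, 0, 0, 0, 0, 0, 0, 0, 0, 0, 0, 0, 0, 0, 0, 719, 0, 0, 0, 0, 0, 0, 0, 0, 0, 0, 0, 0, 0, 0, 341, 0, 0, 0, 795, 0, 0, 0, 0, 0, 0, 0, 0, 0, 0, 0, 0, 0, 0, 1152, 0, 0, 0, 0],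
   [0, 0, 0, 0, 0, 0, 0, 0, 0, 0, 1291, 0, 0, 1272, 0, 0, 0, 0, 0, 0, 0, 0, 0, 0, 0, 0, 0, 1244, 0, 0, 0, 0, 0, 0, 0, 0, 0, 0, 0, 0, 0, 1204, 0, 0, 1145, 0, 0, 0, 0, 0, 0, 0, 0, 0, 0, 0, 0, 0, 1061, 0, 0, 0, 0, 0, 0, 0, 0, 0, 0, 0, 0, 0, 944, 0, 0, 0, 0, 0, 0, 0, 0, 0, 0, 0, 0, 0, 864, 0, 0, 571, 0, 0, 0, 0, 0, 0, 0, 0, 0, 0, 0, 0, 0, 946, 0, 0, 0, 0, 0, 0, 0, 0, 0, 0, 0, 0, 0, 1206, 0, 0, 0],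
   [0, 0, 0, 0, 0, 0, 0, 0, 0, 0, 1302, 0, 1289, 0, 0, 0, 0, 0, 0, 0, 0, 0, 0, 0, 0, 1269, 0, 0, 0, 0, 0, 0, 0, 0, 0, 0, 0, 0, 1241, 0, 0, 0, 0, 0, 0, 0, 0, 0, 0, 0, 0, 1199, 0, 0, 0, 0, 0, 0, 0, 0, 0, 0, 0, 0, 1138, 0, 1051, 0, 0, 0, 0, 0, 0, 0, 0, 0, 0, 0, 0, 929, 0, 0, 0, 0, 0, 0, 0, 0, 0, 0, 0, 0, 762, 0, 0, 0, 0, 0, 0, 0, 0, 0, 0, 0, 0, 1053, 0, 0, 0, 0, 0, 0, 0, 0, 0, 0, 0, 0, 1243, 0, 0],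
   [0, 0, 0, 0, 0, 0, 0, 0, 0, 0, 1309, 1300, 0, 0, 0, 0, 0, 0, 0, 0, 0, 0, 0, 1286, 0, 0, 0, 0, 0, 0, 0, 0, 0, 0, 0, 1266, 0, 0, 0, 0, 0, 0, 0, 0, 0, 0, 0, 1236, 0, 0, 0, 0, 0, 0, 0, 0, 0, 0, 0, 1192, 0, 0, 0, 0, 0, 0, 0, 0, 0, 0, 0, 1128, 0, 0, 0, 0, 0, 0, 0, 0, 0, 0, 0, 1036, 0, 0, 0, 0, 0, 0, 0, 0, 0, 0, 0, 909, 0, 0, 0, 0, 0, 0, 0, 0, 0, 0, 0, 1130, 0, 0, 0, 0, 0, 0, 0, 0, 0, 0, 0, 1268, 0]]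

set_option maxRecDepth 100000 in
/-- The positions in the chain of one matrix from each pair of opposite matrices. -/
def halfP : List ℕ :=
  [1319, 1318, 1317, 1316, 1315, 1314, 1312, 1311, 1310, 1308, 1307, 1305, 1304, 1303, 1301, 1300, 1298, 1297, 1296, 1294, 1293, 1292, 1290, 1289, 1287, 1286, 1284, 1283, 1282, 1280, 1279, 1277, 1276, 1275, 1273, 1272, 1270, 1269, 1267, 1266, 1265, 1262, 1261, 1260, 1258, 1257, 1255, 1254, 1252, 1251, 1250, 1248, 1247, 1245, 1244, 1242, 1241, 1240, 1237, 1236, 1235, 1233, 1232, 1230, 1229, 1228, 1226, 1225, 1223, 1222, 1220, 1219, 1218, 1215, 1214, 1213, 1211, 1210, 1208, 1207, 1205, 1204, 1203, 1200, 1199, 1198, 1196, 1195, 1193, 1192, 1191, 1189, 1188, 1186, 1185, 1183, 1182, 1181, 1179, 1178, 1176, 1175, 1173, 1172, 1171, 1168, 1167, 1166,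 1164, 1163, 1160, 1159, 1157, 1156, 1154, 1153, 1151, 1150, 1149, 1146, 1145, 1144, 1142, 1141, 1139, 1138, 1137, 1135, 1134, 1132, 1131, 1129, 1128, 1127, 1125, 1124, 1122, 1121, 1119, 1118, 1117, 1114, 1113, 1112, 1110, 1109, 1107, 1106, 1104, 1103, 1102, 1099, 1098, 1097, 1095, 1094, 1092, 1091, 1090, 1088, 1087, 1085, 1084, 1082, 1080, 1079, 1077, 1076, 1074, 1073, 1072, 1069, 1068, 1067, 1065, 1064, 1062, 1061, 1060, 1058, 1057, 1055, 1054, 1052, 1051, 1050, 1048, 1047, 1045, 1044, 1042, 1041, 1040, 1037, 1036, 1035, 1033, 1032, 1030, 1029, 1027, 1026, 1025, 1022, 1021, 1020, 1018, 1015, 1013, 1012, 1010, 1009, 1007, 1006, 1005, 1002, 1001, 1000, 998, 997, 995, 994, 993, 991, 989, 988, 986, 985, 984, 982, 981, 979, 978, 976, 975, 973, 972, 970, 969, 967, 966, 965, 962, 961,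 960, 958, 957, 955, 954, 953, 951, 950, 948, 947, 945, 944, 943, 941, 940, 938, 937, 935, 934, 933, 930, 929, 928, 926, 925, 923, 920, 919, 918, 915, 914, 913, 911, 908, 906, 905, 903, 902, 900, 899, 898, 895, 894, 893, 891, 890, 888, 887, 886, 884, 882, 881, 878, 877, 875, 874, 872, 871, 870, 867, 866, 864, 863, 861, 860, 859, 857, 856, 854, 853, 851, 850, 849, 846, 843, 842, 841, 838, 837, 836, 834, 833, 831, 830, 828, 827, 826, 823, 822, 821, 818, 817, 815, 814, 811, 810, 809, 807, 806, 804, 803, 802, 800, 799, 797, 796, 794, 793, 791, 790, 789, 788, 786, 785, 784, 781, 780, 778, 776, 773, 772, 771, 768, 767, 766, 764, 761, 759, 758, 756, 754, 753, 749, 748, 745, 744, 742, 741, 740, 738, 736, 735, 732, 731, 729, 728, 726, 725, 722, 721, 719, 718, 716, 715, 714, 711, 709, 708,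 706, 705, 704, 701, 698, 697, 694, 692, 691, 690, 687, 686, 685, 683, 682, 680, 679, 678, 677, 675, 672, 671, 669, 668, 666, 665, 663, 662, 661, 658, 657, 656, 654, 653, 649, 647, 645, 642, 640, 639, 637, 636, 634, 633, 632, 629, 628, 626, 625, 624, 623, 622, 620, 618, 617, 614, 613, 612, 611, 609, 608, 606, 605, 603, 602, 600, 599, 597, 596, 595, 594, 592, 591, 590, 587, 586, 583, 581, 580, 579, 576, 575, 570, 569, 566, 565, 561, 560, 557, 554, 553, 552, 550, 548, 545, 544, 542, 541, 539, 536, 532, 531, 530, 527, 526, 524, 523, 519, 516, 513, 511, 510, 509, 506, 503, 501, 500, 499, 496, 493, 492, 485, 484, 481, 480, 479, 477, 476, 472, 470, 467, 464, 463, 461, 460, 458, 457, 456, 454, 451, 450, 448, 447, 446, 444, 443, 439, 436, 433, 432, 428, 427, 426, 421, 419, 412, 411, 408,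 405, 402, 401, 399, 393, 390, 389, 387, 382, 381, 380, 379, 375, 372, 371, 370, 369, 364, 361, 360, 357, 356, 353, 349, 346, 345, 339, 337, 336, 329, 328, 327, 323, 321, 316, 313, 312, 304, 301, 300, 296, 295, 294, 289, 284, 283, 280, 279, 273, 272, 269, 268, 266, 265, 263, 259, 258, 256, 251, 243, 238, 236, 229, 228, 226, 221, 217, 216, 213, 210, 208, 205, 203, 202, 189, 188, 187, 186, 177, 175, 167, 163, 162, 160, 152, 147, 146, 142, 138, 136, 122, 110, 106, 95, 82, 78, 76, 71, 53, 37]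

/-- The image of the base flag, as two masks. -/
def keyOf (l : List ℕ) : ℕ × ℕ := (actM l 0 2, actM l 0 1)

/-- Membership test for the dodecad stabiliser. -/
def memD (l : List ℕ) : Bool := isM24L l && actM l 0 8551822 == 8551822

/-- Membership test for the stabiliser of the base flag. -/
def memH (l : List ℕ) : Bool := memD l && actM l 0 2 == 2 && actM l 0 1 == 1

/-- The representative of a matrix given by the list of its entries. -/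
def repN : List ℕ → List ℕ
  | [a, b, c, d] => (tabN.getD (a * 11 + b) []).getD (c * 11 + d) []
  | _ => []

/-- The product of two matrices given by the lists of their entries. -/
def tmulN : List ℕ → List ℕ → List ℕ
  | [a, b, c, d], [a', b', c', d'] =>
    [(a * a' % 11 + b * c' % 11) % 11, (a * b' % 11 + b * d' % 11) % 11,
     (c * a' % 11 + d * c' % 11) % 11, (c * b' % 11 + d * d' % 11) % 11]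
  | _, _ => []

/-- The determinant condition on the entries. -/
def vN (a b c d : ℕ) : Bool := a * d % 11 == (1 + b * c % 11) % 11

/-- The identity matrix. -/
def idN : List ℕ := [1, 0, 0, 1]

/-- The negative of the identity matrix. -/
def negN : List ℕ := [10, 0, 0, 10]

/-- The first generator. -/
def gT : List ℕ := [1, 1, 0, 1]

/-- The second generator. -/
def gS : List ℕ := [0, 10, 1, 0]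

/-- The two generators. -/
def gensN : List (List ℕ) := [gT, gS]

/-- The matrix at a position of the chain. -/
def atN (k : ℕ) : List ℕ := (chainN.getD k ([], 0)).1

/-- The position recorded for a matrix. -/
def posOf (a b c d : ℕ) : ℕ := (posN.getD (a * 11 + b) []).getD (c * 11 + d) 0

/-- Check that every entry of a list is the identity or a generator times a later entry. -/
def chainOK2 : List (List ℕ × ℕ) → Bool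
  | [] => true
  | r :: rest =>
    (r.1 == idN || (match rest[r.2]? with
      | some p => gensN.any (fun s => r.1 == tmulN s p.1)
      | none => false)) && chainOK2 rest

theorem chain2_ind {Q : List ℕ → Prop} (h1 : Q idN)
    (hs : ∀ s ∈ gensN, ∀ y, Q y → Q (tmulN s y)) :
    ∀ L : List (List ℕ × ℕ), chainOK2 L = true → ∀ r ∈ L, Q r.1 := by
  intro L
  induction L with
  | nil => intro _ x hx; exact absurd hx List.not_mem_nil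
  | cons a rest ih =>
    intro h x hx
    rw [chainOK2, Bool.and_eq_true, Bool.or_eq_true] at h
    rcases List.mem_cons.1 hx with rfl | hx
    · rcases h.1 with h0 | h0
      · rw [beq_iff_eq] at h0
        rw [h0]
        exact h1
      · cases hp : rest[x.2]? with
        | none => rw [hp] at h0; exact absurd h0 (by simp)
        | some p =>
          rw [hp] at h0
          have h0' : gensN.any (fun s => x.1 == tmulN s p.1) = true := h0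
          rw [List.any_eq_true] at h0'
          obtain ⟨s, hs', h0''⟩ := h0'
          rw [beq_iff_eq] at h0''
          rw [h0'']
          exact hs s hs' p.1 (ih h.2 p (List.mem_of_getElem? hp))
    · exact ih h.2 x hx

end Cfsg.Agent.Lib.Helper1.Dod11
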