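import Mathlib
import Cfsg.Prelude.Def_SolvableStructure
import Cfsg.Agent.Lib.Helper1.Basic
import Cfsg.Agent.Lib.Helper6.Index
import Cfsg.Agent.Lib.Lead.Hall2
import Cfsg.Agent.Lib.Lead.SylowSystem

set_option autoImplicit false

universe u

namespace Cfsg.Agent.Lib.Helper1

open Pointwise

theorem card_conj_smul {G : Type*} [Group G] (g : G) (H : Subgroup G) :
    Nat.card (MulAut.conj g • H : Subgroup G) = Nat.card H :=
  Nat.card_congr (Subgroup.equivSMul (MulAut.conj g) H).toEquiv.symm

theorem index_conj_smul {G : Type*} [Group G] [Finite G] (g : G) (H : Subgroup G) :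
    (MulAut.conj g • H : Subgroup G).index = H.index := by
  have h1 := Subgroup.card_mul_index (MulAut.conj g • H : Subgroup G)
  have h2 := Subgroup.card_mul_index H
  rw [card_conj_smul, ← h2] at h1
  exact Nat.eq_of_mul_eq_mul_left Nat.card_pos h1

theorem conj_smul_eq_self_of_mem_normalizer {G : Type*} [Group G] {H : Subgroup G} {g : G}
    (hg : g ∈ Subgroup.normalizer (H : Set G)) : MulAut.conj g • H = H := by
  ext x
  rw [mem_conj_smul]
  have h := Subgroup.mem_normalizer_iff.1 (Subgroup.inv_mem _ hg) x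
  rw [inv_inv] at h
  exact h.symm

theorem conj_mul_smul {G : Type*} [Group G] (a b : G) (H : Subgroup G) :
    MulAut.conj (a * b) • H = MulAut.conj a • MulAut.conj b • H := by
  rw [map_mul, mul_smul]

/-- two subgroups of coprime index factorize the group -/
theorem exists_mul_of_coprime_index {G : Type*} [Group G] [Finite G] (A B : Subgroup G)
    (h : A.index.Coprime B.index) (x : G) : ∃ a ∈ A, ∃ b ∈ B, x = a * b := by
  have hinf := Cfsg.Agent.Lib.Lead.index_inf_of_coprime A B h
  have hrel : B.relIndex A = B.index := by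
    have h1 := Subgroup.relIndex_mul_index (inf_le_left : A ⊓ B ≤ A)
    rw [hinf, Subgroup.inf_relIndex_left] at h1
    have hpos : 0 < A.index := Nat.pos_of_ne_zero Subgroup.index_ne_zero_of_finite
    rw [mul_comm] at h1
    exact Nat.eq_of_mul_eq_mul_left hpos h1
  let φ : A ⧸ (B.subgroupOf A) → G ⧸ B :=
    Quotient.map' (fun a : A => (a : G)) (by
      intro a1 a2 h12
      rw [QuotientGroup.leftRel_apply] at h12 ⊢
      exact h12)
  have hinj : Function.Injective φ := by
    intro q1 q2
    induction q1 using Quotient.inductionOn' with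
    | _ a1 =>
    induction q2 using Quotient.inductionOn' with
    | _ a2 =>
    intro h12
    have h12' : (QuotientGroup.mk (a1 : G) : G ⧸ B) = QuotientGroup.mk (a2 : G) := h12
    rw [QuotientGroup.eq] at h12'
    exact QuotientGroup.eq.2 h12'
  have hcard : Nat.card (G ⧸ B) ≤ Nat.card (A ⧸ (B.subgroupOf A)) := by
    rw [← Subgroup.index_eq_card, ← Subgroup.index_eq_card]
    exact hrel.symm.le
  have hbij := hinj.bijective_of_nat_card_le hcard
  obtain ⟨q, hq⟩ := hbij.2 (QuotientGroup.mk x)
  induction q using Quotient.inductionOn' with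
  | _ a =>
  have hq' : (QuotientGroup.mk (a : G) : G ⧸ B) = QuotientGroup.mk x := hq
  rw [QuotientGroup.eq] at hq'
  exact ⟨a, a.2, _, hq', by group⟩

/-- relative version -/
theorem exists_mul_of_coprime_relIndex {G : Type*} [Group G] [Finite G] (N A B : Subgroup G)
    (h : (A.relIndex N).Coprime (B.relIndex N)) (x : G) (hx : x ∈ N) :
    ∃ a ∈ A ⊓ N, ∃ b ∈ B ⊓ N, x = a * b := by
  obtain ⟨a, ha, b, hb, e⟩ := exists_mul_of_coprime_index (A.subgroupOf N) (B.subgroupOf N) h ⟨x, hx⟩
  refine ⟨a, Subgroup.mem_inf.2 ⟨Subgroup.mem_subgroupOf.1 ha, a.2⟩, b,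
    Subgroup.mem_inf.2 ⟨Subgroup.mem_subgroupOf.1 hb, b.2⟩, ?_⟩
  have := congrArg Subtype.val e
  simpa using this

theorem relIndex_dvd_index_of_le_normalizer {G : Type*} [Group G] (Q D : Subgroup G)
    (h : D ≤ Subgroup.normalizer (Q : Set G)) : Q.relIndex D ∣ Q.index := by
  obtain ⟨X, hX⟩ : ∃ X, X = Subgroup.normalizer (Q : Set G) := ⟨_, rfl⟩
  rw [← hX] at h
  have hQX : Q ≤ X := by rw [hX]; exact Subgroup.le_normalizer
  haveI : (Q.subgroupOf X).Normal := by rw [hX]; exact Subgroup.normal_in_normalizer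
  have h1 := Subgroup.relIndex_dvd_index_of_normal (H := Q.subgroupOf X) (K := D.subgroupOf X)
  rw [Subgroup.relIndex_subgroupOf h] at h1
  exact h1.trans (Subgroup.relIndex_dvd_index_of_le hQX)

theorem relIndex_dvd_index_of_normal_right {G : Type*} [Group G] [Finite G] (A N : Subgroup G)
    [N.Normal] : A.relIndex N ∣ A.index := by
  rw [← Cfsg.Agent.Lib.Helper6.relIndex_sup_of_normal A N]
  exact Subgroup.relIndex_dvd_index_of_le le_sup_left

/-- conjugacy of Hall subgroups inside a subgroup -/
theorem hall_conj_in {G : Type u} [Group G] [Finite G] [Group.IsSolvable G] (T H K : Subgroup G)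
    (hH : H ≤ T) (hK : K ≤ T) (hcard : Nat.card H = Nat.card K)
    (hcop : (Nat.card H).Coprime (H.relIndex T)) : ∃ t ∈ T, MulAut.conj t • H = K := by
  have h1 : Nat.card (H.subgroupOf T) = Nat.card H :=
    Nat.card_congr (Subgroup.subgroupOfEquivOfLe hH).toEquiv
  have h2 : Nat.card (K.subgroupOf T) = Nat.card H := by
    rw [hcard]; exact Nat.card_congr (Subgroup.subgroupOfEquivOfLe hK).toEquiv
  have h3 : Nat.card T = Nat.card H * H.relIndex T := by
    rw [← h1]; exact (Subgroup.card_mul_index (H.subgroupOf T)).symm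
  obtain ⟨t, ht⟩ := Cfsg.Agent.Lib.Lead.hall_conj (Nat.card T) T (Nat.card H) (H.relIndex T) rfl h3
    hcop _ _ h1 h2
  refine ⟨t, t.2, ?_⟩
  have hle : MulAut.conj (t : G) • H ≤ K := by
    intro y hy
    rw [mem_conj_smul] at hy
    have h4 : (⟨(t : G)⁻¹ * y * t, hH hy⟩ : T) ∈ H.subgroupOf T := hy
    have h5 := conj_mem_conj_smul t h4
    rw [ht] at h5
    have h6 : ((t * (⟨(t : G)⁻¹ * y * t, hH hy⟩ : T) * t⁻¹ : T) : G) ∈ K := h5
    have h7 : ((t * (⟨(t : G)⁻¹ * y * t, hH hy⟩ : T) * t⁻¹ : T) : G) = y := by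
      show (t : G) * ((t : G)⁻¹ * y * t) * (t : G)⁻¹ = y
      group
    rw [← h7]; exact h6
  exact Subgroup.eq_of_le_of_card_ge hle (by rw [card_conj_smul, hcard])

section system

variable {G : Type u} [Group G] [Finite G]

theorem compl_not_dvd_card {K : Nat.Primes → Subgroup G} (hK : Cfsg.IsComplementSystem K)
    (r : Nat.Primes) : ¬ (r : ℕ) ∣ Nat.card (K r) := by
  intro hd
  have h1 := Subgroup.card_mul_index (K r)
  have h0 := hK r
  obtain ⟨a, ha⟩ : ∃ a, a = (Nat.card G).factorization r := ⟨_, rfl⟩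
  rw [← ha] at h0
  rw [h0] at h1
  have h2 : (r : ℕ) ^ (a + 1) ∣ Nat.card G := by
    rw [← h1, pow_succ, mul_comm]
    exact Nat.mul_dvd_mul hd dvd_rfl
  rw [ha] at h2
  exact Nat.pow_succ_factorization_not_dvd Nat.card_pos.ne' r.2 h2

theorem compl_card_coprime {K : Nat.Primes → Subgroup G} (hK : Cfsg.IsComplementSystem K)
    (r : Nat.Primes) : (Nat.card (K r)).Coprime ((r : ℕ) ^ (Nat.card G).factorization r) :=
  (Nat.Coprime.pow_left _ ((Nat.Prime.coprime_iff_not_dvd r.2).2 (compl_not_dvd_card hK r))).symm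

theorem compl_card_eq {K L : Nat.Primes → Subgroup G} (hK : Cfsg.IsComplementSystem K)
    (hL : Cfsg.IsComplementSystem L) (r : Nat.Primes) : Nat.card (K r) = Nat.card (L r) := by
  have h1 := Subgroup.card_mul_index (K r)
  have h2 := Subgroup.card_mul_index (L r)
  have h0 := hK r
  have h0' := hL r
  obtain ⟨a, ha⟩ : ∃ a, a = (Nat.card G).factorization r := ⟨_, rfl⟩
  rw [← ha] at h0 h0'
  rw [h0] at h1
  rw [h0', ← h1] at h2
  exact (Nat.eq_of_mul_eq_mul_right (pow_pos r.2.pos _) h2).symm

theorem compl_eq_top {K : Nat.Primes → Subgroup G} (hK : Cfsg.IsComplementSystem K)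
    (r : Nat.Primes) (hr : ¬ (r : ℕ) ∣ Nat.card G) : K r = ⊤ := by
  rw [← Subgroup.index_eq_one, hK r, Nat.factorization_eq_zero_of_not_dvd hr, pow_zero]

theorem compl_conj {K : Nat.Primes → Subgroup G} (hK : Cfsg.IsComplementSystem K) (g : G) :
    Cfsg.IsComplementSystem (fun p => MulAut.conj g • K p) := by
  intro p
  rw [index_conj_smul]
  exact hK p

/-- the index of an intersection of members of a complement system is prime to the other primes -/
theorem compl_iInf_index {K : Nat.Primes → Subgroup G} (hK : Cfsg.IsComplementSystem K)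
    (s : Finset Nat.Primes) : ∀ r : Nat.Primes, r ∉ s → ¬ (r : ℕ) ∣ (⨅ p ∈ s, K p).index := by
  classical
  induction s using Finset.induction_on with
  | empty =>
    intro r _
    simp only [Finset.notMem_empty, iInf_false, iInf_top, Subgroup.index_top]
    exact r.2.one_lt.ne' ∘ Nat.dvd_one.1
  | insert a s ha ih =>
    intro r hr
    rw [Finset.iInf_insert]
    have hcop : (K a).index.Coprime (⨅ p ∈ s, K p).index := by
      rw [hK a]
      exact Nat.Coprime.pow_left _ ((Nat.Prime.coprime_iff_not_dvd a.2).2 (ih a ha))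
    rw [Cfsg.Agent.Lib.Lead.index_inf_of_coprime _ _ hcop]
    intro hd
    rcases (Nat.Prime.dvd_mul r.2).1 hd with h | h
    · rw [hK a] at h
      have h1 := r.2.dvd_of_dvd_pow h
      have h2 := (Nat.prime_dvd_prime_iff_eq r.2 a.2).1 h1
      apply hr
      rw [Finset.mem_insert]
      left
      exact Subtype.ext h2
    · exact ih r (fun hrs => hr (Finset.mem_insert_of_mem hrs)) h

/-- simultaneous conjugacy of complement systems by an element of a normal subgroup -/
theorem system_conj_aux [Group.IsSolvable G] (N : Subgroup G) [N.Normal]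
    (L : Nat.Primes → Subgroup G) (hL : Cfsg.IsComplementSystem L) (s : Finset Nat.Primes) :
    ∀ K : Nat.Primes → Subgroup G, Cfsg.IsComplementSystem K → (∀ p, K p ≤ L p ⊔ N) →
      ∃ n ∈ N, ∀ p ∈ s, MulAut.conj n • K p = L p := by
  classical
  induction s using Finset.induction_on with
  | empty =>
    intro K _ _
    exact ⟨1, N.one_mem, by simp⟩
  | insert q s hq ih =>
    intro K hK hKL
    obtain ⟨n0, hn0, hn0s⟩ := ih K hK hKL
    obtain ⟨K', hK'def⟩ : ∃ K' : Nat.Primes → Subgroup G, K' = fun p => MulAut.conj n0 • K p :=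
      ⟨_, rfl⟩
    have hK' : Cfsg.IsComplementSystem K' := by rw [hK'def]; exact compl_conj hK n0
    have hK's : ∀ p ∈ s, K' p = L p := by
      intro p hp
      rw [hK'def]
      exact hn0s p hp
    have hK'q : K' q ≤ L q ⊔ N := by
      intro y hy
      rw [hK'def] at hy
      rw [mem_conj_smul] at hy
      have h1 : y = n0 * (n0⁻¹ * y * n0) * n0⁻¹ := by group
      rw [h1]
      exact mul_mem (mul_mem (Subgroup.mem_sup_right hn0) (hKL q hy))
        (inv_mem (Subgroup.mem_sup_right hn0))
    -- conjugate inside `T`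
    have hcard : Nat.card (K' q) = Nat.card (L q) := compl_card_eq hK' hL q
    have hcop : (Nat.card (K' q)).Coprime ((K' q).relIndex (L q ⊔ N)) := by
      have h1 : (K' q).relIndex (L q ⊔ N) ∣ (K' q).index := Subgroup.relIndex_dvd_index_of_le hK'q
      rw [hK' q] at h1
      exact Nat.Coprime.coprime_dvd_right h1 (compl_card_coprime hK' q)
    obtain ⟨t, ht, htK⟩ := hall_conj_in (L q ⊔ N) (K' q) (L q) hK'q le_sup_left hcard hcop
    obtain ⟨l, hl, n1, hn1, rfl⟩ := (Subgroup.mem_sup_of_normal_right (t := N)).1 ht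
    have hn1K : MulAut.conj n1 • K' q = L q := by
      rw [conj_mul_smul] at htK
      have h2 : MulAut.conj l⁻¹ • MulAut.conj l • MulAut.conj n1 • K' q = MulAut.conj l⁻¹ • L q := by
        rw [htK]
      rw [← conj_mul_smul, inv_mul_cancel, map_one, one_smul,
        Subgroup.conj_smul_eq_self_of_mem (inv_mem hl)] at h2
      exact h2
    -- factorize `n1`
    have hA : ¬ (q : ℕ) ∣ (⨅ p ∈ s, L p).relIndex N := by
      intro hd
      exact compl_iInf_index hL s q hq (hd.trans (relIndex_dvd_index_of_normal_right _ N))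
    have hB : (Subgroup.normalizer ((K' q : Subgroup G) : Set G)).relIndex N ∣
        (q : ℕ) ^ (Nat.card G).factorization q := by
      rw [← hK' q]
      exact (relIndex_dvd_index_of_normal_right _ N).trans
        (Subgroup.index_dvd_of_le Subgroup.le_normalizer)
    have hAB : ((⨅ p ∈ s, L p).relIndex N).Coprime
        ((Subgroup.normalizer ((K' q : Subgroup G) : Set G)).relIndex N) :=
      Nat.Coprime.coprime_dvd_right hB
        (Nat.Coprime.pow_left _ ((Nat.Prime.coprime_iff_not_dvd q.2).2 hA)).symm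
    obtain ⟨a, ha, b, hb, hab⟩ := exists_mul_of_coprime_relIndex N _ _ hAB n1 hn1
    have haK : MulAut.conj a • K' q = L q := by
      rw [← hn1K, hab, conj_mul_smul, conj_smul_eq_self_of_mem_normalizer (Subgroup.mem_inf.1 hb).1]
    refine ⟨a * n0, N.mul_mem (Subgroup.mem_inf.1 ha).2 hn0, ?_⟩
    intro p hp
    rw [conj_mul_smul]
    have e : MulAut.conj n0 • K p = K' p := by rw [hK'def]
    rw [e]
    rcases Finset.mem_insert.1 hp with h | h
    · rw [h]; exact haK
    · rw [hK's p h]
      apply Subgroup.conj_smul_eq_self_of_mem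
      have h3 := (Subgroup.mem_inf.1 ha).1
      rw [Subgroup.mem_iInf] at h3
      have h4 := h3 p
      rw [Subgroup.mem_iInf] at h4
      exact h4 h

/-- the finite set of primes dividing the group order -/
noncomputable def primesOf (G : Type u) [Group G] : Finset Nat.Primes :=
  (Nat.card G).primeFactors.attach.image
    (fun x => (⟨x.1, Nat.prime_of_mem_primeFactors x.2⟩ : Nat.Primes))

theorem mem_primesOf (p : Nat.Primes) : p ∈ primesOf G ↔ (p : ℕ) ∣ Nat.card G := by
  unfold primesOf
  constructor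
  · intro h
    obtain ⟨x, _, rfl⟩ := Finset.mem_image.1 h
    exact Nat.dvd_of_mem_primeFactors x.2
  · intro h
    exact Finset.mem_image.2
      ⟨⟨p.1, Nat.mem_primeFactors.2 ⟨p.2, h, Nat.card_pos.ne'⟩⟩, Finset.mem_attach _ _, rfl⟩

/-- simultaneous conjugacy of complement systems by an element of a normal subgroup -/
theorem system_conj [Group.IsSolvable G] (N : Subgroup G) [N.Normal]
    (K L : Nat.Primes → Subgroup G) (hK : Cfsg.IsComplementSystem K)
    (hL : Cfsg.IsComplementSystem L) (hKL : ∀ p, K p ≤ L p ⊔ N) :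
    ∃ n ∈ N, ∀ p, MulAut.conj n • K p = L p := by
  obtain ⟨n, hn, h⟩ := system_conj_aux N L hL (primesOf G) K hK hKL
  refine ⟨n, hn, fun p => ?_⟩
  by_cases hp : p ∈ primesOf G
  · exact h p hp
  · rw [mem_primesOf] at hp
    rw [compl_eq_top hK p hp, compl_eq_top hL p hp]
    exact Subgroup.Normal.conj_smul_eq_self n ⊤

end system

end Cfsg.Agent.Lib.Helper1
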