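import Mathlib
import Cfsg.Prelude.Def_SolvableStructure
import Cfsg.Agent.Lib.Helper1.Basic
import Cfsg.Agent.Lib.Helper1.HallSys

set_option autoImplicit false

universe u

namespace Cfsg.Agent.Lib.Helper1

open Pointwise

variable {G : Type u} [Group G] [Finite G]

/-- the images of a complement system in a quotient form a complement system -/
theorem compl_map {K : Nat.Primes → Subgroup G} (hK : Cfsg.IsComplementSystem K)
    (N : Subgroup G) [N.Normal] :
    Cfsg.IsComplementSystem (fun p => (K p).map (QuotientGroup.mk' N)) := by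
  intro p
  show ((K p).map (QuotientGroup.mk' N)).index = (p : ℕ) ^ (Nat.card (G ⧸ N)).factorization p
  have h1 : ((K p).map (QuotientGroup.mk' N)).index ∣ (K p).index :=
    Subgroup.index_map_dvd (K p) (QuotientGroup.mk'_surjective N)
  rw [hK p] at h1
  obtain ⟨b, _, hb⟩ := (Nat.dvd_prime_pow p.2).1 h1
  have h2 : ¬ (p : ℕ) ∣ Nat.card ((K p).map (QuotientGroup.mk' N)) :=
    fun h => compl_not_dvd_card hK p (h.trans (Subgroup.card_map_dvd (K p) _))
  have h3 := Subgroup.card_mul_index ((K p).map (QuotientGroup.mk' N))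
  rw [hb] at h3 ⊢
  congr 1
  rw [← h3, Nat.factorization_mul Nat.card_pos.ne' (pow_pos p.2.pos b).ne', Finsupp.add_apply,
    Nat.factorization_eq_zero_of_not_dvd h2, Nat.Prime.factorization_pow p.2,
    Finsupp.single_eq_same, zero_add]

theorem mem_normalizer_of_conj_smul_eq {H : Subgroup G} {g : G}
    (h : MulAut.conj g • H = H) : g ∈ Subgroup.normalizer (H : Set G) := by
  apply mem_normalizer_of_finite
  intro x hx
  have := conj_mem_conj_smul g hx
  rw [h] at this
  exact this

/-- system normalizers map onto system normalizers of quotients -/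
theorem sysNorm_map [Group.IsSolvable G] {K : Nat.Primes → Subgroup G}
    (hK : Cfsg.IsComplementSystem K) (N : Subgroup G) [N.Normal] :
    Cfsg.systemNormalizer (fun p => (K p).map (QuotientGroup.mk' N)) =
      (Cfsg.systemNormalizer K).map (QuotientGroup.mk' N) := by
  apply le_antisymm
  · intro xb hxb
    obtain ⟨x, rfl⟩ := QuotientGroup.mk'_surjective N xb
    unfold Cfsg.systemNormalizer at hxb
    rw [Subgroup.mem_iInf] at hxb
    have hL : Cfsg.IsComplementSystem (fun p => MulAut.conj x • K p) := compl_conj hK x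
    have hLK : ∀ p, MulAut.conj x • K p ≤ K p ⊔ N := by
      intro p y hy
      rw [mem_conj_smul] at hy
      have h1 : QuotientGroup.mk' N (x⁻¹ * y * x) ∈ (K p).map (QuotientGroup.mk' N) :=
        Subgroup.mem_map_of_mem _ hy
      have h2 := (Subgroup.mem_normalizer_iff.1 (hxb p) _).1 h1
      have h3 : QuotientGroup.mk' N x * QuotientGroup.mk' N (x⁻¹ * y * x) *
          (QuotientGroup.mk' N x)⁻¹ = QuotientGroup.mk' N y := by
        rw [← map_inv, ← map_mul, ← map_mul]
        congr 1
        group
      rw [h3] at h2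
      obtain ⟨k, hk, hky⟩ := h2
      have h4 : k⁻¹ * y ∈ N := by
        rw [← QuotientGroup.eq_one_iff, ← QuotientGroup.mk'_apply, map_mul, map_inv, hky]
        exact inv_mul_cancel _
      have h5 : y = k * (k⁻¹ * y) := by group
      rw [h5]
      exact mul_mem (Subgroup.mem_sup_left hk) (Subgroup.mem_sup_right h4)
    obtain ⟨n, hn, hnK⟩ := system_conj N _ K hL hK hLK
    refine ⟨n * x, ?_, ?_⟩
    · unfold Cfsg.systemNormalizer
      rw [SetLike.mem_coe, Subgroup.mem_iInf]
      intro p
      apply mem_normalizer_of_conj_smul_eq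
      rw [conj_mul_smul]
      exact hnK p
    · rw [map_mul]
      have : QuotientGroup.mk' N n = 1 := (QuotientGroup.eq_one_iff n).2 hn
      rw [this, one_mul]
  · rintro _ ⟨d, hd, rfl⟩
    unfold Cfsg.systemNormalizer at hd ⊢
    rw [SetLike.mem_coe, Subgroup.mem_iInf] at hd
    rw [Subgroup.mem_iInf]
    intro p
    exact Subgroup.le_normalizer_map _ (Subgroup.mem_map_of_mem _ (hd p))

end Cfsg.Agent.Lib.Helper1
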