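import Mathlib
import Cfsg.Prelude.Def_Solvable
import Cfsg.Prelude.Def_CaseTheorems
import Cfsg.Agent.Lib.Helper1.Basic
import Cfsg.Agent.Lib.Helper1.CLT

set_option autoImplicit false

namespace Cfsg.Agent.Lib.Helper1

open scoped Pointwise

universe u

/-- every nontrivial normal subgroup of a finite group contains a minimal normal subgroup -/
theorem exists_minimal_normal_le {G : Type*} [Group G] [Finite G] (N : Subgroup G) (hN : N.Normal)
    (hne : N ≠ ⊥) : ∃ M : Subgroup G, M.Normal ∧ M ≤ N ∧ M ≠ ⊥ ∧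
      ∀ K : Subgroup G, K.Normal → K ≤ M → K = ⊥ ∨ K = M := by
  obtain ⟨M, ⟨hMn, hMle, hMne⟩, hmin⟩ := (wellFounded_lt (α := Subgroup G)).has_min
    {K : Subgroup G | K.Normal ∧ K ≤ N ∧ K ≠ ⊥} ⟨N, hN, le_rfl, hne⟩
  refine ⟨M, hMn, hMle, hMne, fun K hK hKM => ?_⟩
  by_cases hKb : K = ⊥
  · exact Or.inl hKb
  · right
    by_contra hne'
    exact hmin K ⟨hK, hKM.trans hMle, hKb⟩ (lt_of_le_of_ne hKM hne')

/-- a minimal normal subgroup of a solvable group is abelian -/
theorem minNormal_comm {G : Type*} [Group G] [Group.IsSolvable G] (M : Subgroup G) [M.Normal]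
    (hM : M ≠ ⊥) (hmin : ∀ K : Subgroup G, K.Normal → K ≤ M → K = ⊥ ∨ K = M) :
    ∀ x ∈ M, ∀ y ∈ M, x * y = y * x := by
  have h1 : ⁅M, M⁆ < M := IsSolvable.commutator_lt_of_ne_bot hM
  have h2 : ⁅M, M⁆ = ⊥ := by
    rcases hmin ⁅M, M⁆ inferInstance h1.le with h | h
    · exact h
    · exact absurd h h1.ne
  rw [Subgroup.commutator_eq_bot_iff_le_centralizer] at h2
  intro x hx y hy
  exact ((Subgroup.mem_centralizer_iff.1 (h2 hx)) y hy).symm

/-- a minimal normal subgroup of a finite solvable group is a `p`-group of exponent `p` -/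
theorem minNormal_isPGroup {G : Type*} [Group G] [Finite G] [Group.IsSolvable G] (M : Subgroup G)
    [M.Normal] (hM : M ≠ ⊥) (hmin : ∀ K : Subgroup G, K.Normal → K ≤ M → K = ⊥ ∨ K = M) :
    ∃ p : ℕ, p.Prime ∧ IsPGroup p M ∧ ∀ x ∈ M, x ^ p = 1 := by
  have hcomm := minNormal_comm M hM hmin
  haveI : Nontrivial M := (Subgroup.nontrivial_iff_ne_bot M).2 hM
  obtain ⟨p, hp, hpd⟩ := Nat.exists_prime_and_dvd (n := Nat.card M) Finite.one_lt_card.ne'
  haveI : Fact p.Prime := ⟨hp⟩
  -- the subgroup of elements of order dividing p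
  let E : Subgroup G :=
    { carrier := {x | x ∈ M ∧ x ^ p = 1}
      mul_mem' := by
        intro a b ha hb
        refine ⟨M.mul_mem ha.1 hb.1, ?_⟩
        have hc : Commute a b := hcomm a ha.1 b hb.1
        rw [hc.mul_pow, ha.2, hb.2, one_mul]
      one_mem' := ⟨M.one_mem, one_pow _⟩
      inv_mem' := by
        intro a ha
        exact ⟨M.inv_mem ha.1, by rw [inv_pow, ha.2, inv_one]⟩ }
  have hEn : E.Normal := by
    constructor
    intro x hx g
    refine ⟨Subgroup.Normal.conj_mem inferInstance x hx.1 g, ?_⟩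
    rw [conj_pow, hx.2]
    group
  have hEle : E ≤ M := fun x hx => hx.1
  have hEne : E ≠ ⊥ := by
    obtain ⟨z, hz⟩ := exists_prime_orderOf_dvd_card' p hpd
    intro h
    have hzE : (z : G) ∈ E := by
      refine ⟨z.2, ?_⟩
      have : z ^ p = 1 := by rw [← hz]; exact pow_orderOf_eq_one z
      have h2 := congrArg Subtype.val this
      simpa using h2
    rw [h, Subgroup.mem_bot] at hzE
    have : z = 1 := Subtype.ext hzE
    rw [this, orderOf_one] at hz
    exact hp.one_lt.ne hz
  have hEM : E = M := by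
    rcases hmin E hEn hEle with h | h
    · exact absurd h hEne
    · exact h
  have hexp : ∀ x ∈ M, x ^ p = 1 := by
    intro x hx
    rw [← hEM] at hx
    exact hx.2
  refine ⟨p, hp, ?_, hexp⟩
  intro x
  refine ⟨1, ?_⟩
  apply Subtype.ext
  have := hexp x x.2
  simpa using this

/-- a normal `p`-subgroup lies in every Sylow `p`-subgroup -/
theorem normal_pgroup_le_sylow {G : Type*} [Group G] [Finite G] {p : ℕ} [Fact p.Prime]
    (N : Subgroup G) [N.Normal] (hN : IsPGroup p N) (P : Sylow p G) : N ≤ P := by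
  obtain ⟨Q, hQ⟩ := hN.exists_le_sylow
  obtain ⟨g, hg⟩ := MulAction.exists_smul_eq G Q P
  intro x hx
  have h1 : g⁻¹ * x * g ∈ (Q : Subgroup G) := by
    apply hQ
    have := Subgroup.Normal.conj_mem (inferInstance : N.Normal) x hx g⁻¹
    simpa using this
  have h2 : x ∈ ((g • Q : Sylow p G) : Subgroup G) := by
    rw [Sylow.coe_subgroup_smul, mem_conj_smul]
    exact h1
  rw [hg] at h2
  exact h2

/-- if `H ⊔ P = ⊤` with `P` normal then `[P : H ⊓ P] = [G : H]` -/
theorem relIndex_of_sup_eq_top {G : Type*} [Group G] [Finite G] (H P : Subgroup G) [P.Normal]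
    (hsup : H ⊔ P = ⊤) : H.relIndex P = H.index := by
  rw [← Subgroup.inf_relIndex_right]
  have e1 : Nat.card (H ⊓ P : Subgroup G) * (H ⊓ P).relIndex P = Nat.card P := by
    rw [← Subgroup.relIndex_bot_left, ← Subgroup.relIndex_bot_left]
    exact Subgroup.relIndex_mul_relIndex _ _ _ bot_le inf_le_right
  have e2 : Nat.card (H ⊓ P : Subgroup G) * (H ⊓ P).relIndex H = Nat.card H := by
    rw [← Subgroup.relIndex_bot_left, ← Subgroup.relIndex_bot_left]
    exact Subgroup.relIndex_mul_relIndex _ _ _ bot_le inf_le_left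
  have e3 : (H ⊓ P).relIndex H = P.index := by
    rw [Subgroup.inf_relIndex_left, ← Subgroup.relIndex_sup_right, hsup,
      Subgroup.relIndex_top_right]
  have e4 := Subgroup.card_mul_index H
  have e5 := Subgroup.card_mul_index P
  rw [e3] at e2
  rw [← e2] at e4
  rw [← e1, ← e4] at e5
  have hpos1 : 0 < Nat.card (H ⊓ P : Subgroup G) := Nat.card_pos
  have hpos2 : 0 < P.index := Nat.pos_of_ne_zero Subgroup.index_ne_zero_of_finite
  have e6 : (Nat.card (H ⊓ P : Subgroup G) * P.index) * (H ⊓ P).relIndex P =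
      (Nat.card (H ⊓ P : Subgroup G) * P.index) * H.index := by
    rw [← e5]; ring
  exact Nat.eq_of_mul_eq_mul_left (Nat.mul_pos hpos1 hpos2) e6

/-- a normal `p`-subgroup of index prime to `p` is the unique Sylow `p`-subgroup -/
theorem sylow_normal_of_normal_pgroup {G : Type*} [Group G] [Finite G] {p : ℕ} [Fact p.Prime]
    (N : Subgroup G) [hN : N.Normal] (hNp : IsPGroup p N) (hnd : ¬ p ∣ N.index) (P : Sylow p G) :
    (P : Subgroup G).Normal := by
  have hu := Sylow.unique_of_normal (hNp.toSylow hnd) (by rw [IsPGroup.toSylow_coe]; exact hN)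
  have hPQ : P = hNp.toSylow hnd := Subsingleton.elim _ _
  rw [hPQ, IsPGroup.toSylow_coe]
  exact hN

/-- a commutative minimal normal subgroup whose order is divisible by `p` has exponent `p` -/
theorem minNormal_exponent {G : Type*} [Group G] [Finite G] (M : Subgroup G) [M.Normal]
    (hmin : ∀ K : Subgroup G, K.Normal → K ≤ M → K = ⊥ ∨ K = M)
    (hcomm : ∀ x ∈ M, ∀ y ∈ M, x * y = y * x) (p : ℕ) [Fact p.Prime] (hpd : p ∣ Nat.card M) :
    ∀ x ∈ M, x ^ p = 1 := by
  have hp := Fact.out (p := p.Prime)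
  let E : Subgroup G :=
    { carrier := {x | x ∈ M ∧ x ^ p = 1}
      mul_mem' := by
        intro a b ha hb
        refine ⟨M.mul_mem ha.1 hb.1, ?_⟩
        have hc : Commute a b := hcomm a ha.1 b hb.1
        rw [hc.mul_pow, ha.2, hb.2, one_mul]
      one_mem' := ⟨M.one_mem, one_pow _⟩
      inv_mem' := by
        intro a ha
        exact ⟨M.inv_mem ha.1, by rw [inv_pow, ha.2, inv_one]⟩ }
  have hEn : E.Normal := by
    constructor
    intro x hx g
    refine ⟨Subgroup.Normal.conj_mem inferInstance x hx.1 g, ?_⟩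
    rw [conj_pow, hx.2]
    group
  have hEle : E ≤ M := fun x hx => hx.1
  have hEne : E ≠ ⊥ := by
    obtain ⟨z, hz⟩ := exists_prime_orderOf_dvd_card' p hpd
    intro h
    have hzE : (z : G) ∈ E := by
      refine ⟨z.2, ?_⟩
      have : z ^ p = 1 := by rw [← hz]; exact pow_orderOf_eq_one z
      have h2 := congrArg Subtype.val this
      simpa using h2
    rw [h, Subgroup.mem_bot] at hzE
    have : z = 1 := Subtype.ext hzE
    rw [this, orderOf_one] at hz
    exact hp.one_lt.ne hz
  have hEM : E = M := by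
    rcases hmin E hEn hEle with h | h
    · exact absurd h hEne
    · exact h
  intro x hx
  rw [← hEM] at hx
  exact hx.2

/-- `O_p(G)` of a finite group is a `p`-group -/
theorem pCore_isPGroup (p : ℕ) [Fact p.Prime] (G : Type*) [Group G] [Finite G] :
    IsPGroup p (Cfsg.pCore p G) := by
  obtain P : Sylow p G := default
  have hle : Cfsg.pCore p G ≤ (P : Subgroup G) := by
    apply sSup_le
    intro N hN
    haveI := hN.1
    exact normal_pgroup_le_sylow N hN.2 P
  exact P.isPGroup'.to_le hle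

end Cfsg.Agent.Lib.Helper1
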