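import Mathlib
import Cfsg.Agent.Lib.Helper9.M24Stab
import Cfsg.Agent.Lib.Helper9.M24Dod
import Cfsg.Agent.S5618

/-!
Quartets of a dodecad: they form one orbit of size 220 of the dodecad stabiliser (helper1).
-/

set_option autoImplicit false

open scoped Pointwise

namespace Cfsg.Agent.Lib.Helper1

open Cfsg Cfsg.Agent.Lib.Helper9 Cfsg.Agent.S5618

def Q0l : List ℕ := [12296, 18560, 132352, 8388614]

def hexWit : List ℕ := [36294, 5279, 72588, 4726026, 2631052, 10558, 1060490, 307594, 1127686, 6305926, 277580, 15777, 280334, 2115979, 4213932, 545190, 1070536, 1103886, 351362, 2120980, 90318, 4220306, 1337732, 551943, 126216, 4223245, 2126890, 63108, 555160, 31554, 198058, 919694, 1182989, 2232654, 4593028, 1186194, 138790, 2268296, 140167, 4367374, 4336072, 208020, 2501890, 1192108, 668866, 145176, 210955, 702724, 180636, 3294342, 4409606, 150618, 675712, 4346506, 742412, 185603, 153797, 416040, 1728778, 418953, 157028, 2255372, 190626, 421910, 2322816, 5405696, 13631886, 10554382, 8654232, 8426796, 10491778, 8394986, 8657159, 9968772, 8660134, 8398155, 8431757, 8989058,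 12594948, 8925710, 8401364, 12661896, 11548936, 8436754, 8963210, 8471941, 8407702, 8931660, 9456930, 10768524, 8474906, 12604486, 12638592, 8412681, 10543366, 8414120, 9462812, 12871690, 10513600, 9465987, 9204992, 8484900, 8521420, 9045270, 8555274, 10619300, 12717187, 8622214, 9048457, 9835530, 12720156, 8592704, 10625178, 8855820, 9610624, 9578566, 9055272, 12726562, 10630149, 8796800, 8536111, 8798658, 14828808, 9652360, 8834052, 9589508, 8541360, 11163650, 13262980, 8611330, 8546577, 8581192]

def C0bits : List ℕ := [1, 2, 3, 14, 17, 23]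

def E0bits : List ℕ := [7, 8, 10, 11, 12, 13]

def cq_X : ℕ := 0x824000003008000c0400018282400000290000148000000e82400000240200110400088882400000208400180200050882200000500800080600058082200000490000140400008a82200000440200188000010c822000004084001102000c08821000006008000d0000008682100000480200240400018882100000448000210200080c82100000410400288000040a82080000610000100c00048282080000500200240800018482080000440400308000010a82080000408800200600150082040000600200190000008c82040000508000280800010682040000480400218000100a82040000410800300400088282010000680000108800040682010000500400248000080a82010000440800300200088482010000408200200c001c00820080006004001108000c0282008000540000200a00090482008000480800250000100682008000410200380000040c820008007000000902000484820008004880002104001402820008004500002082001804820008004006002c00001180820004006080001808000502820004005100002802000488820004004c0000210800108282000400400a00340000098082000200640000108400090882000200580000208800050482000200418000280400140882000200400c003100000c80806000021008000c8000010680600002090000108200040c80600002040200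180400018880600002008400150000080a80500002200800098000040680500002080200250000008c80500002048000280400010a805000020104002082000c0880480002210000140800008680480002100200248000010c80480002040400200a00118080480002008800300400050280440002200200180800018480440002108000200c00090280440002080400310000008a80440002010800288000100680410002280000100a000484804100021004002088000c0280410002040800200600188080410002008200340000080c80408002200400190000040a804080021400002108000806804080020808003002000504804080020102002c0000100c804008023000000904000482804008020880002404001102804008020500002802001084804008020006002180001c00804004022080001402000908804004021100002408000882804004020c0000210200108880400402000a00380000058080400202240000110800088480400202180000210400048880400202018000280800140480400202000c003080000d00803000024008000c0200018480300002088000450000000e80300002040400408200090880300002010200480400048880280002410000140200008c80280002108000400a00050480280002040800500400018280280002000600448000110880240002400200108800090480240002100400488000010a80240002080800510000008680240002018000400c00180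280210002480000108400040a802100021002004088000c0480210002048000400600180880210002000c00540000088280208002400400140800090280208002180000410800040680208002050000500200080c80208002000a004c00001104802008025000000884000502802008020c0000418000100680200802010400480200148080200802008200440400190080200402408000100a000d0080200402140000410200088880200402080200440800118080200402010800580000048280200202440000100c000980802002021100004808000484802002020804005080000508802002020088004104001c0080180002400200210800048480180002208000440800010680180002050000600400008a80180002000c00418000240280140002408000280200010c80140002200400480800018280140002090000400600208880140002000a00610000088480110002400400280800048280110002200200488000040c801100020c0000400a00208480110002008800640000080680108002440000210400080a80108002280000400c000502801080020108006002000c04801080020006004900002408801008026000000882000504801008020804004102002480801008020402004084002900801008020180004c0000200680100402410000200a000c8080100402240000408800090280100402080800440200218080100402008200680000050880100202480000200c00058080100202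2100004404000888801002020408006080000904801002020084004108002c00800c00024004003002000188800c00022008004102001084800c0002110000608000000e800c0002008200500800210480090002600000100600048880090002140000400c00208280090002008400440200300880090002000a00508000240480088002400800210200140480088002300000400600050880088002040200510000200c80088002010400640000100a80080802408000310000040680080802240000410400108280080802100400600200058080080802010200540000208480080402440000208800110280080402200200410800148080080402100800408200250080080402018000700000040a80080202500000218000040c80080202200400450000108880080202048000600800110480080202010800408400340080050002400800280400108280050002208000480200100c80050002180000408400200a80050002000600700000088880048002500000200600090880048002210000400a00180480048002080200410400300880048002000c00680000110280040802410000308000080680040802280000408200110480040802100200600400098080040802008400580000210280040402480000208200110880040402300000418000080a80040402010200600800188080040402008800500200290080040202600000118000080c80040202100800490000208480040202088000500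4002108800402020104004088003800800180024002003004000c0880018002240000580000000e800180021008004404002802800180020804006008001402800108024400003800000086800108022004005002000c80800108021080004804002402800108020802006080001404800104025000002c0000008a800104022008004480001802800104020880006002001408800104020402004808003080800102024080002408001804800102023000004c0000008c800102020808006004001480800102020404005008002880800088024800003400000106800088022002005004000d00800088021100004402002804800088020404006100001802800084026000001c0000010a800084021002004500002808800084020900005008002402800084020408004802003100800082024100002404001808800082022008004804001500800082021004004408002900800082020c0000700000010c80000c02400200288000150080000c022100005080000c0280000c02180000640000018280000c02048000490000300280000a02400400250000188080000a022080005100000c0480000a02140000680000018480000a020900004480003004800006024008002480001900800006022800005400000188800006021080006100000c08800006020500004880003008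

def cq_P : ℕ := 0x200d20100ad0100150100b50200b602005f02009d0000820100190200bf01006d0200a30100630100be0100500100920200470100740200c70200af02001400003600008a02008d01002702002f02002d02002e02003f0000d301003e0200c002008200008401004c00006200004b0000030200d60100650000380000760100120200500100340200440100580100c702006d0200190200c30000b700004700004400004601008800002e0000c60000b002006a0100c00100940000010200760100620000120100020100a301009c00007d01001f00002b00009d0000850000590000190000c70200a70000950100d30200460000020100b901006f01007b0100780000140000150000d600001f0000a500006d02001f02001e01000001004d0200aa0000a200006900004300001a01009600008b0000cb0100430100690100b60100a20100680000880100010100140200850200d300005e00005f0000c90100cb02004d0200300000ab0000b501003800007f00000001005f02008b0200cb01006400009c01004802006801005501005102008301002001008202004a0000220200690100d10000ad01004b0100300200960200940000d801004701003601000a00002900006f0000aa02000e02008c0000d50200c601003f01005901009801007102003802008801007202000302000002000202000100007900007a00007b0100d600000800000a01008500000901007d01007f0200a402007a00008301000801005301009d02006c0200900200340100a702005e01006c0200a502002400007c00004c00006800009402000901001a02000800009600006600003f0000c00000b20100330200580100cd02005901009302007d01004602002b00000e00001e0000af01006e01005e0100aa020036000000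

def cq_D : ℕ := 0x6050504050204050405040506060506030505050402070605050604040505050506050504040306060405050405040504040605030504050403060605040304050506050502040304050504050405050406060406070405030405040406010505040406060305040604050403050304050503020604050405040605010205040505040305070405050506040505040403040503020307040505060503040506060605050401060305050603040305050205060504040604050504040305050506050304050604030504050506040605050204030506050603050200

def cq_levels : List (ℕ × List (List ℕ)) :=
  [(1, [[16, 1, 23, 3, 4, 21, 6, 8, 7, 19, 14, 17, 12, 13, 10, 18, 0, 11, 15, 9, 20, 5, 22, 2],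
      [0, 2, 1, 14, 19, 5, 16, 13, 8, 9, 10, 12, 11, 7, 3, 20, 6, 17, 18, 4, 15, 22, 21, 23],
      [0, 3, 12, 11, 9, 16, 15, 10, 2, 4, 23, 8, 14, 7, 17, 5, 21, 1, 22, 19, 18, 20, 6, 13],
      [5, 7, 14, 17, 4, 15, 21, 12, 2, 19, 23, 3, 10, 8, 13, 18, 16, 1, 22, 9, 0, 20, 6, 11],
      [21, 8, 10, 13, 19, 18, 16, 2, 14, 4, 7, 23, 3, 12, 1, 0, 20, 11, 22, 9, 6, 15, 5, 17],
      [18, 10, 8, 12, 19, 22, 20, 14, 1, 9, 23, 11, 13, 3, 7, 5, 6, 2, 21, 4, 0, 16, 15, 17],
      [21, 11, 14, 1, 19, 0, 22, 17, 13, 9, 12, 10, 23, 2, 8, 20, 16, 3, 6, 4, 5, 18, 15, 7],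
      [18, 12, 13, 7, 9, 15, 21, 17, 2, 4, 23, 10, 11, 14, 8, 0, 16, 1, 6, 19, 5, 22, 20, 3],
      [21, 13, 3, 11, 9, 20, 22, 17, 1, 4, 2, 10, 14, 7, 8, 15, 6, 23, 5, 19, 16, 18, 0, 12],
      [5, 14, 7, 13, 9, 15, 16, 8, 2, 19, 23, 10, 3, 12, 17, 0, 21, 1, 22, 4, 18, 6, 20, 11],
      [6, 17, 10, 11, 4, 16, 22, 1, 13, 19, 3, 2, 14, 7, 23, 15, 0, 12, 5, 9, 18, 20, 21, 8],
      [21, 23, 1, 8, 9, 15, 5, 12, 11, 19, 7, 3, 10, 17, 13, 6, 22, 14, 16, 4, 0, 20, 18, 2]]),
   (3, [[16, 1, 23, 3, 4, 21, 6, 8, 7, 19, 14, 17, 12, 13, 10, 18, 0, 11, 15, 9, 20, 5, 22, 2],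
      [15, 1, 23, 7, 19, 16, 6, 3, 8, 9, 10, 13, 14, 11, 12, 0, 5, 17, 21, 4, 20, 18, 22, 2],
      [15, 1, 23, 8, 9, 21, 6, 3, 7, 19, 11, 12, 17, 10, 13, 5, 0, 14, 16, 4, 22, 18, 20, 2],
      [18, 1, 2, 10, 9, 5, 20, 14, 12, 4, 3, 11, 8, 17, 7, 15, 21, 13, 0, 19, 6, 16, 22, 23],
      [18, 1, 2, 11, 19, 0, 22, 17, 13, 4, 3, 10, 7, 14, 8, 15, 16, 12, 5, 9, 6, 21, 20, 23],
      [18, 1, 2, 12, 4, 0, 20, 14, 10, 9, 17, 7, 13, 3, 11, 21, 15, 8, 5, 19, 22, 16, 6, 23],
      [21, 1, 23, 13, 4, 15, 22, 17, 11, 19, 7, 10, 3, 12, 8, 0, 5, 14, 16, 9, 6, 18, 20, 2],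
      [15, 1, 23, 14, 19, 21, 20, 10, 12, 4, 3, 17, 7, 11, 8, 18, 5, 13, 16, 9, 6, 0, 22, 2],
      [15, 1, 23, 17, 9, 16, 22, 11, 13, 4, 3, 14, 8, 10, 7, 18, 0, 12, 21, 19, 6, 5, 20, 2]]),
   (0, [[0, 1, 2, 3, 4, 5, 6, 7, 8, 9, 10, 11, 12, 13, 14, 15, 16, 17, 18, 19, 20, 21, 22, 23],
      [5, 1, 2, 3, 4, 0, 6, 8, 7, 19, 11, 10, 13, 12, 17, 15, 21, 14, 18, 9, 22, 16, 20, 23],
      [16, 1, 23, 3, 4, 21, 6, 8, 7, 19, 14, 17, 12, 13, 10, 18, 0, 11, 15, 9, 20, 5, 22, 2],
      [21, 1, 23, 3, 4, 16, 6, 7, 8, 9, 17, 14, 13, 12, 11, 18, 5, 10, 15, 19, 22, 0, 20, 2]])]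


/-- The hexads on the base dodecad, as masks. -/
def hexList : List ℕ := hexWit.map (fun o => o &&& 8551822)

set_option maxHeartbeats 4000000 in
theorem cq_schr : allBelow (schrK 4 gensKdod cq_X cq_P cq_D 220 0) 220 = true := by
  decide +kernel

set_option maxHeartbeats 4000000 in
theorem cq : (orbS Kdod (obj Q0l)).ncard = 220 ∧
    Nat.card ↥(Kdod ⊓ MulAction.stabilizer (Equiv.Perm GolayPt) (obj Q0l)) = 432 := by
  have h := orbK_exact Kdod 95040 card_Kdod (fun l => actM l 0 8551822 == 8551822) memKdod
    gensKdod gensKdod_ok 4 cq_X cq_P cq_D 220 0 Q0l (by decide +kernel)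
    cq_schr (by decide +kernel) cq_levels (by decide +kernel) (by decide +kernel)
  have e : chainProd cq_levels = 432 := by decide +kernel
  rw [e] at h
  exact h

theorem cq_mem : ∀ i < 220, obj (decK 4 cq_X i) ∈ orbS Kdod (obj Q0l) := by
  have h := orbK_mem Kdod 4 gensKdod
    (gens_ok_of_all (memK := fun l => actM l 0 8551822 == 8551822) memKdod gensKdod_ok)
    cq_X cq_P cq_D 220 0 cq_schr
  have e : decK 4 cq_X 0 = Q0l := by decide +kernel
  rw [e] at h
  exact h

/-- Submasks generated by a list of bit positions. -/
def subs : List ℕ → List ℕ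
  | [] => [0]
  | p :: ps => subs ps ++ (subs ps).map (fun m => 2 ^ p ||| m)

/-- The mask with the listed bits. -/
def orL : List ℕ → ℕ
  | [] => 0
  | p :: ps => 2 ^ p ||| orL ps

theorem and_two_pow_cases (m p : ℕ) : m &&& 2 ^ p = 0 ∨ m &&& 2 ^ p = 2 ^ p := by
  by_cases h : m.testBit p = true
  · right
    apply Nat.eq_of_testBit_eq
    intro i
    rw [Nat.testBit_and, Nat.testBit_two_pow]
    by_cases hi : p = i
    · subst hi; simp [h]
    · simp [hi]
  · left
    apply Nat.eq_of_testBit_eq
    intro i
    rw [Nat.testBit_and, Nat.testBit_two_pow, Nat.zero_testBit]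
    by_cases hi : p = i
    · subst hi
      simp only [Bool.not_eq_true] at h
      simp [h]
    · simp [hi]

theorem mem_subs (ps : List ℕ) (m : ℕ) (h : m &&& orL ps = m) : m ∈ subs ps := by
  induction ps generalizing m with
  | nil =>
    simp only [orL, Nat.and_zero] at h
    rw [← h]
    simp [subs]
  | cons p ps ih =>
    have h1 : (m &&& orL ps) &&& orL ps = m &&& orL ps := by
      rw [Nat.and_assoc, Nat.and_self]
    have h2 := ih (m &&& orL ps) h1
    have h3 : m &&& (2 ^ p ||| orL ps) = m := h
    rw [Nat.and_or_distrib_left] at h3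
    rw [subs, List.mem_append, List.mem_map]
    rcases and_two_pow_cases m p with h4 | h4
    · left
      rw [h4, Nat.zero_or] at h3
      rw [← h3]
      exact h2
    · right
      rw [h4] at h3
      exact ⟨m &&& orL ps, h2, h3⟩

theorem mask_of_subset {t : Finset GolayPt} {C : ℕ} (ht : t ⊆ mset C) :
    maskOf t &&& C = maskOf t := by
  apply mset_injOn (lt_of_le_of_lt Nat.and_le_left (maskOf_lt t)) (maskOf_lt t)
  rw [mset_and, mset_maskOf]
  exact Finset.inter_eq_left.2 ht

theorem sdiff_mset {C m : ℕ} (h : mset m ⊆ mset C) : mset C \ mset m = mset (C ^^^ m) := by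
  rw [mset_xor, symmDiff_of_ge h]

theorem obj4 (a b c d : ℕ) : obj [a, b, c, d] = {mset a, mset b, mset c, mset d} := by
  unfold obj
  ext s
  simp

set_option maxHeartbeats 4000000 in
theorem hexWit_ok : hexWit.all (fun o => isOct o && pc 24 (o &&& 8551822) == 6) = true := by
  decide +kernel

theorem hex_of_mem {m : ℕ} (h : m ∈ hexList) : mset m ∈ hexadsOn (mset 8551822) := by
  unfold hexList at h
  obtain ⟨o, ho, rfl⟩ := List.mem_map.1 h
  have h1 := hexWit_ok
  rw [List.all_eq_true] at h1
  have h2 := h1 o ho
  rw [Bool.and_eq_true, beq_iff_eq] at h2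
  exact ⟨by rw [card_mset]; exact h2.2, mset o, mset_mem_octads h2.1, (mset_and _ _).symm⟩

set_option maxHeartbeats 4000000 in
theorem hex_table : allBelow (fun n => !hexP n || hexList.contains (cw n &&& 8551822)) 4096
    = true := by decide +kernel

theorem mem_of_hex {m : ℕ} (hm : m < 2 ^ 24) (h : mset m ∈ hexadsOn (mset 8551822)) :
    hexList.contains m = true := by
  obtain ⟨n, hn, hmn⟩ := hexads_subset h
  simp only [Finset.coe_filter, Finset.mem_range, Set.mem_setOf_eq] at hn
  have h1 := allBelow_spec _ _ hex_table n hn.1
  simp only [hn.2, Bool.not_true, Bool.false_or] at h1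
  have h2 : cw n &&& 8551822 = m := by
    apply mset_injOn (lt_of_le_of_lt Nat.and_le_right (by norm_num)) hm
    exact hmn
  rw [h2] at h1
  exact h1

set_option maxHeartbeats 4000000 in
theorem Q0_ok : (Q0l.length == 4 && pwLt Q0l &&
    Q0l.all (fun a => decide (a < 2 ^ 24) && pc 24 a == 3 && a &&& 8551822 == a) &&
    Q0l.all (fun a => Q0l.all (fun b => a == b || hexList.contains (a ||| b)))) = true := by
  decide +kernel

theorem Q0_mem : obj Q0l ∈ quartets (mset 8551822) := by
  have h := Q0_ok
  simp only [Bool.and_eq_true, beq_iff_eq, List.all_eq_true, decide_eq_true_eq,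
    Bool.or_eq_true, List.contains_iff_mem] at h
  obtain ⟨⟨⟨h4, hpw⟩, htri⟩, hhex⟩ := h
  refine ⟨by rw [card_obj hpw (fun a ha => (htri a ha).1.1), h4], ?_, ?_⟩
  · intro s hs
    obtain ⟨a, ha, rfl⟩ := mem_obj.mp hs
    refine ⟨by rw [card_mset]; exact (htri a ha).1.2, ?_⟩
    rw [← Finset.inter_eq_left, ← mset_and, (htri a ha).2]
  · intro s hs s' hs' hne
    obtain ⟨a, ha, rfl⟩ := mem_obj.mp hs
    obtain ⟨b, hb, rfl⟩ := mem_obj.mp hs'
    rcases hhex a ha b hb with h1 | h1
    · exact absurd (by rw [h1]) hne
    · rw [← mset_or]
      exact hex_of_mem h1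

theorem smul_quartets {g : Equiv.Perm GolayPt} (hg : g ∈ M24) {d : Finset GolayPt}
    {Q : Finset (Finset GolayPt)} (hQ : Q ∈ quartets d) : g • Q ∈ quartets (g • d) := by
  obtain ⟨h4, htri, hhex⟩ := hQ
  refine ⟨by rw [Finset.card_smul_finset]; exact h4, ?_, ?_⟩
  · intro x hx
    obtain ⟨t, ht, rfl⟩ := Finset.mem_smul_finset.mp hx
    exact ⟨by rw [Finset.card_smul_finset]; exact (htri t ht).1,
      Finset.smul_finset_subset_smul_finset (htri t ht).2⟩
  · intro x hx y hy hne
    obtain ⟨t, ht, rfl⟩ := Finset.mem_smul_finset.mp hx
    obtain ⟨u, hu, rfl⟩ := Finset.mem_smul_finset.mp hy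
    rw [← Finset.smul_finset_union]
    exact smul_mem_hexadsOn hg (hhex t ht u hu (fun h => hne (by rw [h])))

set_option maxHeartbeats 4000000 in
theorem qcheck : (subs C0bits).all (fun tm => (subs E0bits).all (fun vm =>
    !(pc 24 tm == 3 && pc 24 vm == 3 && hexList.contains (tm ||| vm) &&
      hexList.contains (tm ||| (15744 ^^^ vm)) && hexList.contains ((8536078 ^^^ tm) ||| vm) &&
      hexList.contains ((8536078 ^^^ tm) ||| (15744 ^^^ vm))) ||
    (List.range 220).any (fun i =>
      sameSet [tm, 8536078 ^^^ tm, vm, 15744 ^^^ vm] (decK 4 cq_X i)))) = true := by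
  decide +kernel

theorem quartet_core (t v : Finset GolayPt) (ht : t ⊆ mset 8536078) (hv : v ⊆ mset 15744)
    (ht3 : t.card = 3) (hv3 : v.card = 3)
    (h1 : t ∪ v ∈ hexadsOn (mset 8551822))
    (h2 : t ∪ (mset 15744 \ v) ∈ hexadsOn (mset 8551822))
    (h3 : (mset 8536078 \ t) ∪ v ∈ hexadsOn (mset 8551822))
    (h4 : (mset 8536078 \ t) ∪ (mset 15744 \ v) ∈ hexadsOn (mset 8551822)) :
    ({t, mset 8536078 \ t, v, mset 15744 \ v} : Finset (Finset GolayPt))
      ∈ orbS Kdod (obj Q0l) := by
  obtain ⟨tm, htm⟩ : ∃ tm, tm = maskOf t := ⟨_, rfl⟩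
  obtain ⟨vm, hvm⟩ : ∃ vm, vm = maskOf v := ⟨_, rfl⟩
  have et : t = mset tm := by rw [htm, mset_maskOf]
  have ev : v = mset vm := by rw [hvm, mset_maskOf]
  have htlt : tm < 2 ^ 24 := by rw [htm]; exact maskOf_lt t
  have hvlt : vm < 2 ^ 24 := by rw [hvm]; exact maskOf_lt v
  have htC : tm &&& 8536078 = tm := by rw [htm]; exact mask_of_subset ht
  have hvE : vm &&& 15744 = vm := by rw [hvm]; exact mask_of_subset hv
  have eC : orL C0bits = 8536078 := by decide
  have eE : orL E0bits = 15744 := by decide
  have htm_mem : tm ∈ subs C0bits := mem_subs C0bits tm (by rw [eC]; exact htC)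
  have hvm_mem : vm ∈ subs E0bits := mem_subs E0bits vm (by rw [eE]; exact hvE)
  subst et
  subst ev
  rw [card_mset] at ht3 hv3
  rw [sdiff_mset ht] at h3 h4 ⊢
  rw [sdiff_mset hv] at h2 h4 ⊢
  rw [← mset_or] at h1 h2 h3 h4
  have hC' : (8536078 ^^^ tm) < 2 ^ 24 := Nat.xor_lt_two_pow (by norm_num) htlt
  have hE' : (15744 ^^^ vm) < 2 ^ 24 := Nat.xor_lt_two_pow (by norm_num) hvlt
  have k1 := mem_of_hex (Nat.or_lt_two_pow htlt hvlt) h1
  have k2 := mem_of_hex (Nat.or_lt_two_pow htlt hE') h2
  have k3 := mem_of_hex (Nat.or_lt_two_pow hC' hvlt) h3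
  have k4 := mem_of_hex (Nat.or_lt_two_pow hC' hE') h4
  have hq := qcheck
  rw [List.all_eq_true] at hq
  have hq1 := hq tm htm_mem
  rw [List.all_eq_true] at hq1
  have hq2 := hq1 vm hvm_mem
  simp only [ht3, hv3, k1, k2, k3, k4, beq_self_eq_true, Bool.and_self, Bool.not_true,
    Bool.false_or, List.any_eq_true, List.mem_range] at hq2
  obtain ⟨i, hi, hs⟩ := hq2
  rw [← obj4, obj_eq_of_sameSet hs]
  exact cq_mem i hi

theorem card3_disjoint {d a b : Finset GolayPt} (ha : a.card = 3) (hb : b.card = 3)
    (h : a ∪ b ∈ hexadsOn d) : Disjoint a b := by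
  rw [← Finset.card_union_eq_card_add_card, h.1, ha, hb]

theorem quartets_norm {Q : Finset (Finset GolayPt)} (hQ : Q ∈ quartets (mset 8551822))
    {t u : Finset GolayPt} (ht : t ∈ Q) (hu : u ∈ Q) (htu : t ≠ u)
    (hun : t ∪ u = mset 8536078) : Q ∈ orbS Kdod (obj Q0l) := by
  classical
  obtain ⟨h4, htri, hhex⟩ := hQ
  have hc2 : ((Q.erase t).erase u).card = 2 := by
    rw [Finset.card_erase_of_mem (Finset.mem_erase.2 ⟨htu.symm, hu⟩),
      Finset.card_erase_of_mem ht, h4]
  obtain ⟨v, w, hvw, hvwe⟩ := Finset.card_eq_two.1 hc2
  have hvm : v ∈ (Q.erase t).erase u := by rw [hvwe]; simp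
  have hwm : w ∈ (Q.erase t).erase u := by rw [hvwe]; simp
  have hvu : v ≠ u := (Finset.mem_erase.1 hvm).1
  have hvt : v ≠ t := (Finset.mem_erase.1 (Finset.mem_erase.1 hvm).2).1
  have hvQ : v ∈ Q := (Finset.mem_erase.1 (Finset.mem_erase.1 hvm).2).2
  have hwu : w ≠ u := (Finset.mem_erase.1 hwm).1
  have hwt : w ≠ t := (Finset.mem_erase.1 (Finset.mem_erase.1 hwm).2).1
  have hwQ : w ∈ Q := (Finset.mem_erase.1 (Finset.mem_erase.1 hwm).2).2
  have hQe : Q = {t, u, v, w} := by
    rw [← Finset.insert_erase ht, ← Finset.insert_erase (Finset.mem_erase.2 ⟨htu.symm, hu⟩),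
      hvwe]
  have c3 := fun x hx => (htri x hx).1
  have dtu := card3_disjoint (c3 t ht) (c3 u hu) (hhex t ht u hu htu)
  have dtv := card3_disjoint (c3 t ht) (c3 v hvQ) (hhex t ht v hvQ hvt.symm)
  have dtw := card3_disjoint (c3 t ht) (c3 w hwQ) (hhex t ht w hwQ hwt.symm)
  have duv := card3_disjoint (c3 u hu) (c3 v hvQ) (hhex u hu v hvQ hvu.symm)
  have duw := card3_disjoint (c3 u hu) (c3 w hwQ) (hhex u hu w hwQ hwu.symm)
  have dvw := card3_disjoint (c3 v hvQ) (c3 w hwQ) (hhex v hvQ w hwQ hvw)
  have htC : t ⊆ mset 8536078 := by rw [← hun]; exact Finset.subset_union_left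
  have huC : u = mset 8536078 \ t := by
    rw [← hun, Finset.union_sdiff_cancel_left dtu]
  have hsubE : ∀ x, x ⊆ mset 8551822 → Disjoint t x → Disjoint u x → x ⊆ mset 15744 := by
    intro x hx h1 h2
    rw [← sdiff_eq, ← hun]
    intro p hp
    rw [Finset.mem_sdiff, Finset.mem_union]
    refine ⟨hx hp, ?_⟩
    rintro (h | h)
    · exact (Finset.disjoint_left.1 h1 h) hp
    · exact (Finset.disjoint_left.1 h2 h) hp
  have hvE : v ⊆ mset 15744 := hsubE v (htri v hvQ).2 dtv duv
  have hwE : w ⊆ mset 15744 := hsubE w (htri w hwQ).2 dtw duw
  have hvwE : v ∪ w = mset 15744 := by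
    apply Finset.eq_of_subset_of_card_le (Finset.union_subset hvE hwE)
    rw [(hhex v hvQ w hwQ hvw).1, card_mset]
    decide
  have hwE' : w = mset 15744 \ v := by
    rw [← hvwE, Finset.union_sdiff_cancel_left dvw]
  have key := quartet_core t v htC hvE (c3 t ht) (c3 v hvQ)
    (hhex t ht v hvQ hvt.symm)
    (by rw [← hwE']; exact hhex t ht w hwQ hwt.symm)
    (by rw [← huC]; exact hhex u hu v hvQ hvu.symm)
    (by rw [← huC, ← hwE']; exact hhex u hu w hwQ hwu.symm)
  rw [← huC, ← hwE'] at key
  rw [hQe]
  exact key

theorem smul_d0 {k : Equiv.Perm GolayPt} (hk : k ∈ Kdod) :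
    k • mset 8551822 = mset 8551822 := hk.2

/-- The quartets of the base dodecad form one orbit of its stabiliser. -/
theorem quartets_eq : quartets (mset 8551822) = orbS Kdod (obj Q0l) := by
  ext Q
  constructor
  · intro hQ
    have h4 := hQ.1
    obtain ⟨t, Q1, htQ1, hQ1e, hQ1c⟩ := Finset.card_eq_succ.1 h4
    obtain ⟨u, hu⟩ : ∃ u, u ∈ Q1 := by
      apply Finset.card_pos.1
      rw [hQ1c]; norm_num
    have htQ : t ∈ Q := by rw [← hQ1e]; exact Finset.mem_insert_self t Q1
    have huQ : u ∈ Q := by rw [← hQ1e]; exact Finset.mem_insert_of_mem hu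
    have htu : t ≠ u := fun h => htQ1 (h ▸ hu)
    have hh := hQ.2.2 t htQ u huQ htu
    rw [← hexads_eq_orbit] at hh
    obtain ⟨k, hk, hkC⟩ := hh
    have hki := Kdod.inv_mem hk
    have hQ' : k⁻¹ • Q ∈ quartets (mset 8551822) := by
      have := smul_quartets hki.1 hQ
      rw [smul_d0 hki] at this
      exact this
    have hn := quartets_norm hQ' (Finset.smul_mem_smul_finset htQ)
      (Finset.smul_mem_smul_finset huQ) (fun h => htu (MulAction.injective k⁻¹ h))
      (by rw [← Finset.smul_finset_union, ← hkC, inv_smul_smul])
    have := smul_mem_orbS hk hn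
    rwa [smul_inv_smul] at this
  · rintro ⟨k, hk, rfl⟩
    have := smul_quartets hk.1 Q0_mem
    rw [smul_d0 hk] at this
    exact this

theorem quartets_smul {g : Equiv.Perm GolayPt} (hg : g ∈ M24) :
    quartets (g • mset 8551822) = (fun Q => g • Q) '' quartets (mset 8551822) := by
  ext Q
  constructor
  · intro hQ
    have := smul_quartets (M24.inv_mem hg) hQ
    rw [inv_smul_smul] at this
    exact ⟨g⁻¹ • Q, this, smul_inv_smul g Q⟩
  · rintro ⟨Q', hQ', rfl⟩
    exact smul_quartets hg hQ'

end Cfsg.Agent.Lib.Helper1
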