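import Mathlib
import Cfsg.Agent.Lib.Helper1.Basic
import Cfsg.Agent.Lib.Helper1.MinNormal
import Cfsg.Agent.Lib.Helper1.HallSys
import Cfsg.Agent.Lib.Helper1.HallSys2

set_option autoImplicit false

universe u

namespace Cfsg.Agent.Lib.Helper1

open Pointwise

theorem card_lt_of_lt_top {G : Type*} [Group G] [Finite G] {N : Subgroup G} (h : N < ⊤) :
    Nat.card N < Nat.card G := by
  rcases lt_or_eq_of_le (Subgroup.card_le_card_group N) with h1 | h1
  · exact h1
  · exfalso
    apply h.ne
    apply Subgroup.eq_top_of_card_eq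
    exact h1

theorem card_quotient_lt_of_ne_bot {G : Type*} [Group G] [Finite G] (N : Subgroup G) [N.Normal]
    (h : N ≠ ⊥) : Nat.card (G ⧸ N) < Nat.card G := by
  have h1 := (Subgroup.card_eq_card_quotient_mul_card_subgroup N).symm
  have h2 : 1 < Nat.card N := by
    have hpos : 0 < Nat.card N := Nat.card_pos
    have hne : Nat.card N ≠ 1 := fun h1 => h (Subgroup.card_eq_one.1 h1)
    omega
  have h3 : 0 < Nat.card (G ⧸ N) := Nat.card_pos
  nlinarith

/-- a minimal normal subgroup normalizes every subnormal subgroup -/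
theorem minNormal_le_normalizer_subnormal : ∀ n : ℕ, ∀ (G : Type u) [Group G] [Finite G],
    Nat.card G = n → ∀ H : Subgroup G, H.IsSubnormal → ∀ M : Subgroup G, M.Normal → M ≠ ⊥ →
    (∀ K : Subgroup G, K.Normal → K ≤ M → K = ⊥ ∨ K = M) →
    M ≤ Subgroup.normalizer (H : Set G) := by
  intro n
  induction n using Nat.strong_induction_on with
  | _ n ih =>
  intro G _ _ hn H hH M hMn hMne hMmin
  by_cases hHtop : H = ⊤
  · rw [hHtop]
    intro x _
    have : Subgroup.normalizer (((⊤ : Subgroup G) : Subgroup G) : Set G) = ⊤ :=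
      Subgroup.normalizer_eq_top_iff.2 inferInstance
    rw [this]; trivial
  obtain ⟨N, hNn, hHN, hNlt⟩ := hH.exists_normal_and_le_and_lt_top_of_ne hHtop
  haveI := hNn
  haveI := hMn
  by_cases hMN : M ⊓ N = ⊥
  · intro m hm
    apply mem_normalizer_of_finite
    intro h hh
    have hc := Subgroup.commute_of_normal_of_disjoint M N hMn hNn (disjoint_iff.2 hMN) m h hm
      (hHN hh)
    rw [hc.eq, mul_inv_cancel_right]; exact hh
  · have hMleN : M ≤ N := by
      rcases hMmin (M ⊓ N) inferInstance inf_le_left with h | h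
      · exact absurd h hMN
      · rw [← h]; exact inf_le_right
    have hM'ne : M.subgroupOf N ≠ ⊥ := by
      intro h
      apply hMne
      rw [eq_bot_iff]
      intro x hx
      have : (⟨x, hMleN hx⟩ : N) ∈ M.subgroupOf N := hx
      rw [h, Subgroup.mem_bot] at this
      rw [Subgroup.mem_bot]
      exact congrArg Subtype.val this
    obtain ⟨M1, hM1n, hM1le, hM1ne, hM1min⟩ :=
      exists_minimal_normal_le (M.subgroupOf N) inferInstance hM'ne
    have hcardN : Nat.card N < n := by rw [← hn]; exact card_lt_of_lt_top hNlt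
    have key : ∀ g : G, M1 ≤
        Subgroup.normalizer (((MulAut.conj g • H).subgroupOf N : Subgroup N) : Set N) := by
      intro g
      exact ih (Nat.card N) hcardN N rfl _ (hH.smul (MulAut.conj g)).subgroupOf M1 hM1n hM1ne
        hM1min
    obtain ⟨J, hJ⟩ : ∃ J, J = Subgroup.normalClosure ((M1.map N.subtype : Subgroup G) : Set G) :=
      ⟨_, rfl⟩
    have hJM : J = M := by
      have hJn : J.Normal := by rw [hJ]; exact Subgroup.normalClosure_normal
      have hJle : J ≤ M := by
        rw [hJ]; apply Subgroup.normalClosure_le_normal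
        rintro _ ⟨y, hy, rfl⟩
        exact hM1le hy
      rcases hMmin J hJn hJle with h | h
      · exfalso
        apply hM1ne
        rw [eq_bot_iff]
        intro y hy
        have : (y : G) ∈ J := by rw [hJ]; exact Subgroup.subset_normalClosure ⟨y, hy, rfl⟩
        rw [h, Subgroup.mem_bot] at this
        rw [Subgroup.mem_bot]; exact Subtype.ext this
      · exact h
    rw [← hJM, hJ]
    unfold Subgroup.normalClosure
    rw [Subgroup.closure_le]
    intro x hx
    rw [Group.mem_conjugatesOfSet_iff] at hx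
    obtain ⟨a, ⟨y, hy, rfl⟩, hconj⟩ := hx
    rw [isConj_iff] at hconj
    obtain ⟨g, rfl⟩ := hconj
    apply mem_normalizer_of_finite
    intro h hh
    have hy' := key g⁻¹ hy
    have h1 : g⁻¹ * h * g ∈ MulAut.conj g⁻¹ • H := by
      have := conj_mem_conj_smul g⁻¹ hh; rwa [inv_inv] at this
    have h1N : g⁻¹ * h * g ∈ N := by
      have := hNn.conj_mem h (hHN hh) g⁻¹; rwa [inv_inv] at this
    have h2 := (Subgroup.mem_normalizer_iff.1 hy' ⟨g⁻¹ * h * g, h1N⟩).1
      (Subgroup.mem_subgroupOf.2 h1)
    have h3 : (y : G) * (g⁻¹ * h * g) * (y : G)⁻¹ ∈ MulAut.conj g⁻¹ • H :=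
      Subgroup.mem_subgroupOf.1 h2
    rw [mem_conj_smul, inv_inv] at h3
    have e : g * (y : G) * g⁻¹ * h * (g * (y : G) * g⁻¹)⁻¹ =
        g * ((y : G) * (g⁻¹ * h * g) * (y : G)⁻¹) * g⁻¹ := by group
    show g * (y : G) * g⁻¹ * h * (g * (y : G) * g⁻¹)⁻¹ ∈ H
    rw [e]; exact h3

/-- Wielandt: the join of two subnormal subgroups of a finite group is subnormal -/
theorem subnormal_sup : ∀ n : ℕ, ∀ (G : Type u) [Group G] [Finite G], Nat.card G = n →
    ∀ A B : Subgroup G, A.IsSubnormal → B.IsSubnormal → (A ⊔ B).IsSubnormal := by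
  intro n
  induction n using Nat.strong_induction_on with
  | _ n ih =>
  intro G _ _ hn A B hA hB
  by_cases htriv : (⊤ : Subgroup G) = ⊥
  · have : A ⊔ B = ⊤ := by
      rw [htriv, eq_bot_iff, ← htriv]; exact le_top
    rw [this]; exact Subgroup.IsSubnormal.top
  obtain ⟨M, hMn, -, hMne, hMmin⟩ :=
    exists_minimal_normal_le (⊤ : Subgroup G) inferInstance htriv
  haveI := hMn
  have hcard : Nat.card (G ⧸ M) < n := by rw [← hn]; exact card_quotient_lt_of_ne_bot M hMne
  have h1 := ih _ hcard (G ⧸ M) rfl _ _ (hA.map (QuotientGroup.mk'_surjective M))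
    (hB.map (QuotientGroup.mk'_surjective M))
  have h2 := h1.comap (QuotientGroup.mk' M)
  rw [← Subgroup.map_sup, Subgroup.comap_map_eq, QuotientGroup.ker_mk'] at h2
  have hMA := minNormal_le_normalizer_subnormal _ G rfl A hA M hMn hMne hMmin
  have hMB := minNormal_le_normalizer_subnormal _ G rfl B hB M hMn hMne hMmin
  have hMJ : M ≤ Subgroup.normalizer ((A ⊔ B : Subgroup G) : Set G) := by
    intro m hm
    apply mem_normalizer_of_conj_smul_eq
    rw [Subgroup.smul_sup, conj_smul_eq_self_of_mem_normalizer (hMA hm),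
      conj_smul_eq_self_of_mem_normalizer (hMB hm)]
  have hle : A ⊔ B ⊔ M ≤ Subgroup.normalizer ((A ⊔ B : Subgroup G) : Set G) :=
    sup_le Subgroup.le_normalizer hMJ
  have hnorm : ((A ⊔ B).subgroupOf (A ⊔ B ⊔ M)).Normal :=
    Subgroup.normal_subgroupOf_of_le_normalizer hle
  exact Subgroup.IsSubnormal.trans le_sup_left hnorm.isSubnormal h2

/-- the join of a family of subnormal subgroups of a finite group is subnormal -/
theorem subnormal_sSup {G : Type u} [Group G] [Finite G] (S : Set (Subgroup G))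
    (hS : ∀ U ∈ S, U.IsSubnormal) : (sSup S).IsSubnormal := by
  have hfin : S.Finite := Set.toFinite S
  induction S, hfin using Set.Finite.induction_on with
  | empty => rw [sSup_empty]; exact Subgroup.IsSubnormal.bot
  | insert ha hs ih =>
    rename_i a s
    rw [sSup_insert]
    exact subnormal_sup _ G rfl _ _ (hS a (Set.mem_insert a s))
      (ih (fun U hU => hS U (Set.mem_insert_of_mem a hU)))

end Cfsg.Agent.Lib.Helper1
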