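import Mathlib
import Cfsg.Prelude.Def_Transfer
import Cfsg.Prelude.Def_PLocal

/-!
Basic facts on elementary abelian subgroups, the subgroups of largest order among them and
the Thompson subgroup (helper1).
-/

namespace Cfsg.Agent.Lib.Helper1

universe u

theorem card_sup_mul_card_inf {G : Type*} [Group G] [Finite G] (H N : Subgroup G)
    (h : H ≤ Subgroup.normalizer (N : Set G)) :
    Nat.card ↥(H ⊔ N) * Nat.card ↥(H ⊓ N) = Nat.card H * Nat.card N := by
  haveI := Subgroup.normal_subgroupOf_of_le_normalizer h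
  haveI := Subgroup.normal_subgroupOf_sup_of_le_normalizer h
  have e : Nat.card (↥H ⧸ N.subgroupOf H) = Nat.card (↥(H ⊔ N) ⧸ N.subgroupOf (H ⊔ N)) :=
    Nat.card_congr (QuotientGroup.quotientInfEquivProdNormalizerQuotient H N h).toEquiv
  have h1 := Subgroup.card_eq_card_quotient_mul_card_subgroup (N.subgroupOf H)
  have h2 := Subgroup.card_eq_card_quotient_mul_card_subgroup (N.subgroupOf (H ⊔ N))
  have h3 : Nat.card (N.subgroupOf H) = Nat.card ↥(H ⊓ N) := by
    rw [← Subgroup.inf_subgroupOf_left]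
    exact Nat.card_congr (Subgroup.subgroupOfEquivOfLe inf_le_left).toEquiv
  have h4 : Nat.card (N.subgroupOf (H ⊔ N)) = Nat.card N :=
    Nat.card_congr (Subgroup.subgroupOfEquivOfLe le_sup_right).toEquiv
  rw [h1, h2, h3, h4, e]; ring

section EA

variable {G : Type u} [Group G] {p : ℕ}

theorem ea_comm {A : Subgroup G} (hA : Cfsg.IsElementaryAbelian p A) {a b : G} (ha : a ∈ A)
    (hb : b ∈ A) : a * b = b * a := by
  have := hA.1.is_comm.comm ⟨a, ha⟩ ⟨b, hb⟩
  exact congrArg Subtype.val this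

theorem ea_of_comm {A : Subgroup G} (hc : ∀ a ∈ A, ∀ b ∈ A, a * b = b * a)
    (he : ∀ a ∈ A, a ^ p = 1) : Cfsg.IsElementaryAbelian p A :=
  ⟨⟨⟨fun a b => Subtype.ext (hc a a.2 b b.2)⟩⟩, he⟩

theorem ea_mono {A B : Subgroup G} (hB : Cfsg.IsElementaryAbelian p B) (h : A ≤ B) :
    Cfsg.IsElementaryAbelian p A :=
  ea_of_comm (fun _ ha _ hb => ea_comm hB (h ha) (h hb)) (fun a ha => hB.2 a (h ha))

theorem ea_bot : Cfsg.IsElementaryAbelian p (⊥ : Subgroup G) :=
  ea_of_comm (fun a ha b hb => by rw [Subgroup.mem_bot] at ha hb; rw [ha, hb])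
    (fun a ha => by rw [Subgroup.mem_bot] at ha; rw [ha, one_pow])

theorem ea_zpowers (x : G) (hx : x ^ p = 1) : Cfsg.IsElementaryAbelian p (Subgroup.zpowers x) := by
  refine ea_of_comm ?_ ?_
  · rintro a ⟨k, rfl⟩ b ⟨l, rfl⟩
    exact (Commute.zpow_zpow (Commute.refl x) k l).eq
  · rintro a ⟨k, rfl⟩
    show (x ^ k) ^ p = 1
    rw [← zpow_natCast, ← zpow_mul, mul_comm, zpow_mul, zpow_natCast, hx, one_zpow]

theorem ea_sup {A B : Subgroup G} (hA : Cfsg.IsElementaryAbelian p A)
    (hB : Cfsg.IsElementaryAbelian p B) (hc : ∀ a ∈ A, ∀ b ∈ B, a * b = b * a) :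
    Cfsg.IsElementaryAbelian p (A ⊔ B) := by
  have h1 : A ⊔ B ≤ Subgroup.centralizer (A : Set G) := by
    refine sup_le ?_ ?_
    · intro a ha
      rw [Subgroup.mem_centralizer_iff]
      intro b hb
      exact ea_comm hA hb ha
    · intro b hb
      rw [Subgroup.mem_centralizer_iff]
      intro a ha
      exact hc a ha b hb
  have h2 : A ⊔ B ≤ Subgroup.centralizer (B : Set G) := by
    refine sup_le ?_ ?_
    · intro a ha
      rw [Subgroup.mem_centralizer_iff]
      intro b hb
      exact (hc a ha b hb).symm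
    · intro b hb
      rw [Subgroup.mem_centralizer_iff]
      intro a ha
      exact ea_comm hB ha hb
  have h3 : A ⊔ B ≤ Subgroup.centralizer ((A ⊔ B : Subgroup G) : Set G) := by
    refine sup_le ?_ ?_
    · rw [Subgroup.le_centralizer_iff]; exact h1
    · rw [Subgroup.le_centralizer_iff]; exact h2
  have hcomm : ∀ a ∈ A ⊔ B, ∀ b ∈ A ⊔ B, a * b = b * a := by
    intro a ha b hb
    have := h3 hb
    rw [Subgroup.mem_centralizer_iff] at this
    exact this a ha
  refine ea_of_comm hcomm ?_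
  intro x hx
  rw [Subgroup.sup_eq_closure] at hx
  have hcl : ∀ y, y ∈ Subgroup.closure ((A : Set G) ∪ B) → y ∈ A ⊔ B := by
    intro y hy; rw [Subgroup.sup_eq_closure]; exact hy
  induction hx using Subgroup.closure_induction with
  | mem y hy =>
    rcases hy with hy | hy
    · exact hA.2 y hy
    · exact hB.2 y hy
  | one => exact one_pow p
  | mul y z hy hz ihy ihz =>
    have hyz : Commute y z := hcomm y (hcl y hy) z (hcl z hz)
    rw [hyz.mul_pow, ihy, ihz, one_mul]
  | inv y hy ihy => rw [inv_pow, ihy, inv_one]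

theorem ea_map {H : Type u} [Group H] (f : G →* H) {A : Subgroup G}
    (hA : Cfsg.IsElementaryAbelian p A) : Cfsg.IsElementaryAbelian p (A.map f) := by
  refine ea_of_comm ?_ ?_
  · rintro _ ⟨a, ha, rfl⟩ _ ⟨b, hb, rfl⟩
    rw [← map_mul, ← map_mul, ea_comm hA ha hb]
  · rintro _ ⟨a, ha, rfl⟩
    rw [← map_pow, hA.2 a ha, map_one]

theorem ea_of_map {H : Type u} [Group H] (f : G →* H) (hf : Function.Injective f) {A : Subgroup G}
    (hA : Cfsg.IsElementaryAbelian p (A.map f)) : Cfsg.IsElementaryAbelian p A := by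
  refine ea_of_comm ?_ ?_
  · intro a ha b hb
    apply hf
    rw [map_mul, map_mul]
    exact ea_comm hA (Subgroup.mem_map_of_mem f ha) (Subgroup.mem_map_of_mem f hb)
  · intro a ha
    apply hf
    rw [map_pow, map_one]
    exact hA.2 _ (Subgroup.mem_map_of_mem f ha)

theorem ea_isPGroup [Fact p.Prime] {A : Subgroup G} (hA : Cfsg.IsElementaryAbelian p A) :
    IsPGroup p A := by
  intro a
  refine ⟨1, ?_⟩
  rw [pow_one]
  exact Subtype.ext (hA.2 a a.2)

theorem maxEA_nonempty [Finite G] : (Cfsg.maxElementaryAbelianSubgroups p G).Nonempty := by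
  have : Nonempty {A : Subgroup G // Cfsg.IsElementaryAbelian p A} := ⟨⟨⊥, ea_bot⟩⟩
  obtain ⟨A, hA⟩ := Finite.exists_max
    (fun A : {A : Subgroup G // Cfsg.IsElementaryAbelian p A} => Nat.card (A : Subgroup G))
  exact ⟨A.1, A.2, fun B hB => hA ⟨B, hB⟩⟩

theorem maxEA_le_thompson {A : Subgroup G} (hA : A ∈ Cfsg.maxElementaryAbelianSubgroups p G) :
    A ≤ Cfsg.thompsonSubgroup p G := le_sSup hA

theorem maxEA_map_equiv {H : Type u} [Group H] (e : G ≃* H) {A : Subgroup G}
    (hA : A ∈ Cfsg.maxElementaryAbelianSubgroups p G) :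
    A.map e.toMonoidHom ∈ Cfsg.maxElementaryAbelianSubgroups p H := by
  refine ⟨ea_map _ hA.1, ?_⟩
  intro B hB
  have h1 : Nat.card (A.map e.toMonoidHom) = Nat.card A :=
    Subgroup.card_map_of_injective e.injective
  have h2 : Nat.card (B.map e.symm.toMonoidHom) = Nat.card B :=
    Subgroup.card_map_of_injective e.symm.injective
  rw [h1, ← h2]
  exact hA.2 _ (ea_map _ hB)

/-- Largest elementary abelian subgroups of a subgroup `U` containing one of `G`. -/
theorem maxEA_subgroup_iff (U : Subgroup G) {A₀ : Subgroup G}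
    (hA₀ : A₀ ∈ Cfsg.maxElementaryAbelianSubgroups p G) (hle : A₀ ≤ U) (B : Subgroup U) :
    B ∈ Cfsg.maxElementaryAbelianSubgroups p U ↔
      B.map U.subtype ∈ Cfsg.maxElementaryAbelianSubgroups p G := by
  have hcard : ∀ C : Subgroup U, Nat.card (C.map U.subtype) = Nat.card C := fun C =>
    Subgroup.card_map_of_injective U.subtype_injective
  constructor
  · intro hB
    refine ⟨ea_map _ hB.1, ?_⟩
    intro C hC
    have h1 : Cfsg.IsElementaryAbelian p (A₀.subgroupOf U) := by
      apply ea_of_map U.subtype U.subtype_injective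
      rw [Subgroup.map_subgroupOf_eq_of_le hle]
      exact hA₀.1
    have h2 := hB.2 _ h1
    have h3 : Nat.card (A₀.subgroupOf U) = Nat.card A₀ :=
      Nat.card_congr (Subgroup.subgroupOfEquivOfLe hle).toEquiv
    rw [hcard]
    exact (hA₀.2 C hC).trans (h3 ▸ h2)
  · intro hB
    refine ⟨ea_of_map U.subtype U.subtype_injective hB.1, ?_⟩
    intro C hC
    have := hB.2 _ (ea_map U.subtype hC)
    rwa [hcard, hcard] at this

theorem thompsonOf_eq (U : Subgroup G) {A₀ : Subgroup G}
    (hA₀ : A₀ ∈ Cfsg.maxElementaryAbelianSubgroups p G) (hle : A₀ ≤ U) :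
    Cfsg.thompsonSubgroupOf p U
      = sSup {A | A ∈ Cfsg.maxElementaryAbelianSubgroups p G ∧ A ≤ U} := by
  unfold Cfsg.thompsonSubgroupOf Cfsg.thompsonSubgroup
  apply le_antisymm
  · rw [Subgroup.map_le_iff_le_comap]
    apply sSup_le
    intro B hB
    rw [← Subgroup.map_le_iff_le_comap]
    exact le_sSup ⟨(maxEA_subgroup_iff U hA₀ hle B).1 hB, Subgroup.map_subtype_le B⟩
  · apply sSup_le
    rintro A ⟨hA, hAU⟩
    have h1 : (A.subgroupOf U).map U.subtype = A := Subgroup.map_subgroupOf_eq_of_le hAU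
    have h2 : A.subgroupOf U ∈ Cfsg.maxElementaryAbelianSubgroups p U := by
      rw [maxEA_subgroup_iff U hA₀ hle, h1]; exact hA
    rw [← h1]
    exact Subgroup.map_mono (le_sSup h2)

end EA

end Cfsg.Agent.Lib.Helper1
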