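import Mathlib
import Cfsg.Agent.Lib.Helper9.M24Stab
import Cfsg.Agent.Lib.Helper9.M24Syl

/-!
Data for the structure of the trio stabiliser: the normal subgroup of order 64 and a complement
isomorphic to `GL(3,2) × S₃`, with the table checks (helper1).
-/

set_option autoImplicit false

open scoped Pointwise

namespace Cfsg.Agent.Lib.Helper1.Trio64

open Cfsg Cfsg.Agent.Lib.Helper9

def L64 : List (List ℕ) :=
  [[0, 1, 2, 3, 4, 5, 6, 7, 8, 9, 10, 11, 12, 13, 14, 15, 16, 17, 18, 19, 20, 21, 22, 23],
   [0, 1, 2, 3, 11, 5, 10, 9, 13, 7, 6, 4, 22, 8, 14, 21, 18, 17, 16, 20, 19, 15, 12, 23],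
   [0, 1, 2, 3, 12, 5, 9, 10, 16, 6, 7, 22, 4, 18, 14, 19, 8, 17, 13, 15, 21, 20, 11, 23],
   [0, 1, 2, 3, 15, 5, 18, 8, 7, 13, 16, 21, 19, 9, 14, 4, 10, 17, 6, 12, 22, 11, 20, 23],
   [0, 1, 2, 3, 19, 5, 13, 16, 10, 18, 8, 20, 15, 6, 14, 12, 7, 17, 9, 4, 11, 22, 21, 23],
   [0, 1, 2, 3, 20, 5, 8, 18, 6, 16, 13, 19, 21, 10, 14, 22, 9, 17, 7, 11, 4, 12, 15, 23],
   [0, 1, 2, 3, 21, 5, 16, 13, 9, 8, 18, 15, 20, 7, 14, 11, 6, 17, 10, 22, 12, 4, 19, 23],
   [0, 1, 2, 3, 22, 5, 7, 6, 18, 10, 9, 12, 11, 16, 14, 20, 13, 17, 8, 21, 15, 19, 4, 23],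
   [1, 0, 17, 23, 4, 14, 10, 9, 13, 7, 6, 11, 12, 8, 5, 15, 18, 2, 16, 19, 20, 21, 22, 3],
   [1, 0, 17, 23, 11, 14, 6, 7, 8, 9, 10, 4, 22, 13, 5, 21, 16, 2, 18, 20, 19, 15, 12, 3],
   [1, 0, 17, 23, 12, 14, 7, 6, 18, 10, 9, 22, 4, 16, 5, 19, 13, 2, 8, 15, 21, 20, 11, 3],
   [1, 0, 17, 23, 15, 14, 16, 13, 9, 8, 18, 21, 19, 7, 5, 4, 6, 2, 10, 12, 22, 11, 20, 3],
   [1, 0, 17, 23, 19, 14, 8, 18, 6, 16, 13, 20, 15, 10, 5, 12, 9, 2, 7, 4, 11, 22, 21, 3],
   [1, 0, 17, 23, 20, 14, 13, 16, 10, 18, 8, 19, 21, 6, 5, 22, 7, 2, 9, 11, 4, 12, 15, 3],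
   [1, 0, 17, 23, 21, 14, 18, 8, 7, 13, 16, 15, 20, 9, 5, 11, 10, 2, 6, 22, 12, 4, 19, 3],
   [1, 0, 17, 23, 22, 14, 9, 10, 16, 6, 7, 12, 11, 18, 5, 20, 8, 2, 13, 21, 15, 19, 4, 3],
   [2, 17, 0, 5, 4, 3, 18, 8, 7, 13, 16, 11, 12, 9, 23, 15, 10, 1, 6, 19, 20, 21, 22, 14],
   [2, 17, 0, 5, 11, 3, 16, 13, 9, 8, 18, 4, 22, 7, 23, 21, 6, 1, 10, 20, 19, 15, 12, 14],
   [2, 17, 0, 5, 12, 3, 13, 16, 10, 18, 8, 22, 4, 6, 23, 19, 7, 1, 9, 15, 21, 20, 11, 14],
   [2, 17, 0, 5, 15, 3, 6, 7, 8, 9, 10, 21, 19, 13, 23, 4, 16, 1, 18, 12, 22, 11, 20, 14],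
   [2, 17, 0, 5, 19, 3, 9, 10, 16, 6, 7, 20, 15, 18, 23, 12, 8, 1, 13, 4, 11, 22, 21, 14],
   [2, 17, 0, 5, 20, 3, 7, 6, 18, 10, 9, 19, 21, 16, 23, 22, 13, 1, 8, 11, 4, 12, 15, 14],
   [2, 17, 0, 5, 21, 3, 10, 9, 13, 7, 6, 15, 20, 8, 23, 11, 18, 1, 16, 22, 12, 4, 19, 14],
   [2, 17, 0, 5, 22, 3, 8, 18, 6, 16, 13, 12, 11, 10, 23, 20, 9, 1, 7, 21, 15, 19, 4, 14],
   [3, 23, 5, 0, 4, 2, 8, 18, 6, 16, 13, 11, 12, 10, 17, 15, 9, 14, 7, 19, 20, 21, 22, 1],
   [3, 23, 5, 0, 11, 2, 13, 16, 10, 18, 8, 4, 22, 6, 17, 21, 7, 14, 9, 20, 19, 15, 12, 1],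
   [3, 23, 5, 0, 12, 2, 16, 13, 9, 8, 18, 22, 4, 7, 17, 19, 6, 14, 10, 15, 21, 20, 11, 1],
   [3, 23, 5, 0, 15, 2, 7, 6, 18, 10, 9, 21, 19, 16, 17, 4, 13, 14, 8, 12, 22, 11, 20, 1],
   [3, 23, 5, 0, 19, 2, 10, 9, 13, 7, 6, 20, 15, 8, 17, 12, 18, 14, 16, 4, 11, 22, 21, 1],
   [3, 23, 5, 0, 20, 2, 6, 7, 8, 9, 10, 19, 21, 13, 17, 22, 16, 14, 18, 11, 4, 12, 15, 1],
   [3, 23, 5, 0, 21, 2, 9, 10, 16, 6, 7, 15, 20, 18, 17, 11, 8, 14, 13, 22, 12, 4, 19, 1],
   [3, 23, 5, 0, 22, 2, 18, 8, 7, 13, 16, 12, 11, 9, 17, 20, 10, 14, 6, 21, 15, 19, 4, 1],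
   [5, 14, 3, 2, 4, 0, 7, 6, 18, 10, 9, 11, 12, 16, 1, 15, 13, 23, 8, 19, 20, 21, 22, 17],
   [5, 14, 3, 2, 11, 0, 9, 10, 16, 6, 7, 4, 22, 18, 1, 21, 8, 23, 13, 20, 19, 15, 12, 17],
   [5, 14, 3, 2, 12, 0, 10, 9, 13, 7, 6, 22, 4, 8, 1, 19, 18, 23, 16, 15, 21, 20, 11, 17],
   [5, 14, 3, 2, 15, 0, 8, 18, 6, 16, 13, 21, 19, 10, 1, 4, 9, 23, 7, 12, 22, 11, 20, 17],
   [5, 14, 3, 2, 19, 0, 16, 13, 9, 8, 18, 20, 15, 7, 1, 12, 6, 23, 10, 4, 11, 22, 21, 17],
   [5, 14, 3, 2, 20, 0, 18, 8, 7, 13, 16, 19, 21, 9, 1, 22, 10, 23, 6, 11, 4, 12, 15, 17],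
   [5, 14, 3, 2, 21, 0, 13, 16, 10, 18, 8, 15, 20, 6, 1, 11, 7, 23, 9, 22, 12, 4, 19, 17],
   [5, 14, 3, 2, 22, 0, 6, 7, 8, 9, 10, 12, 11, 13, 1, 20, 16, 23, 18, 21, 15, 19, 4, 17],
   [14, 5, 23, 17, 4, 1, 9, 10, 16, 6, 7, 11, 12, 18, 0, 15, 8, 3, 13, 19, 20, 21, 22, 2],
   [14, 5, 23, 17, 11, 1, 7, 6, 18, 10, 9, 4, 22, 16, 0, 21, 13, 3, 8, 20, 19, 15, 12, 2],
   [14, 5, 23, 17, 12, 1, 6, 7, 8, 9, 10, 22, 4, 13, 0, 19, 16, 3, 18, 15, 21, 20, 11, 2],
   [14, 5, 23, 17, 15, 1, 13, 16, 10, 18, 8, 21, 19, 6, 0, 4, 7, 3, 9, 12, 22, 11, 20, 2],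
   [14, 5, 23, 17, 19, 1, 18, 8, 7, 13, 16, 20, 15, 9, 0, 12, 10, 3, 6, 4, 11, 22, 21, 2],
   [14, 5, 23, 17, 20, 1, 16, 13, 9, 8, 18, 19, 21, 7, 0, 22, 6, 3, 10, 11, 4, 12, 15, 2],
   [14, 5, 23, 17, 21, 1, 8, 18, 6, 16, 13, 15, 20, 10, 0, 11, 9, 3, 7, 22, 12, 4, 19, 2],
   [14, 5, 23, 17, 22, 1, 10, 9, 13, 7, 6, 12, 11, 8, 0, 20, 18, 3, 16, 21, 15, 19, 4, 2],
   [17, 2, 1, 14, 4, 23, 16, 13, 9, 8, 18, 11, 12, 7, 3, 15, 6, 0, 10, 19, 20, 21, 22, 5],
   [17, 2, 1, 14, 11, 23, 18, 8, 7, 13, 16, 4, 22, 9, 3, 21, 10, 0, 6, 20, 19, 15, 12, 5],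
   [17, 2, 1, 14, 12, 23, 8, 18, 6, 16, 13, 22, 4, 10, 3, 19, 9, 0, 7, 15, 21, 20, 11, 5],
   [17, 2, 1, 14, 15, 23, 10, 9, 13, 7, 6, 21, 19, 8, 3, 4, 18, 0, 16, 12, 22, 11, 20, 5],
   [17, 2, 1, 14, 19, 23, 7, 6, 18, 10, 9, 20, 15, 16, 3, 12, 13, 0, 8, 4, 11, 22, 21, 5],
   [17, 2, 1, 14, 20, 23, 9, 10, 16, 6, 7, 19, 21, 18, 3, 22, 8, 0, 13, 11, 4, 12, 15, 5],
   [17, 2, 1, 14, 21, 23, 6, 7, 8, 9, 10, 15, 20, 13, 3, 11, 16, 0, 18, 22, 12, 4, 19, 5],
   [17, 2, 1, 14, 22, 23, 13, 16, 10, 18, 8, 12, 11, 6, 3, 20, 7, 0, 9, 21, 15, 19, 4, 5],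
   [23, 3, 14, 1, 4, 17, 13, 16, 10, 18, 8, 11, 12, 6, 2, 15, 7, 5, 9, 19, 20, 21, 22, 0],
   [23, 3, 14, 1, 11, 17, 8, 18, 6, 16, 13, 4, 22, 10, 2, 21, 9, 5, 7, 20, 19, 15, 12, 0],
   [23, 3, 14, 1, 12, 17, 18, 8, 7, 13, 16, 22, 4, 9, 2, 19, 10, 5, 6, 15, 21, 20, 11, 0],
   [23, 3, 14, 1, 15, 17, 9, 10, 16, 6, 7, 21, 19, 18, 2, 4, 8, 5, 13, 12, 22, 11, 20, 0],
   [23, 3, 14, 1, 19, 17, 6, 7, 8, 9, 10, 20, 15, 13, 2, 12, 16, 5, 18, 4, 11, 22, 21, 0],
   [23, 3, 14, 1, 20, 17, 10, 9, 13, 7, 6, 19, 21, 8, 2, 22, 18, 5, 16, 11, 4, 12, 15, 0],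
   [23, 3, 14, 1, 21, 17, 7, 6, 18, 10, 9, 15, 20, 16, 2, 11, 13, 5, 8, 22, 12, 4, 19, 0],
   [23, 3, 14, 1, 22, 17, 16, 13, 9, 8, 18, 12, 11, 7, 2, 20, 6, 5, 10, 21, 15, 19, 4, 0]]

def tabB : List (List ℕ) :=
  [[0, 1, 2, 3, 4, 5, 6, 7, 8, 9, 10, 11, 12, 13, 14, 15, 16, 17, 18, 19, 20, 21, 22, 23],
   [0, 1, 2, 3, 4, 5, 6, 7, 8, 9, 10, 11, 12, 13, 14, 15, 16, 17, 18, 19, 20, 21, 22, 23],
   [19, 20, 12, 11, 23, 21, 6, 7, 8, 9, 10, 3, 2, 13, 15, 14, 16, 22, 18, 0, 1, 5, 17, 4],
   [0, 1, 2, 3, 8, 5, 20, 15, 4, 21, 19, 13, 16, 11, 14, 7, 12, 17, 22, 10, 6, 9, 18, 23],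
   [0, 1, 2, 3, 4, 5, 6, 7, 8, 9, 10, 11, 12, 13, 14, 15, 16, 17, 18, 19, 20, 21, 22, 23],
   [10, 6, 16, 13, 23, 9, 20, 15, 4, 21, 19, 3, 2, 11, 7, 14, 12, 18, 22, 0, 1, 5, 17, 8],
   [19, 20, 12, 11, 8, 21, 1, 14, 23, 5, 0, 13, 16, 3, 15, 7, 2, 22, 17, 10, 6, 9, 18, 4],
   [10, 6, 16, 13, 4, 9, 1, 14, 23, 5, 0, 11, 12, 3, 7, 15, 2, 18, 17, 19, 20, 21, 22, 8],
   [0, 1, 2, 3, 4, 5, 6, 7, 8, 9, 10, 11, 12, 13, 14, 15, 16, 17, 18, 19, 20, 21, 22, 23]]

def swapL : List (List ℕ) :=
  [[0, 1, 2, 3, 8, 5, 20, 15, 4, 21, 19, 13, 16, 11, 14, 7, 12, 17, 22, 10, 6, 9, 18, 23],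
   [10, 6, 16, 13, 4, 9, 1, 14, 23, 5, 0, 11, 12, 3, 7, 15, 2, 18, 17, 19, 20, 21, 22, 8],
   [19, 20, 12, 11, 23, 21, 6, 7, 8, 9, 10, 3, 2, 13, 15, 14, 16, 22, 18, 0, 1, 5, 17, 4]]


/-- Membership test for the base trio stabiliser. -/
def memT (l : List ℕ) : Bool := isM24L l && sameSet (T0l.map (actM l 0)) T0l

set_option maxRecDepth 100000 in
/-- Representatives of the matrices, by entries (a decision tree on the nine entries). -/
def repA (a b c d e f g h i : Bool) : List ℕ :=
  (cond a
   (cond b
    (cond c
     (cond d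
      (cond e
       (cond f
        []
        (cond g
         (cond h
          []
          (cond i
           [17, 14, 0, 2, 21, 1, 7, 8, 9, 6, 18, 12, 19, 16, 23, 4, 10, 3, 13, 22, 15, 20, 11, 5]
           [14, 17, 5, 3, 19, 23, 18, 6, 10, 8, 7, 11, 21, 13, 1, 20, 9, 2, 16, 15, 22, 4, 12, 0]))
         (cond h
          (cond i
           [2, 3, 1, 17, 4, 0, 13, 9, 8, 10, 16, 22, 20, 18, 5, 21, 6, 14, 7, 12, 11, 19, 15, 23]
           [3, 2, 23, 14, 20, 5, 16, 10, 6, 9, 13, 15, 4, 7, 0, 19, 8, 17, 18, 11, 12, 21, 22, 1])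
          [])))
       (cond f
        (cond g
         (cond h
          (cond i
           []
           [2, 5, 3, 17, 15, 23, 9, 6, 7, 8, 16, 22, 11, 18, 1, 20, 13, 0, 10, 12, 21, 4, 19, 14])
          (cond i
           []
           [3, 0, 2, 14, 22, 1, 10, 8, 18, 6, 13, 15, 12, 7, 23, 4, 16, 5, 9, 11, 19, 20, 21, 17]))
         (cond h
          (cond i
           [17, 23, 14, 2, 11, 5, 8, 10, 13, 9, 18, 12, 15, 16, 0, 19, 7, 1, 6, 22, 4, 21, 20, 3]
           [])
          (cond i
           [14, 1, 17, 3, 12, 0, 6, 9, 16, 10, 7, 11, 22, 13, 5, 21, 18, 23, 8, 15, 20, 19, 4, 2]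
           [])))
        (cond g
         (cond h
          (cond i
           []
           [5, 2, 14, 0, 11, 1, 16, 8, 13, 6, 9, 19, 15, 10, 23, 4, 7, 17, 18, 21, 12, 20, 22, 3])
          (cond i
           [0, 3, 17, 5, 12, 23, 13, 6, 16, 8, 10, 21, 22, 9, 1, 20, 18, 14, 7, 19, 11, 4, 15, 2]
           []))
         (cond h
          (cond i
           []
           [23, 17, 3, 1, 15, 0, 18, 9, 7, 10, 8, 20, 11, 6, 5, 21, 13, 2, 16, 4, 22, 19, 12, 14])
          (cond i
           [1, 14, 2, 23, 22, 5, 7, 10, 18, 9, 6, 4, 12, 8, 0, 19, 16, 3, 13, 20, 15, 21, 11, 17]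
           [])))))
      (cond e
       (cond f
        (cond g
         (cond h
          (cond i
           []
           [17, 0, 23, 2, 20, 3, 10, 7, 6, 13, 18, 12, 4, 16, 14, 15, 8, 5, 9, 22, 19, 11, 21, 1])
          (cond i
           [2, 1, 5, 17, 19, 14, 6, 13, 10, 7, 16, 22, 21, 18, 3, 11, 9, 23, 8, 12, 20, 15, 4, 0]
           []))
         (cond h
          (cond i
           []
           [14, 5, 1, 3, 4, 2, 9, 18, 8, 16, 7, 11, 20, 13, 17, 22, 6, 0, 10, 15, 21, 12, 19, 23])
          (cond i
           [3, 23, 0, 14, 21, 17, 8, 16, 9, 18, 13, 15, 19, 7, 2, 12, 10, 1, 6, 11, 4, 22, 20, 5]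
           [])))
        (cond g
         (cond h
          (cond i
           []
           [0, 17, 1, 5, 4, 14, 18, 13, 8, 7, 10, 21, 20, 9, 3, 11, 6, 2, 16, 19, 22, 15, 12, 23])
          (cond i
           []
           [1, 2, 0, 23, 21, 3, 16, 7, 9, 13, 6, 4, 19, 8, 14, 15, 10, 17, 18, 20, 12, 11, 22, 5]))
         (cond h
          (cond i
           [5, 14, 23, 0, 20, 17, 7, 16, 6, 18, 9, 19, 4, 10, 2, 12, 8, 3, 13, 21, 15, 22, 11, 1]
           [])
          (cond i
           [23, 3, 5, 1, 19, 2, 13, 18, 10, 16, 8, 20, 21, 6, 17, 22, 9, 14, 7, 4, 11, 12, 15, 0]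
           []))))
       (cond f
        (cond g
         (cond h
          []
          (cond i
           [5, 23, 2, 0, 22, 3, 8, 7, 18, 13, 9, 19, 12, 10, 14, 15, 16, 1, 6, 21, 4, 11, 20, 17]
           [23, 5, 17, 1, 12, 14, 9, 13, 16, 7, 8, 20, 22, 6, 3, 11, 18, 0, 10, 4, 21, 15, 19, 2]))
         (cond h
          (cond i
           [0, 1, 3, 5, 15, 2, 6, 18, 7, 16, 10, 21, 11, 9, 17, 22, 13, 23, 8, 19, 20, 12, 4, 14]
           [1, 0, 14, 23, 11, 17, 10, 16, 13, 18, 6, 4, 15, 8, 2, 12, 7, 5, 9, 20, 19, 22, 21, 3])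
          []))
        [])))
     (cond d
      (cond e
       (cond f
        (cond g
         (cond h
          []
          (cond i
           [1, 23, 3, 5, 12, 17, 8, 7, 16, 18, 6, 21, 11, 9, 14, 15, 13, 0, 10, 20, 4, 22, 19, 2]
           [23, 1, 2, 0, 11, 14, 6, 18, 13, 7, 8, 19, 12, 10, 17, 22, 16, 5, 9, 4, 20, 15, 21, 3]))
         (cond h
          (cond i
           [5, 0, 17, 1, 15, 3, 10, 16, 7, 13, 9, 20, 22, 6, 2, 12, 18, 23, 8, 21, 19, 11, 4, 14]
           [0, 5, 14, 23, 22, 2, 9, 13, 18, 16, 10, 4, 15, 8, 3, 11, 7, 1, 6, 19, 21, 12, 20, 17])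
          []))
        [])
       (cond f
        (cond g
         (cond h
          (cond i
           [23, 1, 0, 14, 22, 2, 6, 9, 18, 16, 8, 15, 19, 7, 5, 21, 10, 3, 13, 4, 20, 12, 11, 17]
           [])
          (cond i
           []
           [1, 23, 5, 17, 15, 3, 8, 10, 7, 13, 6, 22, 21, 18, 0, 19, 9, 2, 16, 20, 4, 11, 12, 14]))
         (cond h
          (cond i
           []
           [5, 0, 1, 3, 12, 17, 10, 8, 16, 18, 9, 11, 20, 13, 23, 4, 6, 14, 7, 21, 19, 22, 15, 2])
          (cond i
           [0, 5, 23, 2, 11, 14, 9, 6, 13, 7, 10, 12, 4, 16, 1, 20, 8, 17, 18, 19, 21, 15, 22, 3]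
           [])))
        (cond g
         (cond h
          (cond i
           [1, 23, 17, 3, 19, 5, 8, 16, 10, 9, 6, 11, 22, 13, 2, 12, 18, 14, 7, 20, 4, 21, 15, 0]
           [])
          (cond i
           [23, 1, 14, 2, 21, 0, 6, 13, 9, 10, 8, 12, 15, 16, 3, 11, 7, 17, 18, 4, 20, 19, 22, 5]
           []))
         (cond h
          (cond i
           [0, 5, 2, 14, 20, 23, 9, 18, 6, 8, 10, 15, 12, 7, 17, 22, 16, 3, 13, 19, 21, 4, 11, 1]
           [])
          (cond i
           [5, 0, 3, 17, 4, 1, 10, 7, 8, 6, 9, 22, 11, 18, 14, 15, 13, 2, 16, 21, 19, 20, 12, 23]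
           [])))))
      (cond e
       (cond f
        (cond g
         (cond h
          (cond i
           [14, 3, 2, 23, 21, 0, 13, 18, 9, 10, 7, 4, 12, 8, 17, 22, 16, 1, 6, 15, 11, 19, 20, 5]
           [])
          (cond i
           []
           [3, 14, 17, 5, 4, 1, 7, 16, 8, 6, 13, 21, 22, 9, 2, 12, 18, 0, 10, 11, 15, 20, 19, 23]))
         (cond h
          (cond i
           []
           [17, 2, 3, 1, 19, 5, 16, 7, 10, 9, 18, 20, 11, 6, 14, 15, 13, 23, 8, 22, 12, 21, 4, 0])
          (cond i
           [2, 17, 14, 0, 20, 23, 18, 13, 6, 8, 16, 19, 15, 10, 3, 11, 7, 5, 9, 12, 22, 4, 21, 1]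
           [])))
        (cond g
         (cond h
          (cond i
           [3, 14, 5, 1, 12, 17, 7, 10, 16, 18, 13, 20, 21, 6, 0, 19, 9, 23, 8, 11, 15, 22, 4, 2]
           [])
          (cond i
           [14, 3, 23, 0, 22, 2, 13, 6, 18, 16, 7, 19, 4, 10, 1, 20, 8, 5, 9, 15, 11, 12, 21, 17]
           []))
         (cond h
          (cond i
           [2, 17, 0, 23, 11, 14, 18, 9, 13, 7, 16, 4, 19, 8, 5, 21, 10, 1, 6, 12, 22, 15, 20, 3]
           [])
          (cond i
           [17, 2, 1, 5, 15, 3, 16, 8, 7, 13, 18, 21, 20, 9, 23, 4, 6, 0, 10, 22, 12, 11, 19, 14]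
           []))))
       (cond f
        (cond g
         (cond h
          []
          (cond i
           [3, 14, 1, 17, 19, 5, 7, 8, 10, 9, 13, 22, 20, 18, 23, 4, 6, 2, 16, 11, 15, 21, 12, 0]
           [14, 3, 0, 2, 20, 23, 13, 9, 6, 8, 7, 12, 19, 16, 5, 21, 10, 17, 18, 15, 11, 4, 22, 1]))
         (cond h
          (cond i
           [17, 2, 5, 3, 4, 1, 16, 10, 8, 6, 18, 11, 21, 13, 0, 19, 9, 14, 7, 22, 12, 20, 15, 23]
           [2, 17, 23, 14, 21, 0, 18, 6, 9, 10, 16, 15, 4, 7, 1, 20, 8, 3, 13, 12, 22, 19, 11, 5])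
          []))
        []))))
    (cond c
     (cond d
      (cond e
       (cond f
        (cond g
         (cond h
          (cond i
           []
           [5, 2, 0, 1, 4, 14, 16, 18, 8, 7, 9, 20, 19, 6, 17, 22, 10, 3, 13, 21, 12, 15, 11, 23])
          (cond i
           []
           [0, 3, 5, 23, 20, 17, 13, 7, 6, 18, 10, 4, 21, 8, 14, 15, 9, 2, 16, 19, 11, 22, 12, 1]))
         (cond h
          (cond i
           [1, 14, 23, 5, 19, 2, 7, 13, 10, 16, 6, 21, 4, 9, 3, 11, 8, 17, 18, 20, 15, 12, 22, 0]
           [])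
          (cond i
           [23, 17, 1, 0, 21, 3, 18, 16, 9, 13, 8, 19, 20, 10, 2, 12, 6, 14, 7, 4, 22, 11, 15, 5]
           [])))
        (cond g
         (cond h
          (cond i
           [14, 17, 3, 23, 20, 5, 18, 16, 6, 9, 7, 4, 11, 8, 2, 12, 13, 0, 10, 15, 22, 21, 19, 1]
           [])
          (cond i
           []
           [17, 14, 2, 1, 4, 0, 7, 13, 8, 10, 18, 20, 12, 6, 3, 11, 16, 5, 9, 22, 15, 19, 21, 23]))
         (cond h
          (cond i
           []
           [2, 3, 17, 0, 21, 1, 13, 7, 9, 6, 16, 19, 22, 10, 14, 15, 18, 23, 8, 12, 11, 20, 4, 5])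
          (cond i
           [3, 2, 14, 5, 19, 23, 16, 18, 10, 8, 13, 21, 15, 9, 17, 22, 7, 1, 6, 11, 12, 4, 20, 0]
           []))))
       (cond f
        []
        (cond g
         (cond h
          (cond i
           [3, 0, 14, 1, 4, 2, 10, 9, 8, 16, 13, 20, 15, 6, 5, 21, 7, 17, 18, 11, 19, 12, 22, 23]
           [2, 5, 17, 23, 20, 3, 9, 10, 6, 13, 16, 4, 22, 8, 0, 19, 18, 14, 7, 12, 21, 11, 15, 1])
          [])
         (cond h
          (cond i
           [14, 1, 3, 0, 21, 17, 6, 8, 9, 18, 7, 19, 11, 10, 23, 4, 13, 2, 16, 15, 20, 22, 12, 5]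
           [17, 23, 2, 5, 19, 14, 8, 6, 10, 7, 18, 21, 12, 9, 1, 20, 16, 3, 13, 22, 4, 15, 11, 0])
          []))))
      (cond e
       (cond f
        (cond g
         (cond h
          (cond i
           [23, 5, 1, 14, 11, 17, 9, 10, 13, 18, 8, 15, 20, 7, 0, 19, 6, 2, 16, 4, 21, 22, 12, 3]
           [])
          (cond i
           []
           [5, 23, 0, 3, 15, 2, 8, 6, 7, 16, 9, 11, 19, 13, 1, 20, 10, 17, 18, 21, 4, 12, 22, 14]))
         (cond h
          (cond i
           []
           [0, 1, 5, 2, 22, 3, 6, 8, 18, 13, 10, 12, 21, 16, 23, 4, 9, 14, 7, 19, 20, 11, 15, 17])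
          (cond i
           [1, 0, 23, 17, 12, 14, 10, 9, 16, 7, 6, 22, 4, 18, 5, 21, 8, 3, 13, 20, 19, 15, 11, 2]
           [])))
        (cond g
         (cond h
          (cond i
           []
           [17, 0, 2, 3, 15, 23, 10, 9, 7, 8, 18, 11, 12, 13, 5, 21, 16, 1, 6, 22, 19, 4, 20, 14])
          (cond i
           []
           [2, 1, 17, 14, 11, 5, 6, 8, 13, 9, 16, 15, 22, 7, 23, 4, 18, 0, 10, 12, 20, 21, 19, 3]))
         (cond h
          (cond i
           [3, 23, 14, 17, 12, 0, 8, 6, 16, 10, 13, 22, 15, 18, 1, 20, 7, 5, 9, 11, 4, 19, 21, 2]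
           [])
          (cond i
           [14, 5, 3, 2, 22, 1, 9, 10, 18, 6, 7, 12, 11, 16, 0, 19, 13, 23, 8, 15, 21, 20, 4, 17]
           []))))
       (cond f
        (cond g
         (cond h
          (cond i
           [1, 2, 23, 3, 15, 0, 16, 18, 7, 10, 6, 11, 4, 13, 17, 22, 8, 5, 9, 20, 12, 19, 21, 14]
           [0, 17, 5, 14, 11, 1, 18, 16, 13, 6, 10, 15, 21, 7, 2, 12, 9, 23, 8, 19, 22, 20, 4, 3])
          [])
         (cond h
          (cond i
           [23, 3, 1, 2, 22, 5, 13, 7, 18, 9, 8, 12, 20, 16, 14, 15, 6, 0, 10, 4, 11, 21, 19, 17]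
           [5, 14, 0, 17, 12, 23, 7, 13, 16, 8, 9, 22, 19, 18, 3, 11, 10, 1, 6, 21, 15, 4, 20, 2])
          []))
        [])))
     (cond d
      (cond e
       (cond f
        (cond g
         (cond h
          (cond i
           []
           [2, 5, 23, 3, 19, 17, 9, 7, 10, 18, 16, 11, 4, 13, 14, 15, 8, 1, 6, 12, 21, 22, 20, 0])
          (cond i
           [3, 0, 1, 2, 21, 14, 10, 18, 9, 7, 13, 12, 20, 16, 17, 22, 6, 23, 8, 11, 19, 15, 4, 5]
           []))
         (cond h
          (cond i
           []
           [14, 1, 0, 17, 4, 3, 6, 16, 8, 13, 7, 22, 19, 18, 2, 12, 10, 5, 9, 15, 20, 11, 21, 23])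
          (cond i
           [17, 23, 5, 14, 20, 2, 8, 13, 6, 16, 18, 15, 21, 7, 3, 11, 9, 0, 10, 22, 4, 12, 19, 1]
           [])))
        (cond g
         (cond h
          (cond i
           [17, 14, 1, 0, 11, 2, 7, 9, 13, 16, 18, 19, 20, 10, 5, 21, 6, 23, 8, 22, 15, 12, 4, 3]
           [])
          (cond i
           [14, 17, 23, 5, 12, 3, 18, 10, 16, 13, 7, 21, 4, 9, 0, 19, 8, 1, 6, 15, 22, 11, 20, 2]
           []))
         (cond h
          (cond i
           [3, 2, 5, 23, 22, 14, 16, 6, 18, 7, 13, 4, 21, 8, 1, 20, 9, 0, 10, 11, 12, 15, 19, 17]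
           [])
          (cond i
           [2, 3, 0, 1, 15, 17, 13, 8, 7, 18, 16, 20, 19, 6, 23, 4, 10, 5, 9, 12, 11, 22, 21, 14]
           []))))
       (cond f
        (cond g
         (cond h
          (cond i
           [0, 3, 23, 17, 15, 5, 13, 16, 7, 9, 10, 22, 4, 18, 2, 12, 8, 1, 6, 19, 11, 21, 20, 14]
           [5, 2, 1, 14, 22, 0, 16, 13, 18, 10, 9, 15, 20, 7, 3, 11, 6, 23, 8, 21, 12, 19, 4, 17])
          [])
         (cond h
          (cond i
           [23, 17, 0, 3, 12, 1, 18, 7, 16, 6, 8, 11, 19, 13, 14, 15, 10, 5, 9, 4, 22, 20, 21, 2]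
           [1, 14, 5, 2, 11, 23, 7, 18, 13, 8, 6, 12, 21, 16, 17, 22, 9, 0, 10, 20, 15, 4, 19, 3])
          []))
        []))
      (cond e
       (cond f
        (cond g
         (cond h
          (cond i
           []
           [0, 17, 14, 1, 12, 5, 18, 8, 16, 9, 10, 20, 15, 6, 23, 4, 7, 3, 13, 19, 22, 21, 11, 2])
          (cond i
           [1, 2, 3, 0, 22, 23, 16, 9, 18, 8, 6, 19, 11, 10, 5, 21, 13, 14, 7, 20, 12, 4, 15, 17]
           []))
         (cond h
          (cond i
           []
           [23, 3, 2, 5, 15, 1, 13, 10, 7, 6, 8, 21, 12, 9, 0, 19, 16, 17, 18, 4, 11, 20, 22, 14])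
          (cond i
           [5, 14, 17, 23, 11, 0, 7, 6, 13, 10, 9, 4, 22, 8, 1, 20, 18, 2, 16, 21, 15, 19, 12, 3]
           [])))
        (cond g
         (cond h
          (cond i
           [5, 23, 3, 2, 20, 0, 8, 18, 6, 10, 9, 12, 11, 16, 17, 22, 13, 14, 7, 21, 4, 19, 15, 1]
           [])
          (cond i
           [23, 5, 14, 17, 19, 1, 9, 16, 10, 6, 8, 22, 15, 18, 2, 12, 7, 3, 13, 4, 21, 20, 11, 0]
           []))
         (cond h
          (cond i
           [1, 0, 17, 14, 21, 23, 10, 13, 9, 8, 6, 15, 22, 7, 3, 11, 18, 2, 16, 20, 19, 4, 12, 5]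
           [])
          (cond i
           [0, 1, 2, 3, 4, 5, 6, 7, 8, 9, 10, 11, 12, 13, 14, 15, 16, 17, 18, 19, 20, 21, 22, 23]
           []))))
       (cond f
        (cond g
         (cond h
          (cond i
           [2, 1, 14, 5, 4, 17, 6, 10, 8, 18, 16, 21, 15, 9, 0, 19, 7, 3, 13, 12, 20, 22, 11, 23]
           [17, 0, 3, 23, 21, 2, 10, 6, 9, 16, 18, 4, 11, 8, 1, 20, 13, 14, 7, 22, 19, 12, 15, 5])
          [])
         (cond h
          (cond i
           [14, 5, 2, 1, 19, 3, 9, 8, 10, 13, 7, 20, 12, 6, 23, 4, 16, 17, 18, 15, 21, 11, 22, 0]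
           [3, 23, 17, 0, 20, 14, 8, 9, 6, 7, 13, 19, 22, 10, 5, 21, 18, 2, 16, 11, 4, 15, 12, 1])
          []))
        [])))))
   (cond b
    (cond c
     (cond d
      (cond e
       (cond f
        (cond g
         (cond h
          (cond i
           []
           [1, 3, 14, 5, 22, 0, 13, 8, 18, 10, 6, 21, 15, 9, 23, 4, 7, 2, 16, 20, 11, 19, 12, 17])
          (cond i
           [5, 17, 2, 1, 11, 23, 18, 10, 13, 8, 9, 20, 12, 6, 0, 19, 16, 14, 7, 21, 22, 4, 15, 3]
           []))
         (cond h
          (cond i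
           []
           [23, 2, 17, 0, 15, 5, 16, 6, 7, 9, 8, 19, 22, 10, 1, 20, 18, 3, 13, 4, 12, 21, 11, 14])
          (cond i
           [0, 14, 3, 23, 12, 1, 7, 9, 16, 6, 10, 4, 11, 8, 5, 21, 13, 17, 18, 19, 15, 20, 22, 2]
           [])))
        (cond g
         (cond h
          (cond i
           [23, 0, 5, 14, 12, 3, 10, 6, 16, 13, 8, 15, 21, 7, 1, 20, 9, 17, 18, 4, 19, 11, 22, 2]
           [])
          (cond i
           []
           [0, 23, 1, 2, 15, 17, 8, 9, 7, 18, 10, 12, 20, 16, 5, 21, 6, 3, 13, 19, 4, 22, 11, 14]))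
         (cond h
          (cond i
           []
           [1, 5, 0, 17, 11, 2, 9, 8, 13, 16, 6, 22, 19, 18, 23, 4, 10, 14, 7, 20, 21, 12, 15, 3])
          (cond i
           [5, 1, 23, 3, 22, 14, 6, 10, 18, 7, 9, 11, 4, 13, 0, 19, 8, 2, 16, 21, 20, 15, 12, 17]
           []))))
       (cond f
        (cond g
         (cond h
          (cond i
           [14, 2, 17, 23, 19, 1, 16, 13, 10, 6, 7, 4, 22, 8, 3, 11, 18, 5, 9, 15, 12, 20, 21, 0]
           [])
          (cond i
           []
           [2, 14, 3, 0, 4, 5, 7, 18, 8, 9, 16, 19, 11, 10, 17, 22, 13, 1, 6, 12, 15, 21, 20, 23]))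
         (cond h
          (cond i
           []
           [3, 17, 2, 5, 20, 0, 18, 7, 6, 10, 13, 21, 12, 9, 14, 15, 16, 23, 8, 11, 22, 19, 4, 1])
          (cond i
           [17, 3, 14, 1, 21, 23, 13, 16, 9, 8, 18, 20, 15, 6, 2, 12, 7, 0, 10, 22, 11, 4, 19, 5]
           [])))
        (cond g
         (cond h
          (cond i
           []
           [3, 1, 23, 17, 21, 2, 6, 7, 9, 16, 13, 22, 4, 18, 14, 15, 8, 0, 10, 11, 20, 12, 19, 5])
          (cond i
           [17, 5, 0, 3, 20, 14, 9, 16, 6, 7, 18, 11, 19, 13, 2, 12, 10, 23, 8, 22, 21, 15, 4, 1]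
           []))
         (cond h
          (cond i
           []
           [14, 0, 5, 2, 4, 17, 10, 13, 8, 18, 7, 12, 21, 16, 3, 11, 9, 1, 6, 15, 19, 22, 20, 23])
          (cond i
           [2, 23, 1, 14, 19, 3, 8, 18, 10, 13, 16, 15, 20, 7, 17, 22, 6, 5, 9, 12, 4, 11, 21, 0]
           [])))))
      (cond e
       (cond f
        []
        (cond g
         (cond h
          (cond i
           [1, 17, 2, 3, 21, 14, 18, 8, 9, 7, 6, 11, 12, 13, 23, 4, 16, 0, 10, 20, 22, 15, 19, 5]
           [23, 14, 3, 2, 19, 17, 7, 6, 10, 18, 8, 12, 11, 16, 1, 20, 13, 5, 9, 4, 15, 22, 21, 0])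
          (cond i
           [0, 2, 17, 14, 4, 3, 16, 9, 8, 13, 10, 15, 22, 7, 5, 21, 18, 1, 6, 19, 12, 11, 20, 23]
           [5, 3, 14, 17, 20, 2, 13, 10, 6, 16, 9, 22, 15, 18, 0, 19, 7, 23, 8, 21, 11, 12, 4, 1]))
         []))
       (cond f
        (cond g
         (cond h
          (cond i
           [3, 5, 0, 1, 22, 23, 9, 7, 18, 8, 13, 20, 19, 6, 14, 15, 10, 2, 16, 11, 21, 4, 12, 17]
           [14, 23, 1, 0, 12, 5, 8, 13, 16, 9, 7, 19, 20, 10, 3, 11, 6, 17, 18, 15, 4, 21, 22, 2])
          (cond i
           [2, 0, 5, 23, 15, 1, 10, 18, 7, 6, 16, 4, 21, 8, 17, 22, 9, 3, 13, 12, 19, 20, 11, 14]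
           [17, 1, 23, 5, 11, 0, 6, 16, 13, 10, 18, 21, 4, 9, 2, 12, 8, 14, 7, 22, 20, 19, 15, 3]))
         [])
        [])))
     (cond d
      (cond e
       (cond f
        (cond g
         (cond h
          (cond i
           []
           [3, 1, 17, 2, 15, 23, 6, 10, 7, 8, 13, 12, 22, 16, 0, 19, 18, 5, 9, 11, 20, 4, 21, 14])
          (cond i
           []
           [17, 5, 3, 14, 12, 0, 9, 8, 16, 10, 18, 15, 11, 7, 23, 4, 13, 1, 6, 22, 21, 19, 20, 2]))
         (cond h
          (cond i
           [2, 23, 14, 3, 22, 1, 8, 9, 18, 6, 16, 11, 15, 13, 5, 21, 7, 0, 10, 12, 4, 20, 19, 17]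
           [])
          (cond i
           [14, 0, 2, 17, 11, 5, 10, 6, 13, 9, 7, 22, 12, 18, 1, 20, 16, 23, 8, 15, 19, 21, 4, 3]
           [])))
        (cond g
         (cond h
          (cond i
           [0, 23, 2, 17, 21, 1, 8, 13, 9, 6, 10, 22, 12, 18, 3, 11, 16, 14, 7, 19, 4, 20, 15, 5]
           [])
          (cond i
           [23, 0, 14, 3, 20, 5, 10, 18, 6, 9, 8, 11, 15, 13, 17, 22, 7, 2, 16, 4, 19, 21, 12, 1]
           []))
         (cond h
          (cond i
           [5, 1, 3, 14, 19, 23, 6, 16, 10, 8, 9, 15, 11, 7, 2, 12, 13, 17, 18, 21, 20, 4, 22, 0]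
           [])
          (cond i
           [1, 5, 17, 2, 4, 0, 9, 7, 8, 10, 6, 12, 22, 16, 14, 15, 18, 3, 13, 20, 21, 19, 11, 23]
           []))))
       (cond f
        (cond g
         (cond h
          (cond i
           []
           [1, 3, 5, 0, 4, 14, 13, 16, 8, 7, 6, 19, 21, 10, 2, 12, 9, 17, 18, 20, 11, 15, 22, 23])
          (cond i
           []
           [5, 17, 1, 23, 19, 2, 18, 7, 10, 16, 9, 4, 20, 8, 14, 15, 6, 3, 13, 21, 22, 12, 11, 0]))
         (cond h
          (cond i
           [0, 14, 23, 1, 21, 3, 7, 18, 9, 13, 10, 20, 4, 6, 17, 22, 8, 2, 16, 19, 15, 11, 12, 5]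
           [])
          (cond i
           [23, 2, 0, 5, 20, 17, 16, 13, 6, 18, 8, 21, 19, 9, 3, 11, 10, 14, 7, 4, 12, 22, 15, 1]
           [])))
        (cond g
         (cond h
          (cond i
           [2, 14, 0, 5, 22, 3, 7, 6, 18, 13, 16, 21, 19, 9, 1, 20, 10, 23, 8, 12, 15, 11, 4, 17]
           [])
          (cond i
           [14, 2, 23, 1, 11, 17, 16, 9, 13, 18, 7, 20, 4, 6, 5, 21, 8, 0, 10, 15, 12, 22, 19, 3]
           []))
         (cond h
          (cond i
           [17, 3, 1, 23, 12, 14, 13, 10, 16, 7, 18, 4, 20, 8, 0, 19, 6, 5, 9, 22, 11, 15, 21, 2]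
           [])
          (cond i
           [3, 17, 5, 0, 15, 2, 18, 8, 7, 16, 13, 19, 21, 10, 23, 4, 9, 1, 6, 11, 22, 12, 20, 14]
           [])))))
      (cond e
       (cond f
        (cond g
         (cond h
          (cond i
           [17, 1, 5, 0, 12, 23, 6, 7, 16, 8, 18, 19, 21, 10, 14, 15, 9, 3, 13, 22, 20, 4, 11, 2]
           [14, 23, 0, 5, 11, 1, 8, 18, 13, 6, 7, 21, 19, 9, 17, 22, 10, 2, 16, 15, 4, 20, 12, 3])
          (cond i
           [3, 5, 1, 23, 15, 0, 9, 16, 7, 10, 13, 4, 20, 8, 2, 12, 6, 17, 18, 11, 21, 19, 22, 14]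
           [2, 0, 23, 1, 22, 5, 10, 13, 18, 9, 16, 20, 4, 6, 3, 11, 8, 14, 7, 12, 19, 21, 15, 17]))
         [])
        [])
       (cond f
        (cond g
         (cond h
          (cond i
           [5, 3, 17, 2, 19, 14, 13, 8, 10, 7, 9, 12, 22, 16, 23, 4, 18, 1, 6, 21, 11, 15, 20, 0]
           [23, 14, 2, 17, 20, 3, 7, 9, 6, 13, 8, 22, 12, 18, 5, 21, 16, 0, 10, 4, 15, 11, 19, 1])
          (cond i
           [1, 17, 3, 14, 4, 2, 18, 10, 8, 16, 6, 15, 11, 7, 0, 19, 13, 5, 9, 20, 22, 12, 21, 23]
           [0, 2, 14, 3, 21, 17, 16, 6, 9, 18, 10, 11, 15, 13, 1, 20, 7, 23, 8, 19, 12, 22, 4, 5]))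
         [])
        []))))
    (cond c
     (cond d
      (cond e
       (cond f
        (cond g
         (cond h
          []
          (cond i
           [2, 14, 5, 3, 20, 0, 7, 8, 6, 10, 16, 11, 21, 13, 23, 4, 9, 17, 18, 12, 15, 19, 22, 1]
           [14, 2, 1, 17, 21, 23, 16, 10, 9, 8, 7, 22, 20, 18, 0, 19, 6, 3, 13, 15, 12, 4, 11, 5]))
         (cond h
          (cond i
           [3, 17, 0, 2, 4, 5, 18, 6, 8, 9, 13, 12, 19, 16, 1, 20, 10, 14, 7, 11, 22, 21, 15, 23]
           [17, 3, 23, 14, 19, 1, 13, 9, 10, 6, 18, 15, 4, 7, 5, 21, 8, 2, 16, 22, 11, 20, 12, 0])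
          []))
        (cond g
         (cond h
          []
          (cond i
           [0, 23, 17, 1, 11, 2, 8, 7, 13, 16, 10, 20, 22, 6, 14, 15, 18, 5, 9, 19, 4, 12, 21, 3]
           [23, 0, 3, 5, 22, 14, 10, 16, 18, 7, 8, 21, 11, 9, 2, 12, 13, 1, 6, 4, 19, 15, 20, 17]))
         (cond h
          (cond i
           [1, 5, 2, 0, 15, 17, 9, 13, 7, 18, 6, 19, 12, 10, 3, 11, 16, 23, 8, 20, 21, 22, 4, 14]
           [5, 1, 14, 23, 12, 3, 6, 18, 16, 13, 9, 4, 15, 8, 17, 22, 7, 0, 10, 21, 20, 11, 19, 2])
          [])))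
       (cond f
        (cond g
         (cond h
          (cond i
           [17, 5, 14, 0, 4, 3, 9, 6, 8, 13, 18, 19, 15, 10, 1, 20, 7, 2, 16, 22, 21, 11, 12, 23]
           [3, 1, 2, 23, 19, 17, 6, 9, 10, 18, 13, 4, 12, 8, 5, 21, 16, 14, 7, 11, 20, 22, 15, 0])
          [])
         (cond h
          (cond i
           [14, 0, 17, 5, 20, 2, 10, 8, 6, 16, 7, 21, 22, 9, 23, 4, 18, 3, 13, 15, 19, 12, 11, 1]
           [2, 23, 3, 1, 21, 14, 8, 10, 9, 7, 16, 20, 11, 6, 0, 19, 13, 17, 18, 12, 4, 15, 22, 5])
          []))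
        (cond g
         (cond h
          (cond i
           [5, 17, 23, 2, 15, 1, 18, 13, 7, 6, 9, 12, 4, 16, 3, 11, 8, 0, 10, 21, 22, 20, 19, 14]
           [1, 3, 0, 14, 12, 5, 13, 18, 16, 9, 6, 15, 19, 7, 17, 22, 10, 23, 8, 20, 11, 21, 4, 2])
          [])
         (cond h
          (cond i
           [23, 2, 5, 17, 11, 0, 16, 7, 13, 10, 8, 22, 21, 18, 14, 15, 9, 1, 6, 4, 12, 19, 20, 3]
           [0, 14, 1, 3, 22, 23, 7, 16, 18, 8, 10, 11, 20, 13, 2, 12, 6, 5, 9, 19, 15, 4, 21, 17])
          []))))
      (cond e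
       (cond f
        (cond g
         (cond h
          (cond i
           [0, 2, 3, 17, 20, 14, 16, 8, 6, 7, 10, 22, 11, 18, 23, 4, 13, 5, 9, 19, 12, 15, 21, 1]
           [23, 14, 17, 3, 21, 2, 7, 10, 9, 16, 8, 11, 22, 13, 0, 19, 18, 1, 6, 4, 15, 12, 20, 5])
          (cond i
           [5, 3, 2, 14, 4, 17, 13, 6, 8, 18, 9, 15, 12, 7, 1, 20, 16, 0, 10, 21, 11, 22, 19, 23]
           [1, 17, 14, 2, 19, 3, 18, 9, 10, 13, 6, 12, 15, 16, 5, 21, 7, 23, 8, 20, 22, 11, 4, 0]))
         [])
        (cond g
         (cond h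
          (cond i
           [2, 0, 1, 5, 11, 23, 10, 7, 13, 8, 16, 21, 20, 9, 14, 15, 6, 17, 18, 12, 19, 4, 22, 3]
           [14, 23, 5, 1, 22, 0, 8, 16, 18, 10, 7, 20, 21, 6, 2, 12, 9, 3, 13, 15, 4, 19, 11, 17])
          (cond i
           [17, 1, 0, 23, 15, 5, 6, 13, 7, 9, 18, 4, 19, 8, 3, 11, 10, 2, 16, 22, 20, 21, 12, 14]
           [3, 5, 23, 0, 12, 1, 9, 18, 16, 6, 13, 19, 4, 10, 17, 22, 8, 14, 7, 11, 21, 20, 15, 2]))
         []))
       []))
     [])))

/-- The determinant of a 3 × 3 matrix over the field with two elements, by entries. -/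
def det9 (a b c d e f g h i : Bool) : Bool :=
  ((((((a && e && i) ^^ (a && f && h)) ^^ (b && d && i)) ^^ (b && f && g)) ^^ (c && d && h)) ^^
    (c && e && g))

/-- The representative of a matrix given by the list of its entries. -/
def repL : List Bool → List ℕ
  | [a, b, c, d, e, f, g, h, i] => repA a b c d e f g h i
  | _ => []

/-- The product of two matrices given by the lists of their entries. -/
def tmul : List Bool → List Bool → List Bool
  | [a, b, c, d, e, f, g, h, i], [a', b', c', d', e', f', g', h', i'] =>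
    [((a && a') ^^ (b && d')) ^^ (c && g'),
     ((a && b') ^^ (b && e')) ^^ (c && h'),
     ((a && c') ^^ (b && f')) ^^ (c && i'),
     ((d && a') ^^ (e && d')) ^^ (f && g'),
     ((d && b') ^^ (e && e')) ^^ (f && h'),
     ((d && c') ^^ (e && f')) ^^ (f && i'),
     ((g && a') ^^ (h && d')) ^^ (i && g'),
     ((g && b') ^^ (h && e')) ^^ (i && h'),
     ((g && c') ^^ (h && f')) ^^ (i && i')]
  | _, _ => []

/-- The identity matrix, as a list of entries. -/
def idT : List Bool := [true, false, false, false, true, false, false, false, true]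

/-- The first generator, as a list of entries. -/
def g1T : List Bool := [true, true, true, true, false, false, true, true, false]

/-- The second generator, as a list of entries. -/
def g2T : List Bool := [false, true, true, true, true, false, false, true, false]

/-- The two generators. -/
def gensT : List (List Bool) := [g1T, g2T]

/-- All invertible matrices, each after the matrix it is obtained from by a generator. -/
def chainW : List (List Bool) :=
  [[false, true, false, true, false, false, false, false, true],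
   [true, true, true, false, false, true, false, true, false],
   [true, false, true, true, true, false, true, false, false],
   [false, true, false, true, true, true, true, false, false],
   [true, false, true, false, false, true, false, true, true],
   [true, true, true, true, false, true, false, false, true],
   [true, true, true, true, false, true, true, true, false],
   [false, true, true, true, false, false, true, true, false],
   [true, false, false, false, false, true, false, true, false],
   [true, false, false, true, true, true, true, false, true],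
   [true, true, true, false, true, false, true, true, false],
   [false, true, true, true, false, false, false, true, false],
   [true, false, true, true, false, false, true, true, false],
   [false, false, true, false, true, false, true, true, false],
   [true, false, true, false, true, true, true, true, true],
   [false, true, true, false, true, false, true, false, true],
   [true, false, false, true, true, false, true, false, true],
   [true, true, false, true, false, false, true, true, true],
   [true, false, false, true, false, true, false, true, true],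
   [false, true, true, false, true, false, true, true, false],
   [false, true, true, true, false, true, false, false, true],
   [false, false, true, false, true, true, true, false, true],
   [false, false, true, false, true, false, true, false, true],
   [true, false, false, true, true, true, false, false, true],
   [true, true, false, false, true, false, false, false, true],
   [true, true, true, false, true, true, true, true, false],
   [false, true, false, true, false, true, false, true, true],
   [true, false, false, false, true, false, true, false, true],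
   [false, true, false, true, false, false, true, true, true],
   [true, false, false, false, true, true, false, false, true],
   [true, true, false, false, true, false, false, true, true],
   [false, false, true, true, true, true, false, true, true],
   [false, true, true, false, true, false, true, false, false],
   [true, true, true, false, true, false, false, false, true],
   [true, false, false, false, true, true, false, true, false],
   [true, false, false, false, true, false, false, true, true],
   [false, true, false, false, true, true, true, true, false],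
   [false, true, false, false, true, true, true, true, true],
   [true, false, true, false, true, true, false, false, true],
   [true, true, true, true, true, false, true, false, false],
   [true, false, false, false, false, true, true, true, false],
   [false, true, true, true, true, false, false, false, true],
   [false, true, false, true, true, false, true, false, true],
   [false, false, true, false, true, true, true, true, false],
   [false, true, false, true, false, true, false, false, true],
   [true, false, false, true, true, false, false, false, true],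
   [true, true, false, false, true, true, true, true, true],
   [true, true, false, false, true, true, false, true, false],
   [true, false, false, false, true, true, true, false, true],
   [false, true, false, true, true, false, false, true, true],
   [false, true, true, true, true, true, true, true, false],
   [false, true, false, false, false, true, true, true, true],
   [true, false, false, true, true, false, true, true, true],
   [true, false, false, true, true, true, false, true, false],
   [false, false, true, true, false, true, true, true, true],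
   [true, true, false, true, false, true, true, false, false],
   [false, false, true, false, true, false, true, false, false],
   [true, true, true, true, true, false, false, true, false],
   [false, true, false, true, true, true, true, true, false],
   [true, false, true, false, false, true, false, true, false],
   [true, true, false, false, true, true, false, false, true],
   [true, true, false, true, true, true, true, false, true],
   [false, true, true, true, true, true, false, false, true],
   [true, false, true, true, true, false, true, true, true],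
   [false, true, false, true, false, false, true, false, true],
   [true, false, true, true, false, false, false, true, false],
   [false, true, true, true, true, false, true, false, false],
   [true, true, true, true, true, false, true, false, true],
   [true, true, true, true, false, true, true, false, false],
   [true, true, false, false, false, true, true, false, true],
   [false, true, true, false, false, true, true, true, true],
   [true, false, true, true, true, false, false, false, true],
   [true, false, true, false, false, true, true, true, false],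
   [false, true, false, true, true, true, false, false, true],
   [false, true, true, true, true, true, true, false, true],
   [false, true, false, false, false, true, true, false, true],
   [true, true, true, true, false, false, false, true, false],
   [false, false, true, true, true, false, true, false, false],
   [false, false, true, true, true, false, false, true, true],
   [false, true, false, true, true, false, true, true, true],
   [false, true, true, false, false, true, true, true, false],
   [false, false, true, false, true, true, true, true, true],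
   [true, false, true, true, false, false, false, true, true],
   [true, true, false, true, false, false, false, false, true],
   [false, true, true, true, false, true, true, false, false],
   [false, true, true, true, false, false, true, false, true],
   [false, true, false, false, false, true, true, false, false],
   [false, true, false, true, false, false, false, true, true],
   [true, false, true, true, true, true, true, false, false],
   [false, false, true, true, true, true, false, true, false],
   [true, true, false, true, true, true, false, true, false],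
   [false, true, true, true, false, true, true, true, true],
   [true, false, true, false, true, true, false, true, false],
   [true, false, false, false, false, true, false, true, true],
   [true, true, true, false, false, true, true, false, true],
   [false, true, true, true, false, false, false, false, true],
   [false, true, true, false, false, true, true, false, false],
   [true, true, false, true, false, true, false, false, true],
   [true, true, true, true, false, true, false, true, true],
   [false, false, true, true, true, false, true, false, true],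
   [true, true, false, false, false, true, false, true, true],
   [true, false, true, false, true, false, true, true, false],
   [false, false, true, true, false, false, false, true, false],
   [false, false, true, true, false, false, true, true, true],
   [true, true, false, true, false, false, true, false, true],
   [true, true, true, false, false, true, true, false, false],
   [false, true, true, false, true, false, true, true, true],
   [true, true, true, false, true, false, false, true, true],
   [true, true, false, false, false, true, false, true, false],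
   [true, false, false, false, false, true, true, true, true],
   [true, true, false, false, true, false, true, true, true],
   [false, true, true, true, false, true, false, true, false],
   [false, false, true, true, false, false, false, true, true],
   [true, true, false, true, true, true, true, false, false],
   [true, true, true, true, true, false, false, true, true],
   [false, true, false, true, false, true, true, true, false],
   [true, false, false, true, false, true, true, true, true],
   [true, true, false, false, true, false, true, false, true],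
   [true, true, false, true, false, true, false, true, false],
   [false, false, true, true, true, true, true, false, true],
   [true, false, false, true, true, true, true, true, false],
   [true, false, true, false, false, true, true, true, true],
   [false, false, true, true, false, true, true, true, false],
   [true, true, true, false, true, true, false, false, true],
   [true, false, true, false, true, false, false, true, true],
   [true, false, true, false, true, false, true, false, false],
   [false, false, true, false, true, false, true, true, true],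
   [true, false, false, true, false, true, false, true, false],
   [true, false, true, true, false, false, true, true, true],
   [true, true, false, false, true, true, true, false, false],
   [false, true, false, false, true, true, true, false, true],
   [true, false, false, true, true, false, false, true, true],
   [true, false, false, false, true, true, true, true, false],
   [false, false, true, true, false, true, false, true, true],
   [false, true, false, true, false, true, true, false, false],
   [false, false, true, false, true, true, true, false, false],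
   [true, true, false, true, true, true, false, true, true],
   [true, false, true, true, true, true, false, false, true],
   [true, true, true, false, true, true, false, true, false],
   [true, false, true, false, true, true, true, false, false],
   [false, true, false, true, true, true, false, true, true],
   [true, true, true, false, true, false, true, false, false],
   [false, false, true, true, true, false, false, true, false],
   [false, true, true, true, true, false, true, true, true],
   [false, true, false, false, false, true, true, true, false],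
   [false, true, false, true, true, false, false, false, true],
   [true, false, true, true, true, true, true, true, false],
   [false, true, true, true, true, true, false, true, false],
   [true, true, false, true, false, true, true, true, true],
   [true, false, true, true, true, false, false, true, false],
   [false, false, true, true, false, false, true, true, false],
   [true, true, true, true, false, false, true, false, true],
   [true, true, false, false, false, true, true, false, false],
   [false, true, true, false, false, true, true, false, true],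
   [true, true, true, true, false, false, false, false, true],
   [true, true, false, true, false, false, false, true, true],
   [false, false, true, true, true, true, true, false, false],
   [true, true, true, false, false, true, false, true, true],
   [true, false, true, false, true, false, false, false, true],
   [true, false, false, false, true, false, true, true, true],
   [false, false, true, true, false, true, false, true, false],
   [true, false, false, true, false, true, true, true, false],
   [true, true, true, false, true, true, true, false, true],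
   [false, true, false, false, true, true, true, false, false],
   [true, false, true, true, true, true, false, true, true],
   [false, true, true, true, true, false, false, true, false],
   [true, true, true, true, false, false, true, true, false],
   [true, false, false, false, true, false, false, false, true]]

/-- Check that every entry of a list is the identity or a generator times a later entry. -/
def chainOK : List (List Bool) → Bool
  | [] => true
  | x :: rest => (x == idT || gensT.any (fun s => rest.any (fun y => x == tmul s y))) && chainOK rest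

theorem chain_ind {Q : List Bool → Prop} (h1 : Q idT)
    (hs : ∀ s ∈ gensT, ∀ y, Q y → Q (tmul s y)) :
    ∀ L : List (List Bool), chainOK L = true → ∀ x ∈ L, Q x := by
  intro L
  induction L with
  | nil => intro _ x hx; exact absurd hx List.not_mem_nil
  | cons a rest ih =>
    intro h x hx
    rw [chainOK, Bool.and_eq_true, Bool.or_eq_true] at h
    rcases List.mem_cons.1 hx with rfl | hx
    · rcases h.1 with h0 | h0
      · rw [beq_iff_eq] at h0
        rw [h0]
        exact h1
      · rw [List.any_eq_true] at h0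
        obtain ⟨s, hs', h0⟩ := h0
        rw [List.any_eq_true] at h0
        obtain ⟨y, hy, h0⟩ := h0
        rw [beq_iff_eq] at h0
        rw [h0]
        exact hs s hs' y (ih h.2 y hy)
    · exact ih h.2 x hx

/-- Representatives of the permutations of the three octads. -/
def repB (s0 s1 : Fin 3) : List ℕ := tabB.getD (s0.val * 3 + s1.val) idL

/-- The value of a permutation of three points given by its three values. -/
def apF (s0 s1 s2 : Fin 3) (y : Fin 3) : Fin 3 :=
  if y = 0 then s0 else if y = 1 then s1 else s2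

end Cfsg.Agent.Lib.Helper1.Trio64
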